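import Cfsg.Agent.Omega.NO1.NSix.Semi

/-!
# THEOREM LOW (#19191), P7 = (T3)-(T5): `B` on a bad block of a natural line

`M : NatK F S P U ⊥ k`, `B ≤ S` elementary abelian, `[U, B]` is centralised by `B`, `E` a subgroup such that no
`w ∈ U \ E` has only one image under the elements of `B` which move it (`t1` = (T1) + (I2)); block `i` is *bad* if
some `em M i x ∉ E`.

* `semi_dich` : two commuting quadratic semilinear involutions, one of them not linear, coincide or one is trivial;
* `QB.fix` : (T3), `B` fixes the bad blocks; `QB.linear` : (T4), `B` is `F`-linear on them;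
* `QB.exists_up` : every `b ∈ B` acts as `up β` on a bad block.
-/

set_option autoImplicit false
set_option linter.unusedSectionVars false

namespace Cfsg.Agent.Omega.NOThreeL.Low.Nat

open Subgroup Cfsg Cfsg.Agent.ZN Cfsg.Agent.Omega.FFThm Cfsg.Agent.Omega.Half
open Cfsg.Agent.Omega.Half.NatA
open Cfsg.Agent.Omega.NO1.NSix
open Cfsg.Agent.Omega.NatPair (ap ext2 ap_zero' ap_one')
open Cfsg.Agent.Lib.SL2Mat

universe u

/-! ### Algebra -/

section alg

variable {F : Type} [Field F] [CharP F 2]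

theorem vadd_self (x : Fin 2 → F) : x + x = 0 := by
  funext i
  rw [Pi.add_apply, CharTwo.add_self_eq_zero]; rfl

/-- Two semilinear maps `T`, `C` on `F²`, `T² = 1`, `C` fixes `x + T x`; if `T` is not linear then `C = 1` or
`C = T`. -/
theorem semi_dich {T C : (Fin 2 → F) → (Fin 2 → F)} {s t : F ≃+* F}
    (hCa : ∀ x y, C (x + y) = C x + C y)
    (hTs : ∀ (c : F) x, T (c • x) = s c • T x) (hCs : ∀ (c : F) x, C (c • x) = t c • C x)
    (hTT : ∀ x, T (T x) = x) (hq : ∀ x, C (x + T x) = x + T x) {l0 : F} (hl0 : s l0 ≠ l0) :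
    (∀ x, C x = x) ∨ ∀ x, C x = T x := by
  have h2 : (2 : F) = 0 := CharTwo.two_eq_zero
  set w : Fin 2 → F := ![1, 0] with hw
  have hss : ∀ c, s (s c) = c := by
    intro c
    have h1 := hTT (c • w)
    rw [hTs, hTs, hTT] at h1
    have h3 := congrFun h1 0
    simpa [hw] using h3
  set m : F := l0 + s l0 with hm
  have hm0 : m ≠ 0 := by
    intro h
    apply hl0
    exact (CharTwo.add_eq_zero.1 h).symm
  have hsm : s m = m := by
    rw [hm, map_add, hss, add_comm]
  set l : F := l0 / m with hl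
  have hsl : s l = l + 1 := by
    have h1 : l + s l = 1 := by
      rw [hl, map_div₀, hsm, ← add_div, ← hm, div_self hm0]
    have h3 : s l = l + (l + s l) := by
      rw [← add_assoc, CharTwo.add_self_eq_zero, zero_add]
    rw [h3, h1]
  set n : F := t l with hn
  have hCT : ∀ x, C (T x) = x + T x + C x := by
    intro x
    have h1 := hq x
    rw [hCa] at h1
    have h3 : C (T x) = C x + (C x + C (T x)) := by
      rw [← add_assoc, vadd_self, zero_add]
    rw [h3, h1, add_comm]
  have hC : ∀ x, C x = (l + n + 1) • x + (l + n) • T x := by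
    intro x
    have h1 := hq (l • x)
    rw [hCa, hTs, hCs, hCs, hsl, map_add, map_one, ← hn, hCT] at h1
    funext i
    have h3 := congrFun h1 i
    simp only [Pi.add_apply, Pi.smul_apply, smul_eq_mul] at h3 ⊢
    linear_combination h3 + (-(n + 1) * (x i + T x i) - n * C x i + T x i) * h2
  by_cases hd0 : l + n = 0
  · left
    intro x
    rw [hC x, hd0]
    simp
  · right
    have hd1 : l + n + 1 = 0 := by
      by_contra hd1
      apply hl0
      have hfix : ∀ x, T x = x := by
        intro x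
        have h1 := hC (l • x)
        rw [hCs, hTs, hsl, ← hn, hC x] at h1
        funext i
        have h3 := congrFun h1 i
        simp only [Pi.add_apply, Pi.smul_apply, smul_eq_mul] at h3
        have h4 : (l + n) * (l + n + 1) * (T x i - x i) = 0 := by
          linear_combination -h3 + (n * (l + n) * T x i - l * (l + n + 1) * x i) * h2
        rcases mul_eq_zero.1 h4 with h5 | h5
        · rcases mul_eq_zero.1 h5 with h6 | h6
          · exact absurd h6 hd0
          · exact absurd h6 hd1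
        · exact sub_eq_zero.1 h5
      have h5 := hTs l0 w
      rw [hfix, hfix] at h5
      have h6 := congrFun h5 0
      simp [hw] at h6
      exact h6.symm
    intro x
    have hd2 : l + n = 1 := by
      have h3 : l + n = (l + n + 1) + 1 := by
        rw [add_assoc, CharTwo.add_self_eq_zero, add_zero]
      rw [h3, hd1, zero_add]
    rw [hC x, hd1, hd2]
    simp

end alg

/-! ### The setting -/

variable {G : Type u} [Group G] {F : Type} [Field F] {S P U : Subgroup G} {k : ℕ}

/-- The input of P7. -/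
structure QB (S U B E : Subgroup G) : Prop where
  BS : B ≤ S
  ab : ∀ b ∈ B, ∀ c ∈ B, b * c = c * b
  sq : ∀ b ∈ B, b * b = 1
  /-- `[U, B]` is centralised by `B` -/
  quad : ∀ v ∈ U, ∀ b ∈ B, ∀ c ∈ B, c * (b * v * b⁻¹ * v⁻¹) = b * v * b⁻¹ * v⁻¹ * c
  /-- (T1) and (I2) -/
  t1 : ∀ w ∈ U, w ∉ E → ¬ ∀ b ∈ B, ∀ c ∈ B, b * w * b⁻¹ ≠ w → c * w * c⁻¹ ≠ w → b * w * b⁻¹ = c * w * c⁻¹

/-- The block `i` is bad. -/
def Bad (M : NatK F S P U ⊥ k) (E : Subgroup G) (i : Fin k) : Prop := ∃ x : Fin 2 → F, em M i x ∉ E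

namespace QB

variable {B E : Subgroup G} {M : NatK F S P U ⊥ k} (hA : Amb S P U) (h : QB S U B E)
include hA h

theorem BP : B ≤ P := h.BS.trans hA.TH

/-- the relation `c (w (b w b⁻¹)) c⁻¹ = w (b w b⁻¹)` -/
theorem rel {w b c : G} (hw : w ∈ U) (hb : b ∈ B) (hc : c ∈ B) :
    M.e (c * (b * w * b⁻¹) * c⁻¹) + M.e (c * w * c⁻¹) = M.e (b * w * b⁻¹) + M.e w := by
  have hbP := h.BP hA hb
  have hcP := h.BP hA hc
  have hbw := hA.conj_mem hbP hw
  have hww : w⁻¹ = w := by
    have h1 := hA.sq w hw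
    rw [pow_two] at h1
    exact inv_eq_of_mul_eq_one_left h1
  have h1 := h.quad w hw b hb c hc
  rw [hww] at h1
  have h2 : c * (b * w * b⁻¹ * w) * c⁻¹ = b * w * b⁻¹ * w := by rw [h1]; group
  have h3 : c * (b * w * b⁻¹ * w) * c⁻¹ = c * (b * w * b⁻¹) * c⁻¹ * (c * w * c⁻¹) := by group
  rw [← M.mul _ (hA.conj_mem hcP hbw) _ (hA.conj_mem hcP hw), ← M.mul _ hbw _ hw, ← h3, h2]

/-- **(T3)** `B` fixes the bad blocks. -/
theorem fix {i : Fin k} (hi : Bad M E i) {b : G} (hb : b ∈ B) {σ : Equiv.Perm (Fin k)} (hσ : Mv M b σ) :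
    σ i = i := by
  by_contra hne
  obtain ⟨x, hx⟩ := hi
  have hbP := h.BP hA hb
  set w : G := em M i x with hw
  have hwU : w ∈ U := em_mem M i x
  have hx0 : x ≠ 0 := by
    rintro rfl
    rw [hw, em_zero] at hx
    exact hx (one_mem E)
  have hbw := hA.conj_mem hbP hwU
  -- support of `b w b⁻¹`
  have hsb : ∀ j, j ≠ σ i → M.e (b * w * b⁻¹) j = 0 := by
    intro j hj
    have h1 := (hσ w hwU (σ.symm j)).2 (e_em_ne M (fun h2 => hj (by rw [← h2, σ.apply_symm_apply])) x)
    rwa [σ.apply_symm_apply] at h1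
  have hnb : M.e (b * w * b⁻¹) (σ i) ≠ 0 := by
    rw [Ne, hσ w hwU i, hw, e_em_self]
    exact hx0
  have key : ∀ c ∈ B, c * w * c⁻¹ ≠ w → c * w * c⁻¹ = b * w * b⁻¹ := by
    intro c hc hcw
    have hcP := h.BP hA hc
    obtain ⟨τ, hτ⟩ := M.perm c hcP
    have hcw' := hA.conj_mem hcP hwU
    have hsc : ∀ j, j ≠ τ i → M.e (c * w * c⁻¹) j = 0 := by
      intro j hj
      have h1 := (hτ w hwU (τ.symm j)).2 (e_em_ne M (fun h2 => hj (by rw [← h2, τ.apply_symm_apply])) x)
      rwa [τ.apply_symm_apply] at h1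
    have hnc : M.e (c * w * c⁻¹) (τ i) ≠ 0 := by
      rw [Ne, hτ w hwU i, hw, e_em_self]
      exact hx0
    have hsd : ∀ j, j ≠ τ (σ i) → M.e (c * (b * w * b⁻¹) * c⁻¹) j = 0 := by
      intro j hj
      have h1 := (hτ _ hbw (τ.symm j)).2 (hsb _ (fun h2 => hj (by rw [← h2, τ.apply_symm_apply])))
      rwa [τ.apply_symm_apply] at h1
    have hr := h.rel hA (M := M) hwU hb hc
    have hτi : τ i ≠ τ (σ i) := fun h1 => hne (τ.injective h1).symm
    by_cases h1 : τ i = i
    · -- then `c w c⁻¹ = w`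
      exfalso
      apply hcw
      apply inj M hcw' hwU
      funext j
      by_cases hj : j = i
      · have h2 := congrFun hr i
        rw [Pi.add_apply, Pi.add_apply, hsd i (fun h' => hτi (h1.trans h')), hsb i (Ne.symm hne), zero_add,
          zero_add] at h2
        rw [hj, h2]
      · rw [hsc j (by rw [h1]; exact hj), hw, e_em_ne M hj]
    · by_cases h2 : τ i = σ i
      · apply inj M hcw' hbw
        funext j
        by_cases hj : j = σ i
        · have h3 := congrFun hr (σ i)
          rw [Pi.add_apply, Pi.add_apply, hsd (σ i) (fun h' => hτi (h2.trans h')), zero_add,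
            show M.e w (σ i) = 0 from e_em_ne M hne x, add_zero] at h3
          rw [hj, h3]
        · rw [hsc j (by rw [h2]; exact hj), hsb j hj]
      · exfalso
        apply hnc
        have h3 := congrFun hr (τ i)
        rw [Pi.add_apply, Pi.add_apply, hsd (τ i) hτi, hsb (τ i) h2, zero_add,
          show M.e w (τ i) = 0 from e_em_ne M h1 x, add_zero] at h3
        exact h3
  exact h.t1 w hwU hx fun b1 hb1 c1 hc1 hm1 hm2 => (key b1 hb1 hm1).trans (key c1 hc1 hm2).symm

variable [Finite F] [CharP F 2]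

/-- **(T4)** `B` is `F`-linear on the bad blocks. -/
theorem linear {i : Fin k} (hi : Bad M E i) {b : G} (hb : b ∈ B) (c : F) (x : Fin 2 → F) :
    ph M b i i (c • x) = c • ph M b i i x := by
  have hbP := h.BP hA hb
  have hfix : ∀ d ∈ B, ∃ σ : Equiv.Perm (Fin k), Mv M d σ ∧ σ i = i := by
    intro d hd
    obtain ⟨σ, hσ⟩ := M.perm d (h.BP hA hd)
    exact ⟨σ, hσ, h.fix hA hi hd hσ⟩
  have hsemi : ∀ d ∈ B, ∃ τ : F ≃+* F, ∀ (c : F) x, ph M d i i (c • x) = τ c • ph M d i i x := by
    intro d hd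
    obtain ⟨σ, hσ, hσi⟩ := hfix d hd
    have h1 := exists_semi hA (h.BP hA hd) hσ i
    rwa [hσi] at h1
  -- the element `d (em i x) d⁻¹`
  have hem : ∀ d ∈ B, ∀ x, d * em M i x * d⁻¹ = em M i (ph M d i i x) := by
    intro d hd x
    obtain ⟨σ, hσ, hσi⟩ := hfix d hd
    refine (em_eq M (hA.conj_mem (h.BP hA hd) (em_mem M i x)) fun j hj => ?_).symm
    have h1 := (hσ _ (em_mem M i x) (σ.symm j)).2
      (e_em_ne M (fun h2 => hj (by rw [← hσi, ← h2, σ.apply_symm_apply])) x)
    rwa [σ.apply_symm_apply] at h1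
  have hem' : ∀ x y, em M i x = em M i y → x = y := by
    intro x y hxy
    rw [← e_em_self M i x, hxy, e_em_self]
  obtain ⟨s, hs⟩ := hsemi b hb
  by_cases hlin : ∀ l : F, s l = l
  · rw [hs, hlin]
  · exfalso
    push Not at hlin
    obtain ⟨l0, hl0⟩ := hlin
    have hTT : ∀ x, ph M b i i (ph M b i i x) = x := by
      intro x
      apply hem'
      rw [← hem b hb, ← hem b hb]
      have h1 : b * (b * em M i x * b⁻¹) * b⁻¹ = b * b * em M i x * (b * b)⁻¹ := by group
      rw [h1, h.sq b hb]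
      group
    have hdich : ∀ d ∈ B, (∀ x, ph M d i i x = x) ∨ ∀ x, ph M d i i x = ph M b i i x := by
      intro d hd
      obtain ⟨t, ht⟩ := hsemi d hd
      refine semi_dich (ph_add hA (h.BP hA hd) i i) hs ht hTT (fun x => ?_) hl0
      have hr := congrFun (h.rel hA (M := M) (em_mem M i x) hb hd) i
      rw [Pi.add_apply, Pi.add_apply, hem b hb, hem d hd, hem d hd, e_em_self, e_em_self, e_em_self,
        e_em_self] at hr
      rw [ph_add hA (h.BP hA hd), add_comm, hr, add_comm]
    obtain ⟨x, hx⟩ := hi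
    apply h.t1 _ (em_mem M i x) hx
    have key : ∀ d ∈ B, d * em M i x * d⁻¹ ≠ em M i x → d * em M i x * d⁻¹ = em M i (ph M b i i x) := by
      intro d hd hne
      rcases hdich d hd with h1 | h1
      · exact absurd (by rw [hem d hd, h1]) hne
      · rw [hem d hd, h1]
    exact fun b1 hb1 c1 hc1 hm1 hm2 => (key b1 hb1 hm1).trans (key c1 hc1 hm2).symm

/-- **(T5)** every element of `B` acts as an upper unitriangular matrix on a bad block. -/
theorem exists_up {i : Fin k} (hi : Bad M E i) {b : G} (hb : b ∈ B) :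
    ∃ β : F, ∀ v ∈ U, M.e (b * v * b⁻¹) i = ap (up β) (M.e v i) := by
  have hbP := h.BP hA hb
  obtain ⟨σ, hσ⟩ := M.perm b hbP
  have hσi := h.fix hA hi hb hσ
  have hlin := h.linear hA hi hb
  have hadd := ph_add hA (M := M) hbP i i
  have he : ∀ v ∈ U, M.e (b * v * b⁻¹) i = ph M b i i (M.e v i) := by
    intro v hv
    have h1 := e_conj hA hbP hσ hv i
    rwa [hσi] at h1
  have hem : ∀ x, b * em M i x * b⁻¹ = em M i (ph M b i i x) := by
    intro x
    refine (em_eq M (hA.conj_mem hbP (em_mem M i x)) fun j hj => ?_).symm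
    have h1 := (hσ _ (em_mem M i x) (σ.symm j)).2
      (e_em_ne M (fun h2 => hj (by rw [← hσi, ← h2, σ.apply_symm_apply])) x)
    rwa [σ.apply_symm_apply] at h1
  have hTT : ∀ x, ph M b i i (ph M b i i x) = x := by
    intro x
    have h2 : em M i (ph M b i i (ph M b i i x)) = em M i x := by
      rw [← hem, ← hem]
      have h1 : b * (b * em M i x * b⁻¹) * b⁻¹ = b * b * em M i x * (b * b)⁻¹ := by group
      rw [h1, h.sq b hb]
      group
    rw [← e_em_self M i (ph M b i i (ph M b i i x)), h2, e_em_self]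
  -- the line
  obtain ⟨σ', hσ'⟩ := M.line b (h.BS hb)
  have hσi' : σ' i = i := by
    by_contra hne
    have h1 := hσ' _ (em_mem M i ![0, 1]) i
    rw [e_em_self] at h1
    have h2 : M.e (b * em M i ![0, 1] * b⁻¹) (σ' i) = 0 := by
      rw [hem, e_em_ne M hne]
    rw [h2] at h1
    exact one_ne_zero (h1.1 rfl)
  have hline : ∀ x : Fin 2 → F, x 1 = 0 → ph M b i i x 1 = 0 := by
    intro x hx
    have h1 := hσ' _ (em_mem M i x) i
    rw [hσi', hem, e_em_self, e_em_self] at h1
    exact h1.2 hx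
  set T := ph M b i i with hT
  have e1 : T ![1, 0] 1 = 0 := hline _ rfl
  have hdec : ∀ x : Fin 2 → F, x = x 0 • ![1, 0] + x 1 • ![0, 1] := fun x => ext2 (by simp) (by simp)
  have hTx : ∀ x : Fin 2 → F, T x = x 0 • T ![1, 0] + x 1 • T ![0, 1] := by
    intro x
    conv_lhs => rw [hdec x]
    rw [hadd, hlin, hlin]
  have hsq1 : ∀ a : F, a * a = 1 → a = 1 := by
    intro a ha
    have h1 : (a + 1) * (a + 1) = 0 := by
      have h2 : (2 : F) = 0 := CharTwo.two_eq_zero
      linear_combination ha + (a + 1) * h2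
    have h2 := mul_self_eq_zero.1 h1
    have h3 := CharTwo.add_eq_zero.1 h2
    exact h3
  have e2 : T ![1, 0] 0 = 1 := by
    apply hsq1
    have h1 := congrFun (hTT ![1, 0]) 0
    rw [hTx (T ![1, 0])] at h1
    simpa [e1] using h1
  have e3 : T ![0, 1] 1 = 1 := by
    apply hsq1
    have h1 := congrFun (hTT ![0, 1]) 1
    rw [hTx (T ![0, 1])] at h1
    simpa [e1] using h1
  refine ⟨T ![0, 1] 0, fun v hv => ?_⟩
  rw [he v hv, hTx]
  apply ext2
  · rw [ap_zero', up_00, up_01]
    simp [e2]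
    ring
  · rw [ap_one', up_10, up_11]
    simp [e1, e3]

end QB

end Cfsg.Agent.Omega.NOThreeL.Low.Nat
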