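import Cfsg.Agent.Omega.NOThreeL.Low.PmNat

/-!
# NO-3L, LOW (#19093 (8), helper876): movers of a minimal parabolic, symmetric case

* `le_of_swap` : `S ≤ K ≤ P` and some element of `K` acts as a transposition `(0 x)` : `P ≤ K`;
* `pm_sym` : `PM S P` if `V_P` is a sum of even-subset modules, `C_Z(P) = 1`;
* `pm` : `PM S P` for every `P ∈ P*(S)` with an offender on `V_P`, if `C_Z(P) = 1`.
-/

set_option autoImplicit false

namespace Cfsg.Agent.Omega.NOThreeL.Low

open Subgroup Cfsg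
open Cfsg.Agent.ZN
open Cfsg.Agent.Omega.MinPar Cfsg.Agent.Omega.Frame
open Cfsg.Agent.Omega.FFThm (SymK SymKM ActsSym OffM)
open Cfsg.Agent.Omega.FrameFF (cv)
open Cfsg.Agent.Omega.Half (Amb)
open Cfsg.Agent.Omega.Half.SymA
open Cfsg.Agent.Omega.NOThreeL.NF.SymRP
open Cfsg.Agent.Omega.NOThreeL.Basic (DataZ)
open scoped Classical

universe u

variable {G : Type u} [Group G]

section sym

variable {S P : Subgroup G} {k m : ℕ}

theorem pm_mul (τ τ' : Fin k → Equiv.Perm (Fin (2 ^ m + 1))) :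
    pm 1 (τ * τ') = (pm 1 τ * pm 1 τ' : Equiv.Perm (Pt k m)) := by
  ext1 p
  rfl

theorem pm_one : (pm 1 1 : Equiv.Perm (Pt k m)) = 1 := by
  ext1 p
  rfl

theorem pm_inv (τ : Fin k → Equiv.Perm (Fin (2 ^ m + 1))) :
    pm 1 τ⁻¹ = ((pm 1 τ)⁻¹ : Equiv.Perm (Pt k m)) := by
  rw [eq_inv_iff_mul_eq_one, ← pm_mul, inv_mul_cancel, pm_one]

/-- `S ≤ K ≤ P` and some element of `K` acts as a transposition `(0 x)`. -/
theorem le_of_swap (M : SymK S P (zl S P) ⊥ k m) (hA : Amb S P (zl S P)) (hm : 1 ≤ m)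
    (htr : ∀ p q : Pt k m, p.2 ≠ 0 → q.2 ≠ 0 → ∃ t ∈ S, ∃ π, Mv M t π ∧ π p = q) (hP : IsParS S P)
    {K : Subgroup G} (hSK : S ≤ K) (hKP : K ≤ P) {g : G} (hg : g ∈ K) {p₀ : Pt k m} (hp₀ : p₀.2 ≠ 0)
    (hac : Mv M g (Equiv.swap (p₀.1, 0) p₀)) : P ≤ K := by
  refine eq_of_sup hP hSK hKP ?_
  set K' : Subgroup G := K ⊔ (P ⊓ centralizer (zl S P : Set G)) with hK'
  have hKK' : K ≤ K' := le_sup_left
  have hCK' : P ⊓ centralizer (zl S P : Set G) ≤ K' := le_sup_right
  have hK'P : K' ≤ P := sup_le hKP inf_le_left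
  -- the transpositions `(0 r)`
  have h1 : ∀ r : Pt k m, r.2 ≠ 0 → ∃ n ∈ K', Mv M n (Equiv.swap (r.1, 0) r) := by
    intro r hr
    obtain ⟨t, ht, π, hπ, h2⟩ := htr p₀ r hp₀ hr
    have h3 := hπ.conj hA (hA.TH ht) hac (hKP hg)
    have h4 : π * Equiv.swap (p₀.1, 0) p₀ * π⁻¹ = Equiv.swap (π (p₀.1, 0)) (π p₀) :=
      (Equiv.swap_apply_apply π _ _).symm
    have h5 : π (p₀.1, 0) = (r.1, 0) := by
      refine Prod.ext ?_ ?_
      · have := hπ.fst hA hm (hA.TH ht) (p := (p₀.1, 0)) (q := p₀) rfl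
        rw [this, h2]
      · exact (hπ.snd hA hm ht (p := (p₀.1, 0))).2 rfl
    rw [h4, h5, h2] at h3
    exact ⟨t * g * t⁻¹, mul_mem (mul_mem (hKK' (hSK ht)) (hKK' hg)) (inv_mem (hKK' (hSK ht))), h3⟩
  -- all transpositions
  have h2 : ∀ p q : Pt k m, p.1 = q.1 → ∃ n ∈ K', Mv M n (Equiv.swap p q) := by
    intro p q hpq
    by_cases hp : p.2 = 0
    · by_cases hq : q.2 = 0
      · have h3 : p = q := Prod.ext hpq (hp.trans hq.symm)
        rw [h3, Equiv.swap_self]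
        exact ⟨1, one_mem _, Mv_one M⟩
      · have h3 : p = (q.1, 0) := Prod.ext hpq hp
        rw [h3]
        exact h1 q hq
    · by_cases hq : q.2 = 0
      · have h3 : q = (p.1, 0) := Prod.ext hpq.symm hq
        rw [h3, Equiv.swap_comm]
        exact h1 p hp
      · by_cases hne : p = q
        · rw [hne, Equiv.swap_self]
          exact ⟨1, one_mem _, Mv_one M⟩
        obtain ⟨n, hn, hnac⟩ := h1 p hp
        obtain ⟨n', hn', hnac'⟩ := h1 q hq
        have h3 := hnac.conj hA (hK'P hn) hnac' (hK'P hn')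
        have h4 : Equiv.swap (p.1, 0) p * Equiv.swap (q.1, 0) q * (Equiv.swap (p.1, 0) p)⁻¹ =
            Equiv.swap (Equiv.swap (p.1, 0) p (q.1, 0)) (Equiv.swap (p.1, 0) p q) :=
          (Equiv.swap_apply_apply _ _ _).symm
        have h5 : Equiv.swap (p.1, 0) p (q.1, 0) = p := by rw [← hpq, Equiv.swap_apply_left]
        have h6 : Equiv.swap (p.1, 0) p q = q :=
          Equiv.swap_apply_of_ne_of_ne (fun h => hq (by rw [h])) (Ne.symm hne)
        rw [h4, h5, h6] at h3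
        exact ⟨_, mul_mem (mul_mem hn hn') (inv_mem hn), h3⟩
  let Γ : Subgroup (Fin k → Equiv.Perm (Fin (2 ^ m + 1))) :=
    { carrier := {τ | ∃ n ∈ K', Mv M n (pm 1 τ)}
      mul_mem' := by
        rintro τ τ' ⟨n, hn, h⟩ ⟨n', hn', h'⟩
        exact ⟨n * n', mul_mem hn hn', by rw [pm_mul]; exact h.mul hA h' (hK'P hn')⟩
      one_mem' := ⟨1, one_mem _, by rw [pm_one]; exact Mv_one M⟩
      inv_mem' := by
        rintro τ ⟨n, hn, h⟩
        exact ⟨n⁻¹, inv_mem hn, by rw [pm_inv]; exact h.inv hA (hK'P hn)⟩ }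
  have h3 : ∀ (i : Fin k) (σ : Equiv.Perm (Fin (2 ^ m + 1))), Pi.mulSingle i σ ∈ Γ := by
    intro i σ
    induction σ using Equiv.Perm.swap_induction_on with
    | one => rw [Pi.mulSingle_one]; exact one_mem Γ
    | swap_mul f x y _ ih =>
      rw [Pi.mulSingle_mul]
      refine mul_mem ?_ ih
      obtain ⟨n, hn, h⟩ := h2 (i, x) (i, y) rfl
      refine ⟨n, hn, ?_⟩
      have h4 := pm_swap (k := k) (m := m) (p := (i, x)) (q := (i, y)) rfl
      change pm 1 (Function.update 1 i (Equiv.swap x y)) = _ at h4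
      change Mv M n (pm 1 (Function.update 1 i (Equiv.swap x y)))
      rw [h4]
      exact h
  have hΓ : ∀ τ, τ ∈ Γ := fun τ => pi_mem_of_mulSingle_mem τ fun i => h3 i (τ i)
  refine M.gen K' (hSK.trans hKK') fun h hh τ hτ _ => ?_
  obtain ⟨n, hn, hnac⟩ := hΓ τ
  have h4 := (hnac.inv hA (hK'P hn)).mul hA (mv_pm M hτ) hh
  rw [inv_mul_cancel] at h4
  have h5 : n⁻¹ * h ∈ P := mul_mem (inv_mem (hK'P hn)) hh
  have h6 := mul_mem hn (hCK' ⟨h5, NF.SymG.mem_cent_of_mv_one hA h5 h4⟩)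
  rwa [mul_inv_cancel_left] at h6

end sym

theorem swap_pow_odd {α : Type*} [DecidableEq α] (p q : α) {n : ℕ} (hn : Odd n) :
    Equiv.swap p q ^ n = Equiv.swap p q := by
  obtain ⟨t, rfl⟩ := hn
  rw [pow_succ, pow_mul, pow_two, Equiv.swap_mul_self, one_pow, one_mul]

/-- **the symmetric case** -/
theorem pm_sym [Finite G] (hG : IsCharacteristicTwoType G) {S : Sylow 2 G} {P : Subgroup G}
    (hP : IsParS (S : Subgroup G) P) (hz : zc (S : Subgroup G) ≠ ⊥) (hD : cv (S : Subgroup G) P = ⊥) {k m : ℕ}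
    (hm : 1 ≤ m) (M : SymK (S : Subgroup G) P (zl (S : Subgroup G) P) (cv (S : Subgroup G) P) k m) :
    PM (S : Subgroup G) P := by
  rw [hD] at M
  have hA : Amb (S : Subgroup G) P (zl (S : Subgroup G) P) := Half.amb_of_loc hG S hP.isLoc
  intro v hv hv1
  by_cases hex : ∃ p : Pt k m, p.2 ≠ 0 ∧ E M v (p.1, 0) = E M v p
  · right
    obtain ⟨p, hp, hE⟩ := hex
    obtain ⟨g0, hg0, hac0⟩ := exists_swap (M := M) (p := (p.1, 0)) (q := p) rfl
    obtain ⟨n, hn, a, ha⟩ := exists_odd_pow g0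
    have hac := hac0.pow hA hg0 n
    rw [swap_pow_odd _ _ hn] at hac
    have hgP := pow_mem hg0 n
    have hgv : g0 ^ n * v = v * g0 ^ n := mul_inv_eq_iff_eq_mul.1 (comm_of_eq hA hgP hac hv hE)
    refine ⟨zpowers (g0 ^ n), zpowers_le.2 hgP, isPGroup_zpowers ha, fun x hx => comm_zpowers hgv hx, ?_⟩
    exact le_of_swap M hA hm (fun p q hp hq => trans_pts S hA hm hp hq) hP le_sup_right
      (sup_le (zpowers_le.2 hgP) hP.le) ((le_sup_left : zpowers (g0 ^ n) ≤ _) (mem_zpowers _)) hp hac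
  · left
    push Not at hex
    obtain ⟨⟨z, hzS⟩, hz1⟩ := Subgroup.ne_bot_iff_exists_ne_one.1 hz
    have hz1 : z ≠ 1 := fun h => hz1 (Subtype.ext h)
    have hE := E_zc (M := M) hA hm hzS hz1
    have h0 : ∀ i : Fin k, E M v (i, 0) = 0 := by
      intro i
      have h1 := even M hv i
      rw [Fin.sum_univ_succ] at h1
      have h2 : ∑ x : Fin (2 ^ m), E M v (i, x.succ) = 0 := by
        have h3 : ∀ x ∈ (Finset.univ : Finset (Fin (2 ^ m))), E M v (i, x.succ) = 1 + E M v (i, 0) := by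
          intro x _
          have h4 := hex (i, x.succ) (Fin.succ_ne_zero x)
          change E M v (i, 0) ≠ E M v (i, x.succ) at h4
          revert h4
          generalize E M v (i, 0) = a
          generalize E M v (i, x.succ) = b
          revert a b
          decide
        rw [Finset.sum_congr rfl h3, Finset.sum_const, Finset.card_univ, Fintype.card_fin, nsmul_eq_mul]
        have h4 : ((2 ^ m : ℕ) : ZMod 2) = 0 := by
          rw [ZMod.natCast_eq_zero_iff]
          exact dvd_pow_self 2 (by omega)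
        rw [h4, zero_mul]
      rwa [h2, add_zero] at h1
    have hvz : v = z := by
      refine inj M hv (hA.zc hzS) fun p => ?_
      rw [hE]
      by_cases hp : p.2 = 0
      · rw [if_pos hp]
        have h5 : p = (p.1, 0) := Prod.ext rfl hp
        rw [h5]
        exact h0 _
      · rw [if_neg hp]
        have h4 := hex p hp
        rw [h0] at h4
        exact zmod2_ne.1 (Ne.symm h4)
    exact ⟨1, one_mem _, by rw [one_mul, inv_one, mul_one, hvz]; exact hzS⟩

/-- **`PM S P` from the FF theorem.** -/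
theorem pm [Finite G] (h : Ctx G) {S : Sylow 2 G} (D : DataZ (S : Subgroup G)) {P : Subgroup G}
    (hP : IsParS (S : Subgroup G) P) (hoff : ∃ A : Subgroup G, A ≤ P ∧ OffM (zl (S : Subgroup G) P) A) :
    PM (S : Subgroup G) P := by
  have hc := h.char2
  have hcv : cv (S : Subgroup G) P = ⊥ := D.cv_eq hc hP
  have hz := MinSimple.Basic.zc_ne_bot S.isPGroup' (h.sylow_ne_bot S)
  obtain ⟨-, hcon⟩ := StarEnd.stmtM G (S : Subgroup G) P (MinSimple.EmptyTI.syl_of_le hP.le)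
    hP.toIsMinPar (hP.isLoc.char2 S hc) hoff
  rcases hcon with ⟨F, _, _, _, k, hk, ⟨M⟩⟩ | ⟨k, m, hk, hm, ⟨M⟩⟩
  · exact pm_nat hP hz hcv M
  · exact pm_sym hc hP hz hcv (by omega) M.toSymK

end Cfsg.Agent.Omega.NOThreeL.Low
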