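import Cfsg.Agent.Omega.NOThreeL.NF.Final

/-!
# NO-3L, LOW (#19093 (8), helper876): movers of a minimal parabolic, natural case

* `PM S P` : every `v ∈ V_P#` lies in `Z`-conjugates under `P`, or some 2-group of `P` centralises `v` and generates `P`
  together with `S`;
* `eq_of_sup` : `S ≤ K ≤ P`, `P ≤ K C_P(V_P)` gives `K = P`;
* `nat` : `PM S P` if `V_P` is a sum of natural modules, `C_Z(P) = 1`.
-/

set_option autoImplicit false

namespace Cfsg.Agent.Omega.NOThreeL.Low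

open Subgroup Cfsg
open Cfsg.Agent.ZN
open Cfsg.Agent.Omega.MinPar
open Cfsg.Agent.Omega.FFThm (NatKM ActsSL)
open Cfsg.Agent.Omega.FrameFF (cv)
open Cfsg.Agent.MinSimple.VModule (zc_le_zl zc_le)
open Cfsg.Agent.Omega.NatPair (ap ap_mul ap_one ap_inv_ap ap_zero' ap_one' ap_inj ext2 exists_ap)
open Cfsg.Agent.Lib.SL2Mat

universe u

variable {G : Type u} [Group G]

/-- Every `v ∈ V_P#` is `P`-conjugate into `Z`, or some 2-group of `P` centralises `v` and generates `P` together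
with `S`. -/
def PM (S P : Subgroup G) : Prop :=
  ∀ v ∈ zl S P, v ≠ 1 → (∃ p ∈ P, p * v * p⁻¹ ∈ zc S) ∨
    ∃ X ≤ P, IsPGroup 2 X ∧ (∀ x ∈ X, x * v = v * x) ∧ P ≤ X ⊔ S

/-- `S ≤ K ≤ P`, `P ≤ K C_P(V_P)` gives `P ≤ K`. -/
theorem eq_of_sup {S P K : Subgroup G} (h : IsParS S P) (hSK : S ≤ K) (hKP : K ≤ P)
    (hK : P ≤ K ⊔ (P ⊓ centralizer (zl S P : Set G))) : P ≤ K := by
  obtain ⟨M, hM, h1⟩ := h.exists_max
  by_contra hne
  have h2 : K < P := lt_of_le_of_ne hKP fun h2 => hne h2.ge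
  have h3 : K ≤ M := h1 K hSK h2
  have h4 : S ⊔ (P ⊓ centralizer (zl S P : Set G)) < P := by
    refine lt_of_le_of_ne (sup_le h.le inf_le_left) fun h4 => h.not_zc ?_
    have h5 : P ≤ centralizer (zc S : Set G) := by
      rw [← h4]
      refine sup_le (fun s hs => mem_centralizer_iff.2 fun z hz => ((MinSimple.VModule.mem_zc.1 hz).2.1 s hs).symm) ?_
      exact inf_le_right.trans (centralizer_le (zc_le_zl S P))
    exact h5.trans (centralizer_le_normalizer _)
  have h5 := h1 _ le_sup_left h4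
  exact hM.not_ge (hK.trans (sup_le h3 (le_sup_right.trans h5)))

/-- an odd power of `g` is a 2-element -/
theorem exists_odd_pow [Finite G] (g : G) : ∃ n : ℕ, Odd n ∧ ∃ a : ℕ, (g ^ n) ^ 2 ^ a = 1 := by
  obtain ⟨a, n, hn, h⟩ := Nat.exists_eq_two_pow_mul_odd (orderOf_pos g).ne'
  refine ⟨n, hn, a, ?_⟩
  rw [← pow_mul, mul_comm, ← h, pow_orderOf_eq_one]

theorem isPGroup_zpowers {g : G} {a : ℕ} (h : g ^ 2 ^ a = 1) : IsPGroup 2 (zpowers g) := by
  rintro ⟨x, hx⟩
  obtain ⟨n, rfl⟩ := mem_zpowers_iff.1 hx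
  refine ⟨a, Subtype.ext ?_⟩
  change (g ^ n) ^ 2 ^ a = 1
  rw [← zpow_natCast, ← zpow_mul, mul_comm, zpow_mul, zpow_natCast, h, one_zpow]

theorem comm_zpowers {g v x : G} (h : g * v = v * g) (hx : x ∈ zpowers g) : x * v = v * x := by
  have h1 : zpowers g ≤ centralizer ({v} : Set G) := by
    rw [zpowers_le, mem_centralizer_singleton_iff]
    exact h
  exact mem_centralizer_singleton_iff.1 (h1 hx)

section nat

open NF.NatR

variable {F : Type} [Field F] {S P W : Subgroup G} {k : ℕ} {M : NatKM F S P W ⊥ k}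

theorem Ac.pow (hPW : P ≤ normalizer (W : Set G)) {g : G} {A : Fin k → Matrix.SpecialLinearGroup (Fin 2) F}
    (hg : g ∈ P) (h : Ac M g A) (n : ℕ) : Ac M (g ^ n) (A ^ n) := by
  induction n with
  | zero => rw [pow_zero, pow_zero]; exact ac_one (one_mem _)
  | succ n ih => rw [pow_succ, pow_succ]; exact NF.NatR.Ac.mul hPW hg ih h

theorem Ac.odd (hPW : P ≤ normalizer (W : Set G)) {g : G} {A : Fin k → Matrix.SpecialLinearGroup (Fin 2) F}
    (hg : g ∈ P) (h : Ac M g A) (hA : A * A = 1) {n : ℕ} (hn : Odd n) : Ac M (g ^ n) A := by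
  obtain ⟨t, rfl⟩ := hn
  have h1 := Ac.pow hPW hg h (2 * t + 1)
  have h2 : A ^ (2 * t + 1) = A := by rw [pow_succ, pow_mul, pow_two, hA, one_pow, one_mul]
  rwa [h2] at h1

/-- an element fixing all vectors of all summands other than `j` acts only on the summand `j` -/
theorem eq_mulSingle {h : G}
    {B : Fin k → Matrix.SpecialLinearGroup (Fin 2) F} (hB : Ac M h B) {j : Fin k}
    (hfix : ∀ v ∈ W, M.e v j = 0 → h * v * h⁻¹ = v) : B = Pi.mulSingle j (B j) := by
  classical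
  funext i
  by_cases hi : i = j
  · subst hi; rw [Pi.mulSingle_eq_same]
  · rw [Pi.mulSingle_eq_of_ne hi]
    refine ap_inj fun x => ?_
    obtain ⟨v, hv, hvi, hvj⟩ := exists_pt (M := M) i x
    have h1 := hB v hv i
    rw [hfix v hv (hvj j (Ne.symm hi)), hvi] at h1
    rw [← h1, ap_one]

theorem mulSingle_up (j : Fin k) (c : F) : (fun i => up ((Pi.single j c : Fin k → F) i) :
    Fin k → Matrix.SpecialLinearGroup (Fin 2) F) = Pi.mulSingle j (up c) := by
  classical
  funext i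
  by_cases hj : i = j
  · subst hj; rw [Pi.single_eq_same, Pi.mulSingle_eq_same]
  · rw [Pi.single_eq_of_ne hj, Pi.mulSingle_eq_of_ne hj, up_zero]

/-- the elements of `K ≥ S` cover `SL₂(F)^k` as soon as one of them acts as `lo 1` on one summand -/
theorem le_of_lo [CharP F 2] {S P K : Subgroup G} {k : ℕ} (M : NatKM F S P (zl S P) ⊥ k) (hP : IsParS S P)
    (hSK : S ≤ K) (hKP : K ≤ P) {g : G} (hg : g ∈ K) {j : Fin k} (hac : Ac M g (Pi.mulSingle j (lo 1))) :
    P ≤ K := by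
  classical
  have hPW : P ≤ normalizer (zl S P : Set G) := le_normalizer_zl S P
  have hSP := hP.le
  refine eq_of_sup hP hSK hKP ?_
  set K' : Subgroup G := K ⊔ (P ⊓ centralizer (zl S P : Set G)) with hK'
  have hKK' : K ≤ K' := le_sup_left
  have hCK' : P ⊓ centralizer (zl S P : Set G) ≤ K' := le_sup_right
  have hK'P : K' ≤ P := sup_le hKP inf_le_left
  let Γ : Subgroup (Fin k → Matrix.SpecialLinearGroup (Fin 2) F) :=
    { carrier := {B | ∃ m ∈ K', Ac M m B}
      mul_mem' := by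
        rintro B B' ⟨m, hm, hmB⟩ ⟨m', hm', hmB'⟩
        exact ⟨m * m', mul_mem hm hm', NF.NatR.Ac.mul hPW (hK'P hm') hmB hmB'⟩
      one_mem' := ⟨1, one_mem _, ac_one (one_mem _)⟩
      inv_mem' := by
        rintro B ⟨m, hm, hmB⟩
        exact ⟨m⁻¹, inv_mem hm, hmB.inv hPW (hK'P hm)⟩ }
  have hup : ∀ i c, Pi.mulSingle i (up c) ∈ Γ := by
    intro i c
    obtain ⟨t, ht, hac⟩ := M.unip (Pi.single i c)
    rw [mulSingle_up] at hac
    exact ⟨t, hKK' (hSK ht), hac.1⟩
  have hlo1 : Pi.mulSingle j (lo 1) ∈ Γ := ⟨g, hKK' hg, hac⟩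
  -- an element of `P` acting as an element of `Γ` is in `K'`
  have hmem : ∀ h ∈ P, ∀ B, Ac M h B → B ∈ Γ → h ∈ K' := by
    rintro h hh B hB ⟨m, hm, hmB⟩
    have h1 := NF.NatR.Ac.mul hPW hh (hmB.inv hPW (hK'P hm)) hB
    rw [inv_mul_cancel] at h1
    have h4 : m⁻¹ * h ∈ P := mul_mem (inv_mem (hK'P hm)) hh
    have h2 : m⁻¹ * h ∈ K' := hCK' ⟨h4, cent_of_ac (M := M) hPW h4 h1⟩
    have h3 := mul_mem hm h2
    rwa [mul_inv_cancel_left] at h3
  -- the summand `j`
  have hw : (Pi.mulSingle j (wm (1 : F) one_ne_zero) : Fin k → Matrix.SpecialLinearGroup (Fin 2) F) ∈ Γ := by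
    have h1 : wm (1 : F) one_ne_zero = lo 1 * up 1 * lo 1 := by
      rw [wm_eq, inv_one, CharTwo.neg_eq]
    rw [h1, Pi.mulSingle_mul, Pi.mulSingle_mul]
    exact mul_mem (mul_mem hlo1 (hup j 1)) hlo1
  have hlo : ∀ c, Pi.mulSingle j (lo c) ∈ Γ := by
    intro c
    have h1 : lo c = wm (1 : F) one_ne_zero * up (-c) * (wm (1 : F) one_ne_zero)⁻¹ := by
      rw [wm_up, mul_inv_cancel_right]
      congr 1
      ring
    rw [h1, Pi.mulSingle_mul, Pi.mulSingle_mul, Pi.mulSingle_inv]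
    exact mul_mem (mul_mem hw (hup j _)) (inv_mem hw)
  have hj : ∀ B, Pi.mulSingle j B ∈ Γ := by
    intro B
    obtain ⟨a, b, c, d, h1⟩ := exists_up_lo B
    rw [h1, Pi.mulSingle_mul, Pi.mulSingle_mul, Pi.mulSingle_mul]
    exact mul_mem (mul_mem (mul_mem (hup j a) (hlo b)) (hup j c)) (hlo d)
  -- all summands
  have hall : ∀ i B, Pi.mulSingle i B ∈ Γ := by
    intro i B
    obtain ⟨t, ht, htr⟩ := M.trans j i
    obtain ⟨h, hh, hB⟩ := lift_ac (M := M) (Pi.mulSingle i B)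
    have htP := hSP ht
    have h1 : t⁻¹ * h * t ∈ P := mul_mem (mul_mem (inv_mem htP) hh) htP
    obtain ⟨B', hB'⟩ := M.norm t⁻¹ (inv_mem htP) h hh _ hB
    have hB'' : Ac M (t⁻¹ * h * t) B' := by
      intro v hv i'
      have h2 := hB' v hv i'
      rwa [inv_inv] at h2
    have hfix : ∀ v ∈ zl S P, M.e v j = 0 → t⁻¹ * h * t * v * (t⁻¹ * h * t)⁻¹ = v := by
      intro v hv h0
      have hv' : t * v * t⁻¹ ∈ zl S P := cmem hPW htP hv
      have h3 : M.e (t * v * t⁻¹) i = 0 := (htr v hv).2 h0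
      have h4 : h * (t * v * t⁻¹) * h⁻¹ = t * v * t⁻¹ := by
        refine e_inj (M := M) (cmem hPW hh hv') hv' ?_
        funext i'
        rw [hB _ hv' i']
        by_cases hi' : i' = i
        · subst hi'
          rw [Pi.mulSingle_eq_same, h3]
          refine ext2 ?_ ?_
          · rw [ap_zero']; simp
          · rw [ap_one']; simp
        · rw [Pi.mulSingle_eq_of_ne hi', ap_one]
      have e1 : t⁻¹ * h * t * v * (t⁻¹ * h * t)⁻¹ = t⁻¹ * (h * (t * v * t⁻¹) * h⁻¹) * t := by group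
      rw [e1, h4]; group
    have h5 := eq_mulSingle hB'' hfix
    have h6 : t⁻¹ * h * t ∈ K' := hmem _ h1 _ hB'' (by rw [h5]; exact hj _)
    have h7 : h ∈ K' := by
      have h8 := mul_mem (mul_mem (hKK' (hSK ht)) h6) (inv_mem (hKK' (hSK ht)))
      have e2 : t * (t⁻¹ * h * t) * t⁻¹ = h := by group
      rwa [e2] at h8
    exact ⟨h, h7, hB⟩
  have hΓ : ∀ B, B ∈ Γ := fun B => pi_mem_of_mulSingle_mem B fun i => hall i (B i)
  refine M.gen K' (hSK.trans hKK') fun h hh A hA => ?_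
  exact hmem h hh A hA.1 (hΓ A)

end nat

open NF.NatR in
/-- **the natural case** -/
theorem pm_nat [Finite G] {S P : Subgroup G} (hP : IsParS S P) (hz : zc S ≠ ⊥) (hD : cv S P = ⊥)
    {F : Type} [Field F] [CharP F 2] {k : ℕ} (M : NatKM F S P (zl S P) (cv S P) k) : PM S P := by
  classical
  rw [hD] at M
  have hPW : P ≤ normalizer (zl S P : Set G) := le_normalizer_zl S P
  have hSP := hP.le
  intro v hv hv1
  by_cases hall : ∀ j, M.e v j ≠ 0
  · left
    obtain ⟨⟨z, hzS⟩, hz1⟩ := Subgroup.ne_bot_iff_exists_ne_one.1 hz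
    have hz1 : z ≠ 1 := fun h => hz1 (Subtype.ext h)
    have hzW := zc_le_zl S P hzS
    have hcen : ∀ s ∈ S, s * z * s⁻¹ = z := by
      intro s hs
      rw [(MinSimple.VModule.mem_zc.1 hzS).2.1 s hs]
      group
    have hzf : ∀ j, M.e z j ≠ 0 := by
      intro j h0
      apply hz1
      refine e_inj (M := M) hzW (one_mem _) ?_
      rw [e_one]
      funext j'
      obtain ⟨s, hs, h1⟩ := M.trans j j'
      have h2 := (h1 z hzW).2 h0
      rwa [hcen s hs] at h2
    obtain ⟨p, hp, he⟩ := conj_of (M := M) hPW hv hzW hall hzf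
    exact ⟨p, hp, he ▸ hzS⟩
  · right
    push Not at hall
    obtain ⟨j, hj⟩ := hall
    obtain ⟨g0, hg0, hac0⟩ := lift_ac (M := M) (Pi.mulSingle j (lo 1))
    obtain ⟨n, hn, a, ha⟩ := exists_odd_pow g0
    have hBB : (Pi.mulSingle j (lo (1 : F)) : Fin k → Matrix.SpecialLinearGroup (Fin 2) F) *
        Pi.mulSingle j (lo 1) = 1 := by
      rw [← Pi.mulSingle_mul, lo_mul, CharTwo.add_self_eq_zero, lo_zero, Pi.mulSingle_one]
    have hac := Ac.odd hPW hg0 hac0 hBB hn
    set g := g0 ^ n with hgdef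
    have hgP : g ∈ P := pow_mem hg0 n
    have hgv : g * v = v * g := by
      have h1 : g * v * g⁻¹ = v := by
        refine e_inj (M := M) (cmem hPW hgP hv) hv ?_
        funext i
        rw [hac v hv i]
        by_cases hi : i = j
        · subst hi
          rw [Pi.mulSingle_eq_same, hj]
          refine ext2 ?_ ?_
          · rw [ap_zero']; simp
          · rw [ap_one']; simp
        · rw [Pi.mulSingle_eq_of_ne hi, ap_one]
      exact mul_inv_eq_iff_eq_mul.1 h1
    refine ⟨zpowers g, zpowers_le.2 hgP, isPGroup_zpowers ha, fun x hx => comm_zpowers hgv hx, ?_⟩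
    exact le_of_lo M hP le_sup_right (sup_le (zpowers_le.2 hgP) hSP)
      ((le_sup_left : zpowers g ≤ _) (mem_zpowers g)) hac

end Cfsg.Agent.Omega.NOThreeL.Low
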