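import Cfsg.Agent.Omega.NOThreeL.NF.Final
import Cfsg.Agent.Omega.NOThreeL.RTools.Two
import Cfsg.Agent.Omega.NOne.Flat.Nine
import Cfsg.Agent.Omega.Spread.OffAll

/-!
# THEOREM LOW (#19191, helper597): definitions and the statements of the parts

NO-3L with `C_Z(P) = 1` for all `P ∈ P*(S)` (`DataZ S`), not (A): `V* = ⟨Z^M₀⟩ ≤ Q = O₂(C_G(Z))`.

* `Frm S V F` : the frame (P1): `F` a maximal bad subgroup of `V ≥ V*`, `W_F ≤ S`, `V* ≰ E`;
* `Sit S V F B P R p` : the situation after the gallery argument (P2), normalised so that the last chamber is `S`: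
  `U = zl S P` is the bad line, `zl S R` the good line of the last panel, `p ∈ R`, `S^p` the last chamber but one,
  `B ⊴ C_G(F)` generated by good lines, `spp` = (S++);
* `Blk`, `Rtv`, `NSit` : the natural case (P7);
* `StP1`, …, `StP9` : the statements of the parts.

Conjugation is on the left: `X^g` of the text is `MulAut.conj g • X`.
-/

set_option autoImplicit false

namespace Cfsg.Agent.Omega.NOThreeL.Low

open Subgroup Cfsg Cfsg.Agent.ZN Cfsg.Agent.Omega.MinPar Cfsg.Agent.Omega.Frame Cfsg.Agent.Omega.FrameNOFF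
open Cfsg.Agent.Omega.NOThreeL.Basic (DataZ CaseA WP)
open Cfsg.Agent.Omega.NOThreeL.Merge (MZ)
open Cfsg.Agent.Omega.NOne.Flat (Hyp EE WW NN BadX)
open Cfsg.Agent.Omega.NOne.NearFF (c)
open Cfsg.Agent.Omega.FFThm (OffM NatKM SymKM)
open Cfsg.Agent.Omega.NatPair (ap)
open Cfsg.Agent.Lib.SL2Mat (up)
open scoped Pointwise

universe u

section defs

variable {G : Type u} [Group G] [Finite G]

/-- **The frame** (output of P1). -/
structure Frm (S : Sylow 2 G) (V F : Subgroup G) : Prop where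
  flat : Hyp V F
  VS : V ≤ (S : Subgroup G)
  /-- `V` is `M₀`-invariant -/
  nV : MZ (S : Subgroup G) ≤ normalizer (V : Set G)
  zV : zl (S : Subgroup G) (MZ (S : Subgroup G)) ≤ V
  WS : WW V F ≤ (S : Subgroup G)
  ZF : zc (S : Subgroup G) ≤ F
  nle : ¬ zl (S : Subgroup G) (MZ (S : Subgroup G)) ≤ EE V F

/-- **The situation** (output of P2). -/
structure Sit (S : Sylow 2 G) (V F B P R : Subgroup G) (p : G) : Prop where
  ctx : Ctx G
  D : DataZ (S : Subgroup G)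
  flat : Hyp V F
  VS : V ≤ (S : Subgroup G)
  hP : IsParS (S : Subgroup G) P
  hR : IsParS (S : Subgroup G) R
  UV : zl (S : Subgroup G) P ≤ V
  /-- `U = V_P` is bad -/
  bad : ¬ zl (S : Subgroup G) P ≤ EE V F
  /-- `F ≤ B` (876's `BH`): the `B` of this structure is the `B F` of #19191 -/
  FB : F ≤ B
  BW : B ≤ WW V F
  /-- `B` is normal in `X = C_G(F)` -/
  XB : centralizer (F : Set G) ≤ normalizer (B : Set G)
  comm : B ≤ centralizer (B : Set G)
  sq : ∀ b ∈ B, b ^ 2 = 1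
  BS : B ≤ (S : Subgroup G)
  CB : WW V F ⊓ centralizer (B : Set G) ≤ (S : Subgroup G)
  /-- the line of the last panel -/
  RV : zl (S : Subgroup G) R ≤ V
  RB : zl (S : Subgroup G) R ≤ B
  pR : p ∈ R
  /-- the line of type `P` of the chamber `S^p` -/
  PV : MulAut.conj p • zl (S : Subgroup G) P ≤ V
  PB : MulAut.conj p • zl (S : Subgroup G) P ≤ B
  /-- **(S++)**: `Z^g` a point of `U`, `Z^(g' q)` a point of the line `V_Q^(g')` on `Z^g` -/
  spp : ∀ (g g' q : G) (Q : Subgroup G), g ∈ P →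
    MulAut.conj g' • zc (S : Subgroup G) = MulAut.conj g • zc (S : Subgroup G) →
    IsParS (S : Subgroup G) Q → q ∈ Q → MulAut.conj (g' * q) • zc (S : Subgroup G) ⊓ F = ⊥

end defs

/-! ### The natural case -/

section nat

variable {G : Type u} [Group G] {K : Type} [Field K] {S P U : Subgroup G} {k : ℕ}

/-- `v` lies in the block `N_i`. -/
def Blk (N : NatKM K S P U ⊥ k) (i : Fin k) (v : G) : Prop := v ∈ U ∧ ∀ j, j ≠ i → N.e v j = 0

/-- `v` lies in the root line `R_i = C_{N_i}(S)`. -/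
def Rtv (N : NatKM K S P U ⊥ k) (i : Fin k) (v : G) : Prop := Blk N i v ∧ N.e v i 1 = 0

end nat

section nsit

variable {G : Type u} [Group G] [Finite G]

/-- **The natural situation** at a bad block `i` (output of P7). -/
structure NSit (S : Sylow 2 G) (V F B P R : Subgroup G) (p : G) {K : Type} [Field K] {k : ℕ}
    (N : NatKM K (S : Subgroup G) P (zl (S : Subgroup G) P) ⊥ k) (i : Fin k) (β : G → K) : Prop
    extends Sit S V F B P R p where
  /-- the block is bad -/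
  bad_i : ∃ w, Blk N i w ∧ w ∉ EE V F
  βmul : ∀ b ∈ B, ∀ c ∈ B, β (b * c) = β b + β c
  βsurj : ∀ x : K, ∃ b ∈ B, β b = x
  /-- `B ∩ N = C_B(N_i)` -/
  βN : ∀ b ∈ B, β b = 0 ↔ b ∈ NN V F
  /-- `B` acts on `N_i` as the full root group -/
  act : ∀ b ∈ B, ∀ v, Blk N i v → Blk N i (b * v * b⁻¹) ∧ N.e (b * v * b⁻¹) i = ap (up (β b)) (N.e v i)
  /-- `N_i ∩ E = R_i` -/
  blkE : ∀ v, Blk N i v → (v ∈ EE V F ↔ N.e v i 1 = 0)
  /-- `N_i ∩ F = 1` -/
  blkF : ∀ v, Blk N i v → v ∈ F → v = 1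
  /-- `R_i ≤ B` -/
  rtB : ∀ v, Rtv N i v → v ∈ B
  /-- all `R_j ≤ E` -/
  rtE : ∀ v ∈ zl (S : Subgroup G) P, (∀ j, N.e v j 1 = 0) → v ∈ EE V F
  /-- `I = V ∩ B = R_i × F` -/
  I : ∀ a ∈ V ⊓ B, ∃ r, Rtv N i r ∧ r⁻¹ * a ∈ F
  card : (NN V F).relIndex B = Nat.card K
  /-- (*) `ζ ζ_i ∈ F` -/
  zF : ∀ z ∈ zc (S : Subgroup G), ∃ r, Rtv N i r ∧ N.e r i = N.e z i ∧ r⁻¹ * z ∈ F
  /-- no full-support vector of `U` is in `F` -/
  nfull : ∀ f ∈ F, f ∈ zl (S : Subgroup G) P → ∃ j, N.e f j = 0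
  /-- full-support vectors of `U` are in points of `U` -/
  full : ∀ v ∈ zl (S : Subgroup G) P, (∀ j, N.e v j ≠ 0) → ∃ g ∈ P, v ∈ MulAut.conj g • zc (S : Subgroup G)

/-- **The torus** (output of P8). -/
def Tor {S : Sylow 2 G} {P F : Subgroup G} {K : Type} [Field K] {k : ℕ}
    (N : NatKM K (S : Subgroup G) P (zl (S : Subgroup G) P) ⊥ k) (i : Fin k) : Prop :=
  ∀ l : K, l ≠ 0 → ∃ g ∈ centralizer (F : Set G), ∀ r, Rtv N i r →
    Rtv N i (g * r * g⁻¹) ∧ N.e (g * r * g⁻¹) i 0 = l * N.e r i 0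

end nsit

/-! ### The statements of the parts -/

section parts

/-- **P1**: the frame. -/
def StP1 : Prop :=
  ∀ (G : Type u) [Group G] [Finite G], Ctx G → ∀ S : Sylow 2 G, Full (S : Subgroup G) → DataZ (S : Subgroup G) →
    ¬ zl (S : Subgroup G) (MZ (S : Subgroup G)) ≤ o2 (CZ (S : Subgroup G)) → ∃ V F, Frm S V F

/-- **P3**: (S+). -/
def StP3 : Prop :=
  ∀ (G : Type u) [Group G] [Finite G], Ctx G → ∀ S : Sylow 2 G, DataZ (S : Subgroup G) →
    ¬ CaseA (S : Subgroup G) → ∀ V F : Subgroup G, Hyp V F → ∀ P Q : Subgroup G,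
    IsParS (S : Subgroup G) P → IsParS (S : Subgroup G) Q → ∀ g g' q : G,
    MulAut.conj g' • zc (S : Subgroup G) = MulAut.conj g • zc (S : Subgroup G) → q ∈ Q →
    MulAut.conj (g' * q) • zc (S : Subgroup G) ⊓ F ≠ ⊥ → MulAut.conj g • zl (S : Subgroup G) P ≤ V →
    MulAut.conj g • zl (S : Subgroup G) P ≤ EE V F

/-- **P2**: galleries. -/
def StP2 : Prop :=
  ∀ (G : Type u) [Group G] [Finite G], Ctx G → ∀ S : Sylow 2 G, Full (S : Subgroup G) →
    DataZ (S : Subgroup G) → ¬ CaseA (S : Subgroup G) → ∀ V F, Frm S V F → ∃ V F B P R p, Sit S V F B P R p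

variable {G : Type u} [Group G] [Finite G] {S : Sylow 2 G} {V F B P R : Subgroup G} {p : G}

/-- **P5**: `U` is an FF-module. -/
def StP5 : Prop :=
  ∀ (G : Type u) [Group G] [Finite G] (S : Sylow 2 G) (V F B P R : Subgroup G) (p : G), Sit S V F B P R p →
    ∃ A ≤ P, OffM (zl (S : Subgroup G) P) A

/-- **P6**: `U` is not of symmetric type. -/
def StP6 : Prop :=
  ∀ (G : Type u) [Group G] [Finite G] (S : Sylow 2 G) (V F B P R : Subgroup G) (p : G), Sit S V F B P R p →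
    ∀ k m : ℕ, 0 < k → 2 ≤ m → SymKM (S : Subgroup G) P (zl (S : Subgroup G) P) ⊥ k m → False

/-- **P7a**: `B` normalises every bad block and acts on it through the root group. -/
def StP7a : Prop :=
  ∀ (G : Type u) [Group G] [Finite G] (S : Sylow 2 G) (V F B P R : Subgroup G) (p : G), Sit S V F B P R p →
    ∀ (K : Type) [Field K] [Finite K] [CharP K 2] (k : ℕ)
      (N : NatKM K (S : Subgroup G) P (zl (S : Subgroup G) P) ⊥ k) (i : Fin k),
      (∃ w, Blk N i w ∧ w ∉ EE V F) → ∀ b ∈ B, ∃ x : K, ∀ v, Blk N i v →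
        Blk N i (b * v * b⁻¹) ∧ N.e (b * v * b⁻¹) i = ap (up x) (N.e v i)

/-- **P7b**: the natural situation. -/
def StP7b : Prop :=
  ∀ (G : Type u) [Group G] [Finite G] (S : Sylow 2 G) (V F B P R : Subgroup G) (p : G), Sit S V F B P R p →
    ∀ (K : Type) [Field K] [Finite K] [CharP K 2] (k : ℕ)
      (N : NatKM K (S : Subgroup G) P (zl (S : Subgroup G) P) ⊥ k), 0 < k →
      (∀ i : Fin k, (∃ w, Blk N i w ∧ w ∉ EE V F) → ∀ b ∈ B, ∃ x : K, ∀ v, Blk N i v →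
        Blk N i (b * v * b⁻¹) ∧ N.e (b * v * b⁻¹) i = ap (up x) (N.e v i)) →
      ∃ (i : Fin k) (β : G → K), NSit S V F B P R p N i β

/-- **P8**: the torus. -/
def StP8 : Prop :=
  ∀ (G : Type u) [Group G] [Finite G] (S : Sylow 2 G) (V F B P R : Subgroup G) (p : G)
    (K : Type) [Field K] [Finite K] [CharP K 2] (k : ℕ)
    (N : NatKM K (S : Subgroup G) P (zl (S : Subgroup G) P) ⊥ k) (i : Fin k) (β : G → K),
    NSit S V F B P R p N i β → Tor (F := F) N i

/-- **P9a**: (CE) `C_E(B) = R_i F`. -/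
def StP9a : Prop :=
  ∀ (G : Type u) [Group G] [Finite G] (S : Sylow 2 G) (V F B P R : Subgroup G) (p : G)
    (K : Type) [Field K] [Finite K] [CharP K 2] (k : ℕ)
    (N : NatKM K (S : Subgroup G) P (zl (S : Subgroup G) P) ⊥ k) (i : Fin k) (β : G → K),
    NSit S V F B P R p N i β → ∀ r ∈ EE V F, r ∈ centralizer (B : Set G) → ∃ s, Rtv N i s ∧ s⁻¹ * r ∈ F

/-- **P9b**: (EQ): there is an `S`-equivariant family of full-support vectors `u(v) ∈ U`, `v ∈ V_R` singular,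
with `v u(v) ∈ F`. -/
def StP9b : Prop :=
  ∀ (G : Type u) [Group G] [Finite G] (S : Sylow 2 G) (V F B P R : Subgroup G) (p : G)
    (K : Type) [Field K] [Finite K] [CharP K 2] (k : ℕ)
    (N : NatKM K (S : Subgroup G) P (zl (S : Subgroup G) P) ⊥ k) (i : Fin k) (β : G → K),
    NSit S V F B P R p N i β → Tor (F := F) N i →
    (∀ r ∈ EE V F, r ∈ centralizer (B : Set G) → ∃ s, Rtv N i s ∧ s⁻¹ * r ∈ F) →
    ∃ u : G → G, ∀ g ∈ R, ∀ v ∈ MulAut.conj g • zc (S : Subgroup G), v ≠ 1 →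
      u v ∈ zl (S : Subgroup G) P ∧ (∀ j, N.e (u v) j ≠ 0) ∧ v * u v ∈ F ∧
        ∀ s ∈ (S : Subgroup G), u (s * v * s⁻¹) = s * u v * s⁻¹

/-- **P9c**: (END). -/
def StP9c : Prop :=
  ∀ (G : Type u) [Group G] [Finite G] (S : Sylow 2 G) (V F B P R : Subgroup G) (p : G)
    (K : Type) [Field K] [Finite K] [CharP K 2] (k : ℕ)
    (N : NatKM K (S : Subgroup G) P (zl (S : Subgroup G) P) ⊥ k) (i : Fin k) (β : G → K),
    NSit S V F B P R p N i β →
    (∃ u : G → G, ∀ g ∈ R, ∀ v ∈ MulAut.conj g • zc (S : Subgroup G), v ≠ 1 →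
      u v ∈ zl (S : Subgroup G) P ∧ (∀ j, N.e (u v) j ≠ 0) ∧ v * u v ∈ F ∧
        ∀ s ∈ (S : Subgroup G), u (s * v * s⁻¹) = s * u v * s⁻¹) → False

end parts

end Cfsg.Agent.Omega.NOThreeL.Low
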