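import Cfsg.Agent.Omega.FFThmM

/-!
# THEOREM LOW of NO-3L (#19191, helper597), (T2): the symmetric case

`U = ⨁ Uᵢ` is a sum of even-subset modules of `S_{2^m+1}` (`SymK T H U ⊥ k m`), `B ≤ T` with `[U, B, B] = 1`,
`U ≰ E`.  Then there is `w ∈ U`, `w ∉ E`, with `w^b = w^c` for all `b, c ∈ B` which move `w`.

Take `w = {(i,0), (i,y)}`: these vectors generate `U`, `T` permutes them, and they are linearly independent.
-/

set_option autoImplicit false
set_option maxHeartbeats 400000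

namespace Cfsg.Agent.Omega.NOThreeL.Low.SymCase

open Subgroup Cfsg
open Cfsg.Agent.Omega.FFThm

universe u

variable {G : Type u} [Group G] {T H U : Subgroup G} {k m : ℕ}

/-- The vector with support `{(i, 0), (i, y)}`. -/
def pv {k n : ℕ} [NeZero n] (i : Fin k) (y : Fin n) : Fin k → Fin n → ZMod 2 :=
  fun a x => if a = i ∧ (x = 0 ∨ x = y) then 1 else 0

theorem pv_self {k n : ℕ} [NeZero n] (i : Fin k) (y : Fin n) : pv i y i y = 1 := by
  unfold pv
  rw [if_pos ⟨rfl, Or.inr rfl⟩]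

theorem pv_eq_one {k n : ℕ} [NeZero n] {i j : Fin k} {y z : Fin n} (hz : z ≠ 0) (h : pv i y j z = 1) :
    j = i ∧ z = y := by
  unfold pv at h
  by_contra hcon
  rw [if_neg] at h
  · exact absurd h (by decide)
  · rintro ⟨h1, h2⟩
    exact hcon ⟨h1, h2.resolve_left hz⟩

theorem pv_zero_or_one {k n : ℕ} [NeZero n] (i j : Fin k) (y z : Fin n) : pv i y j z = 0 ∨ pv i y j z = 1 := by
  unfold pv
  split_ifs
  · exact Or.inr rfl
  · exact Or.inl rfl

theorem sum_pv {k n : ℕ} [NeZero n] {i : Fin k} {y : Fin n} (hy : y ≠ 0) (a : Fin k) : ∑ x, pv i y a x = 0 := by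
  by_cases ha : a = i
  · subst ha
    have h1 : ∀ x : Fin n, pv a y a x = (if x = 0 then 1 else 0) + (if x = y then 1 else 0) := by
      intro x
      unfold pv
      by_cases h0 : x = 0
      · subst h0
        rw [if_pos ⟨rfl, Or.inl rfl⟩, if_pos rfl, if_neg (Ne.symm hy), add_zero]
      · by_cases h2 : x = y
        · rw [if_pos ⟨rfl, Or.inr h2⟩, if_neg h0, if_pos h2, zero_add]
        · rw [if_neg, if_neg h0, if_neg h2, add_zero]
          rintro ⟨-, h3 | h3⟩
          exacts [h0 h3, h2 h3]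
    rw [Finset.sum_congr rfl fun x _ => h1 x, Finset.sum_add_distrib, Finset.sum_ite_eq', Finset.sum_ite_eq',
      if_pos (Finset.mem_univ _), if_pos (Finset.mem_univ _)]
    decide
  · refine Finset.sum_eq_zero fun x _ => ?_
    unfold pv
    rw [if_neg]
    rintro ⟨h, -⟩
    exact ha h

variable (h : SymK T H U ⊥ k m)
include h

theorem eq_of_e {v w : G} (hv : v ∈ U) (hw : w ∈ U) (he : h.e v = h.e w) : v = w := by
  have h1 : v * w⁻¹ ∈ U := U.mul_mem hv (U.inv_mem hw)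
  have h2 : h.e v = h.e (v * w⁻¹) + h.e w := by
    rw [← h.mul _ h1 _ hw, inv_mul_cancel_right]
  have h3 : h.e (v * w⁻¹) = 0 := by
    have h4 : h.e (v * w⁻¹) + h.e w = 0 + h.e w := by rw [← h2, he, zero_add]
    exact add_right_cancel h4
  exact mul_inv_eq_one.1 (mem_bot.1 ((h.ker _ h1).1 h3))

theorem exists_w {i : Fin k} {y : Fin (2 ^ m + 1)} (hy : y ≠ 0) : ∃ w ∈ U, h.e w = pv i y :=
  h.surj _ fun a => sum_pv hy a

theorem e_one : h.e 1 = 0 := (h.ker 1 U.one_mem).2 (mem_bot.2 rfl)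

theorem e_inv {v : G} (hv : v ∈ U) : h.e v⁻¹ = h.e v := by
  have h1 : h.e v⁻¹ + h.e v = 0 := by
    rw [← h.mul _ (U.inv_mem hv) _ hv, inv_mul_cancel, e_one h]
  have h2 : h.e v⁻¹ = -h.e v := eq_neg_of_add_eq_zero_left h1
  rw [h2]
  funext i x
  exact CharTwo.neg_eq (h.e v i x)

/-- `T` permutes the vectors `{(i, 0), (i, y)}`. -/
theorem e_conj {t w : G} (ht : t ∈ T) (hTH : T ≤ H) (hw : w ∈ U) {i : Fin k} {y : Fin (2 ^ m + 1)} (hy : y ≠ 0)
    (he : h.e w = pv i y) : ∃ (j : Fin k) (z : Fin (2 ^ m + 1)), z ≠ 0 ∧ h.e (t * w * t⁻¹) = pv j z := by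
  obtain ⟨σ, τ, hστ⟩ := h.perm t (hTH ht)
  have h0 := h.fix0 t ht σ τ hστ
  refine ⟨σ i, τ i y, fun hz => hy ((τ i).injective (hz.trans (h0 i).symm)), ?_⟩
  funext a x
  obtain ⟨a, rfl⟩ := σ.surjective a
  obtain ⟨x, rfl⟩ := (τ a).surjective x
  rw [hστ w hw a x, he]
  unfold pv
  by_cases ha : a = i
  · subst ha
    have e1 : (τ a x = 0) = (x = 0) := by
      apply propext
      constructor
      · intro h1
        exact (τ a).injective (h1.trans (h0 a).symm)
      · rintro rfl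
        exact h0 a
    have e2 : (τ a x = τ a y) = (x = y) := propext ((τ a).injective.eq_iff)
    simp only [e1, e2]
  · rw [if_neg (fun h1 => ha h1.1), if_neg (fun h1 => ha (σ.injective h1.1))]

/-- The vectors `{(i, 0), (i, y)}` generate `U`. -/
theorem exists_notMem {E : Subgroup G} (hE : ¬ U ≤ E) :
    ∃ (i : Fin k) (y : Fin (2 ^ m + 1)), y ≠ 0 ∧ ∃ w ∈ U, w ∉ E ∧ h.e w = pv i y := by
  classical
  by_contra hcon
  have hall : ∀ (i : Fin k) (y : Fin (2 ^ m + 1)), y ≠ 0 → ∀ w ∈ U, h.e w = pv i y → w ∈ E := by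
    intro i y hy w hw he
    by_contra hwE
    exact hcon ⟨i, y, hy, w, hw, hwE, he⟩
  -- every vector is a product
  have key : ∀ (n : ℕ) (v : G), v ∈ U →
      (Finset.univ.filter fun p : Fin k × Fin (2 ^ m + 1) => p.2 ≠ 0 ∧ h.e v p.1 p.2 ≠ 0).card = n → v ∈ E := by
    intro n
    induction n using Nat.strong_induction_on with
    | _ n ih =>
      intro v hv hn
      by_cases hne : ∃ (i : Fin k) (y : Fin (2 ^ m + 1)), y ≠ 0 ∧ h.e v i y ≠ 0
      · obtain ⟨i, y, hy, hiy⟩ := hne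
        obtain ⟨w, hw, he⟩ := exists_w h (i := i) hy
        have hvw : h.e (w * v) = pv i y + h.e v := by rw [h.mul _ hw _ hv, he]
        have hlt : (Finset.univ.filter fun p : Fin k × Fin (2 ^ m + 1) =>
            p.2 ≠ 0 ∧ h.e (w * v) p.1 p.2 ≠ 0).card < n := by
          rw [← hn]
          refine Finset.card_lt_card ⟨fun p hp => ?_, fun hle => ?_⟩
          · rw [Finset.mem_filter] at hp ⊢
            refine ⟨Finset.mem_univ _, hp.2.1, fun h0 => hp.2.2 ?_⟩
            rw [hvw]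
            change pv i y p.1 p.2 + h.e v p.1 p.2 = 0
            rw [h0, add_zero]
            rcases pv_zero_or_one i p.1 y p.2 with h1 | h1
            · exact h1
            · obtain ⟨h2, h3⟩ := pv_eq_one hp.2.1 h1
              rw [h2, h3] at h0
              exact absurd h0 hiy
          · have h1 : (i, y) ∈ Finset.univ.filter fun p : Fin k × Fin (2 ^ m + 1) =>
                p.2 ≠ 0 ∧ h.e v p.1 p.2 ≠ 0 := Finset.mem_filter.2 ⟨Finset.mem_univ _, hy, hiy⟩
            have h2 := (Finset.mem_filter.1 (hle h1)).2.2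
            refine h2 ?_
            rw [hvw]
            change pv i y i y + h.e v i y = 0
            rw [pv_self]
            have h3 : ∀ a : ZMod 2, a ≠ 0 → 1 + a = 0 := by decide
            exact h3 _ hiy
        have h4 := ih _ hlt (w * v) (U.mul_mem hw hv) rfl
        have h5 := E.mul_mem (E.inv_mem (hall i y hy w hw he)) h4
        rwa [inv_mul_cancel_left] at h5
      · have h0 : h.e v = 0 := by
          funext i x
          have hx : ∀ y, y ≠ 0 → h.e v i y = 0 := by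
            intro y hy
            by_contra h1
            exact hne ⟨i, y, hy, h1⟩
          by_cases hx0 : x = 0
          · have h1 := h.even v hv i
            rw [Finset.sum_eq_single (0 : Fin (2 ^ m + 1)) (fun y _ hy => hx y hy)
              (fun h2 => absurd (Finset.mem_univ _) h2)] at h1
            rw [hx0]
            exact h1
          · exact hx x hx0
        rw [mem_bot.1 ((h.ker v hv).1 h0)]
        exact one_mem _
  exact hE fun v hv => key _ v hv rfl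

/-- **(T2)** -/
theorem exists_swap (hTH : T ≤ H) (hHU : H ≤ normalizer (U : Set G)) {B E : Subgroup G} (hBT : B ≤ T)
    (hB : ∀ w ∈ U, ∀ b ∈ B, ∀ c ∈ B, c * (w * (b * w * b⁻¹)) * c⁻¹ = w * (b * w * b⁻¹)) (hE : ¬ U ≤ E) :
    ∃ w ∈ U, w ∉ E ∧ ∀ b ∈ B, ∀ c ∈ B, b * w * b⁻¹ ≠ w → c * w * c⁻¹ ≠ w → b * w * b⁻¹ = c * w * c⁻¹ := by
  obtain ⟨i, y, hy, w, hw, hwE, he⟩ := exists_notMem h hE
  refine ⟨w, hw, hwE, fun b hb c hc hbw hcw => ?_⟩
  have hcj : ∀ t ∈ B, ∀ v ∈ U, t * v * t⁻¹ ∈ U := fun t ht v hv =>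
    (mem_normalizer_iff.1 (hHU (hTH (hBT ht))) v).1 hv
  obtain ⟨j, y', hy', hj⟩ := e_conj h (hBT hb) hTH hw hy he
  obtain ⟨l, z, hz, hl⟩ := e_conj h (hBT hc) hTH hw hy he
  obtain ⟨l', z', hz', hl'⟩ := e_conj h (hBT hc) hTH (hcj b hb w hw) hy' hj
  have h1 := hB w hw b hb c hc
  have h2 : c * (w * (b * w * b⁻¹)) * c⁻¹ = c * w * c⁻¹ * (c * (b * w * b⁻¹) * c⁻¹) := by group
  rw [h2] at h1
  have h3 := congrArg h.e h1
  rw [h.mul _ (hcj c hc w hw) _ (hcj c hc _ (hcj b hb w hw)), h.mul _ hw _ (hcj b hb w hw), hl, hl', he, hj] at h3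
  -- `(l, z) = (j, y')`
  have h4 : pv l z l z + pv l' z' l z = pv i y l z + pv j y' l z := congrFun (congrFun h3 l) z
  have hne1 : pv i y l z = 0 := by
    rcases pv_zero_or_one i l y z with h5 | h5
    · exact h5
    · obtain ⟨e1, e2⟩ := pv_eq_one hz h5
      refine absurd (eq_of_e h (hcj c hc w hw) hw ?_) hcw
      rw [hl, he, e1, e2]
  have hne2 : pv l' z' l z = 0 := by
    rcases pv_zero_or_one l' l z' z with h5 | h5
    · exact h5
    · obtain ⟨e1, e2⟩ := pv_eq_one hz h5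
      refine absurd ?_ hbw
      have h6 : c * w * c⁻¹ = c * (b * w * b⁻¹) * c⁻¹ :=
        eq_of_e h (hcj c hc w hw) (hcj c hc _ (hcj b hb w hw)) (by rw [hl, hl', e1, e2])
      have h7 : w = b * w * b⁻¹ := mul_left_cancel (mul_right_cancel h6)
      exact h7.symm
  rw [pv_self, hne1, hne2, add_zero, zero_add] at h4
  obtain ⟨e1, e2⟩ := pv_eq_one hz h4.symm
  exact eq_of_e h (hcj b hb w hw) (hcj c hc w hw) (by rw [hj, hl, e1, e2])

/-- **(T2)** with (T1) + (I2) as the hypothesis `t1` (the form of helper934's `QB`). -/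
theorem le_of_t1 (hTH : T ≤ H) (hHU : H ≤ normalizer (U : Set G)) {B E : Subgroup G} (hBT : B ≤ T)
    (hB : ∀ w ∈ U, ∀ b ∈ B, ∀ c ∈ B, c * (b * w * b⁻¹ * w⁻¹) = b * w * b⁻¹ * w⁻¹ * c)
    (t1 : ∀ w ∈ U, w ∉ E → ¬ ∀ b ∈ B, ∀ c ∈ B, b * w * b⁻¹ ≠ w → c * w * c⁻¹ ≠ w →
      b * w * b⁻¹ = c * w * c⁻¹) : U ≤ E := by
  by_contra hE
  have key : ∀ w ∈ U, ∀ b ∈ B, ∀ c ∈ B, c * (w * (b * w * b⁻¹)) * c⁻¹ = w * (b * w * b⁻¹) := by
    intro w hw b hb c hc
    have hbw : b * w * b⁻¹ ∈ U := (mem_normalizer_iff.1 (hHU (hTH (hBT hb))) w).1 hw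
    have e0 : w⁻¹ = w := eq_of_e h (U.inv_mem hw) hw (e_inv h hw)
    have e1 : w * (b * w * b⁻¹) = b * w * b⁻¹ * w⁻¹ := by
      rw [e0]
      exact eq_of_e h (U.mul_mem hw hbw) (U.mul_mem hbw hw)
        (by rw [h.mul _ hw _ hbw, h.mul _ hbw _ hw]; exact add_comm _ _)
    rw [e1, hB w hw b hb c hc, mul_inv_cancel_right]
  obtain ⟨w, hw, hwE, h1⟩ := exists_swap h hTH hHU hBT key hE
  exact t1 w hw hwE h1

end Cfsg.Agent.Omega.NOThreeL.Low.SymCase
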