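import Cfsg.Agent.Omega.NOne.Flat.Off

/-!
# THEOREM LOW (#19191 helper597, #19093 helper876), the part on `Flat.Hyp`

`Hyp V F` (THEOREM FLAT), `X = C_G(F)`, `E = EE V F`, `W = WW V F`, `N = NN V F = C_W(E)`.

* `pr` **(PR)** : `A` abelian, normalised by `X` ⟹ `V ∩ A ≤ E`;
* `BH V F B` : `F ≤ B ≤ W`, `B` abelian, `X ≤ N(B)`; `I = V ∩ B`;
* `BH.I_le_E`, `BH.c_memI`, `BH.quad` **(B1)** : `I ≤ E`, `[V, B] ≤ I`, `[V, B, B] = 1`;
* `BH.surj`, `BH.relIndex_B` **(B2)** : `[w, B] F = I` for `w ∈ V - E`, `|B : B ∩ N| = |I : F|`;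
* `BH.conjI_inf_NN`, `BH.exists_conjI_mul` : `I^x ∩ N = F`, `B = I^x (B ∩ N)` for `x ∈ X` bad;
* `BH.relIndex_le_two` **(T1)** : some `w ∈ V - E` has at most one other `B`-conjugate ⟹ `|I : F| ≤ 2`;
* `BH.relIndex_V_le` : `|V : E| ≤ |I : F|` if `F < I`;
* `BH.root` **(KEY, #19093 (4))** : if `|I : F| ≤ |V : E|`, then `[r, W]` is the same group for all `r ∈ I - F`.
-/

set_option autoImplicit false

namespace Cfsg.Agent.Omega.NOThreeL.Low.Key

open Subgroup Cfsg Cfsg.Agent.Omega.NoFF.Basic Cfsg.Agent.Omega.NOne.Frame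
open Cfsg.Agent.Omega.NOne.NearFF (Near c c_def c_inv)
open Cfsg.Agent.Omega.NOne.Flat
open Cfsg.Agent.Omega.NOne.Flat.Hyp
open Cfsg.Agent.ZN (o2)
open Cfsg.Agent.MinSimple.VModule
open scoped Pointwise

universe u

variable {G : Type u} [Group G]

theorem c_eq_one' {a b : G} (h : a * b = b * a) : c a b = 1 := by
  rw [c, h, mul_inv_cancel_right, mul_inv_cancel]

theorem comm_of_c {a b : G} (h : c a b = 1) : a * b = b * a := by
  have e : a * b = c a b * (b * a) := by rw [c]; group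
  rw [e, h, one_mul]

theorem norm_conj_mem {A : Subgroup G} {x a : G} (hx : x ∈ normalizer (A : Set G)) (ha : a ∈ A) :
    x * a * x⁻¹ ∈ A := norm_mem hx ha

/-- `[w, s] ∈ A` if `w ∈ A` and `s` normalises `A`. -/
theorem c_mem_left {A : Subgroup G} {w s : G} (hw : w ∈ A) (hs : s ∈ normalizer (A : Set G)) : c w s ∈ A := by
  have h1 : s * w⁻¹ * s⁻¹ ∈ A := norm_conj_mem hs (inv_mem hw)
  have e : c w s = w * (s * w⁻¹ * s⁻¹) := by rw [c]; group
  rw [e]
  exact mul_mem hw h1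

/-- `[w, s] ∈ A` if `s ∈ A` and `w` normalises `A`. -/
theorem c_mem_right {A : Subgroup G} {w s : G} (hw : w ∈ normalizer (A : Set G)) (hs : s ∈ A) : c w s ∈ A :=
  mul_mem (norm_conj_mem hw hs) (inv_mem hs)

/-- some `x ∈ X` is bad -/
theorem exists_bad [Finite G] {V F : Subgroup G} (h : Hyp V F) : ∃ x ∈ centralizer (F : Set G), BadX V x := by
  obtain ⟨w, hw, hwE⟩ := h.exists_not_mem
  obtain ⟨x, hx, hb, -⟩ := h.exists_near hw hwE
  exact ⟨x, hx, hb⟩

theorem conj_eq_of_norm' {x : G} {A : Subgroup G} (hx : x ∈ normalizer (A : Set G)) :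
    MulAut.conj x • A = A := by
  ext y
  rw [mem_conj]
  constructor
  · intro h1
    have := norm_conj_mem hx h1
    have e : x * (x⁻¹ * y * x) * x⁻¹ = y := by group
    rwa [e] at this
  · intro h1
    have := norm_conj_mem (inv_mem hx) h1
    rwa [inv_inv] at this

/-- **(PR)** an abelian group normalised by `X` meets `V` in a subgroup of `E`. -/
theorem pr [Finite G] {V F A : Subgroup G} (h : Hyp V F) (hA : A ≤ centralizer (A : Set G))
    (hX : centralizer (F : Set G) ≤ normalizer (A : Set G)) : V ⊓ A ≤ EE V F := by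
  intro w hw
  obtain ⟨hwV, hwA⟩ := mem_inf.1 hw
  by_contra hwE
  -- every `e ∈ E` is in `(A ∩ X) F`
  have key : ∀ e ∈ EE V F, ∃ a ∈ A, a * e⁻¹ ∈ F := by
    intro e he
    obtain ⟨s, hs, hse⟩ := h.surj hwV hwE he
    exact ⟨c w s, c_mem_left hwA (hX (W_le_X hs)), hse⟩
  -- `[E, E^x] = 1`
  have key2 : ∀ x ∈ centralizer (F : Set G), ∀ e ∈ EE V F, ∀ e' ∈ EE V F,
      e * (x * e' * x⁻¹) = x * e' * x⁻¹ * e := by
    intro x hx e he e' he'
    obtain ⟨a, ha, hae⟩ := key e he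
    obtain ⟨a', ha', hae'⟩ := key e' he'
    have hXA : x * a' * x⁻¹ ∈ A := norm_conj_mem (hX hx) ha'
    -- `e = f a`, `x e' x⁻¹ = f' x a' x⁻¹`
    have hf : a * e⁻¹ ∈ F := hae
    have hf' : a' * e'⁻¹ ∈ F := hae'
    have heX : e ∈ centralizer (F : Set G) := E_le_X he
    have heX' : x * e' * x⁻¹ ∈ centralizer (F : Set G) :=
      mul_mem (mul_mem hx (E_le_X he')) (inv_mem hx)
    have haX : a ∈ centralizer (F : Set G) := by
      have : a = a * e⁻¹ * e := by group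
      rw [this]
      exact mul_mem (h.V_le_X (h.F_le_V hf)) heX
    have haX' : x * a' * x⁻¹ ∈ centralizer (F : Set G) := by
      have : x * a' * x⁻¹ = x * (a' * e'⁻¹) * x⁻¹ * (x * e' * x⁻¹) := by group
      rw [this]
      exact mul_mem (h.V_le_X (h.F_le_V (norm_conj_mem (X_norm_F hx) hf'))) heX'
    have haa : a * (x * a' * x⁻¹) = x * a' * x⁻¹ * a := comm_of_le_centralizer hA ha hXA
    have e1 : e = (a * e⁻¹)⁻¹ * a := by group
    have e2 : x * e' * x⁻¹ = (x * (a' * e'⁻¹) * x⁻¹)⁻¹ * (x * a' * x⁻¹) := by group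
    have hg : (a * e⁻¹)⁻¹ ∈ F := inv_mem hf
    have hg' : (x * (a' * e'⁻¹) * x⁻¹)⁻¹ ∈ F := inv_mem (norm_conj_mem (X_norm_F hx) hf')
    generalize (a * e⁻¹)⁻¹ = g at e1 hg
    generalize (x * (a' * e'⁻¹) * x⁻¹)⁻¹ = g' at e2 hg'
    generalize x * a' * x⁻¹ = b at haX' haa e2
    rw [e2, e1]
    have c1 : a * g' = g' * a := (F_comm hg' haX).symm
    have c2 : b * g = g * b := (F_comm hg haX').symm
    have c3 : g * g' = g' * g := h.V_comm (h.F_le_V hg) (h.F_le_V hg')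
    calc g * a * (g' * b) = g * (a * g') * b := by group
      _ = g * g' * (a * b) := by rw [c1]; group
      _ = g' * g * (b * a) := by rw [c3, haa]
      _ = g' * (g * b) * a := by group
      _ = g' * (b * g) * a := by rw [c2]
      _ = g' * b * (g * a) := by group
  -- `W` centralises `E`
  have h3 : WW V F ≤ centralizer (EE V F : Set G) := by
    refine V_le fun x hx s hs => ?_
    obtain ⟨e', he', rfl⟩ := mem_conj'.1 hs
    rw [mem_centralizer_iff]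
    exact fun e he => key2 x hx e he e' he'
  have h4 : EE V F ≤ F := (le_inf le_rfl (comm_symm h3)).trans h.cent_EW.le
  exact h.E_ne_F (le_antisymm h4 h.F_le_E)

/-- `F ≤ B ≤ W`, `B` abelian, normalised by `X = C_G(F)`. -/
structure BH (V F B : Subgroup G) : Prop extends Hyp V F where
  le_W : B ≤ WW V F
  F_le : F ≤ B
  abel : B ≤ centralizer (B : Set G)
  norm : centralizer (F : Set G) ≤ normalizer (B : Set G)

namespace BH

variable {V F B : Subgroup G} (h : BH V F B)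
include h

theorem F_le_I : F ≤ V ⊓ B := le_inf h.toHyp.F_le_V h.F_le

/-- `I ≤ E` -/
theorem I_le_E [Finite G] : V ⊓ B ≤ EE V F := pr h.toHyp h.abel h.norm

theorem B_comm {a b : G} (ha : a ∈ B) (hb : b ∈ B) : a * b = b * a := comm_of_le_centralizer h.abel ha hb

/-- `[V, B] ≤ I` -/
theorem c_memI {w b : G} (hw : w ∈ V) (hb : b ∈ B) : c w b ∈ V ⊓ B :=
  mem_inf.2 ⟨h.toHyp.c_memV hw (h.le_W hb), c_mem_right (h.norm (h.toHyp.V_le_X hw)) hb⟩

/-- `[V, B, B] = 1` -/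
theorem quad {w b b' : G} (hw : w ∈ V) (hb : b ∈ B) (hb' : b' ∈ B) : c w b * b' = b' * c w b :=
  h.B_comm (h.c_memI hw hb).2 hb'

theorem conj_B {x : G} (hx : x ∈ centralizer (F : Set G)) : MulAut.conj x • B = B :=
  conj_eq_of_norm' (h.norm hx)

theorem conjI_le_B {x : G} (hx : x ∈ centralizer (F : Set G)) : MulAut.conj x • (V ⊓ B) ≤ B := by
  have := (conj_le_iff (g := x)).2 (inf_le_right : V ⊓ B ≤ B)
  rwa [h.conj_B hx] at this

theorem F_le_conjI {x : G} (hx : x ∈ centralizer (F : Set G)) : F ≤ MulAut.conj x • (V ⊓ B) := by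
  have := (conj_le_iff (g := x)).2 h.F_le_I
  rwa [conj_eq_of_cent hx] at this

/-- `I^x ∩ N = F` for bad `x` -/
theorem conjI_inf_NN [Finite G] {x : G} (hx : x ∈ centralizer (F : Set G)) (hb : BadX V x) :
    MulAut.conj x • (V ⊓ B) ⊓ NN V F = F := by
  refine le_antisymm ?_ (le_inf (h.F_le_conjI hx) h.toHyp.F_le_NN)
  exact (inf_le_inf_right _ ((conj_le_iff (g := x)).2 h.I_le_E)).trans (h.toHyp.conjE_inf_NN hx hb).le

/-- `w ↦ [w, b]`: the kernel of `b ↦ [w, b] F` is `B ∩ N` for `w ∈ V - E`. -/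
theorem cos_B [Finite G] {w : G} (hw : w ∈ V) (hwE : w ∉ EE V F) : Cos (c w) B (NN V F) (V ⊓ B) F where
  mem := fun _ hb => h.c_memI hw hb
  iff := fun a ha b hb => by
    rw [h.toHyp.c_iff hw (h.le_W ha) (h.le_W hb),
      h.toHyp.c_mem_F_iff hw hwE (h.le_W (mul_mem (inv_mem ha) hb))]

theorem relIndex_conjI {x : G} [Finite G] (hx : x ∈ centralizer (F : Set G)) :
    F.relIndex (MulAut.conj x • (V ⊓ B)) = F.relIndex (V ⊓ B) := by
  have e1 := card_mul_relIndex' h.F_le_I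
  have e2 := card_mul_relIndex' (h.F_le_conjI hx)
  rw [NOne.Choice.card_conj, ← e1] at e2
  exact Nat.eq_of_mul_eq_mul_left Nat.card_pos e2

/-- `I^x → B / (B ∩ N)` -/
theorem cos_conjI [Finite G] {x : G} (hx : x ∈ centralizer (F : Set G)) (hb : BadX V x) :
    Cos id (MulAut.conj x • (V ⊓ B)) F B (NN V F) where
  mem := fun _ ha => h.conjI_le_B hx ha
  iff := fun a ha b hb' => by
    refine ⟨fun h1 => ?_, fun h1 => h.toHyp.F_le_NN h1⟩
    rw [← h.conjI_inf_NN hx hb]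
    exact mem_inf.2 ⟨mul_mem (inv_mem ha) hb', h1⟩

/-- **(B2)** `|B : B ∩ N| = |I : F|` -/
theorem relIndex_B [Finite G] : (NN V F).relIndex B = F.relIndex (V ⊓ B) := by
  obtain ⟨w, hw, hwE⟩ := h.toHyp.exists_not_mem
  obtain ⟨x, hx, hb⟩ := exists_bad h.toHyp
  refine le_antisymm (h.cos_B hw hwE).le ?_
  have := (h.cos_conjI hx hb).le
  rwa [h.relIndex_conjI hx] at this

/-- **(B2)** `[w, B] F = I` for `w ∈ V - E` -/
theorem surj [Finite G] {w y : G} (hw : w ∈ V) (hwE : w ∉ EE V F) (hy : y ∈ V ⊓ B) :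
    ∃ b ∈ B, (c w b)⁻¹ * y ∈ F := (h.cos_B hw hwE).surj h.relIndex_B.ge hy

/-- `B = I^x (B ∩ N)` for bad `x` -/
theorem exists_conjI_mul [Finite G] {x b : G} (hx : x ∈ centralizer (F : Set G)) (hb : BadX V x) (hbB : b ∈ B) :
    ∃ f ∈ MulAut.conj x • (V ⊓ B), f⁻¹ * b ∈ NN V F := by
  refine (h.cos_conjI hx hb).surj ?_ hbB
  rw [h.relIndex_B, h.relIndex_conjI hx]

/-- `[w, b] ∈ F`, `w ∈ V - E` ⟹ `b ∈ N` -/
theorem mem_NN_of_c [Finite G] {w b : G} (hw : w ∈ V) (hwE : w ∉ EE V F) (hb : b ∈ B) (hc : c w b ∈ F) :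
    b ∈ NN V F := (h.toHyp.c_mem_F_iff hw hwE (h.le_W hb)).1 hc

/-- `[w, b] ∈ F`, `b ∈ B - N` ⟹ `w ∈ E` -/
theorem mem_E_of_c [Finite G] {w b : G} (hw : w ∈ V) (hb : b ∈ B) (hbN : b ∉ NN V F) (hc : c w b ∈ F) :
    w ∈ EE V F := h.toHyp.mem_E_of_c hw (h.le_W hb) hbN hc

/-- **(T1)** -/
theorem relIndex_le_two [Finite G] {w : G} (hw : w ∈ V) (hwE : w ∉ EE V F)
    (h1 : ∀ b ∈ B, ∀ b' ∈ B, b * w * b⁻¹ ≠ w → b' * w * b'⁻¹ ≠ w → b * w * b⁻¹ = b' * w * b'⁻¹) :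
    F.relIndex (V ⊓ B) ≤ 2 := by
  rw [← h.relIndex_B]
  -- `b ∈ B - N` moves `w`
  have h2 : ∀ b ∈ B, b ∉ NN V F → b * w * b⁻¹ ≠ w := by
    intro b hb hbN he
    refine hbN (h.mem_NN_of_c hw hwE hb ?_)
    have : c w b = w * (b * w * b⁻¹)⁻¹ := by rw [c]; group
    rw [this, he, mul_inv_cancel]
    exact one_mem _
  by_cases h3 : B ≤ NN V F
  · rw [relIndex_eq_one.2 h3]
    norm_num
  · obtain ⟨b, hb, hbN⟩ := SetLike.not_le_iff_exists.1 h3
    have h4 : ∀ a ∈ B, a ∉ NN V F → b⁻¹ * a ∈ NN V F := by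
      intro a ha haN
      refine h.mem_NN_of_c hw hwE (mul_mem (inv_mem hb) ha) ?_
      have h5 := h1 b hb a ha (h2 b hb hbN) (h2 a ha haN)
      have h6 : (b⁻¹ * a) * w * (b⁻¹ * a)⁻¹ = w := by
        calc (b⁻¹ * a) * w * (b⁻¹ * a)⁻¹ = b⁻¹ * (a * w * a⁻¹) * b := by group
          _ = b⁻¹ * (b * w * b⁻¹) * b := by rw [h5]
          _ = w := by group
      have : c w (b⁻¹ * a) = w * ((b⁻¹ * a) * w * (b⁻¹ * a)⁻¹)⁻¹ := by rw [c]; group
      rw [this, h6, mul_inv_cancel]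
      exact one_mem _
    -- two cosets
    have h5 : (NN V F).relIndex B ≤ 2 := by
      rw [relIndex, index_eq_card]
      refine (Nat.card_le_card_of_surjective
        (fun i : Bool => if i then (QuotientGroup.mk (⟨b, hb⟩ : B) : B ⧸ (NN V F).subgroupOf B)
          else QuotientGroup.mk (1 : B)) ?_).trans (by simp)
      intro y
      refine Quotient.inductionOn' y fun a => ?_
      by_cases ha : (a : G) ∈ NN V F
      · refine ⟨false, ?_⟩
        change (QuotientGroup.mk (1 : B) : B ⧸ (NN V F).subgroupOf B) = QuotientGroup.mk a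
        rw [QuotientGroup.eq, mem_subgroupOf]
        simpa using ha
      · refine ⟨true, ?_⟩
        change (QuotientGroup.mk (⟨b, hb⟩ : B) : B ⧸ (NN V F).subgroupOf B) = QuotientGroup.mk a
        rw [QuotientGroup.eq, mem_subgroupOf]
        exact h4 a a.2 ha
    exact h5

/-- `B ≰ N` if `F < I` -/
theorem exists_not_mem_NN [Finite G] (hI : ¬ V ⊓ B ≤ F) : ∃ b ∈ B, b ∉ NN V F := by
  by_contra hall
  push Not at hall
  have h1 : (NN V F).relIndex B = 1 := relIndex_eq_one.2 hall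
  rw [h.relIndex_B, relIndex_eq_one] at h1
  exact hI h1

/-- `V / E → I / F`, `w ↦ [w, b] F`, is injective for `b ∈ B - N`. -/
theorem cos_V [Finite G] {b : G} (hb : b ∈ B) (hbN : b ∉ NN V F) :
    Cos (fun w => c w b) V (EE V F) (V ⊓ B) F where
  mem := fun _ hw => h.c_memI hw hb
  iff := fun a ha a' ha' => by
    rw [← h.toHyp.c_inv_left ha (h.le_W hb), ← h.toHyp.c_mul_left (inv_mem ha) ha' (h.le_W hb)]
    exact ⟨fun h1 => h.mem_E_of_c (mul_mem (inv_mem ha) ha') hb hbN h1,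
      fun h1 => h.toHyp.comm_EW h1 (h.le_W hb)⟩

/-- `|V : E| ≤ |I : F|` -/
theorem relIndex_V_le [Finite G] (hI : ¬ V ⊓ B ≤ F) : (EE V F).relIndex V ≤ F.relIndex (V ⊓ B) := by
  obtain ⟨b, hb, hbN⟩ := h.exists_not_mem_NN hI
  exact (h.cos_V hb hbN).le

/-- **KEY** (#19093 (4)): if `|I : F| ≤ |V : E|`, then `[r, W] = [E, b]` for all `r ∈ I - F`, `b ∈ B - N`. -/
theorem root [Finite G] (hle : F.relIndex (V ⊓ B) ≤ (EE V F).relIndex V) {r b : G} (hr : r ∈ V ⊓ B)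
    (hrF : r ∉ F) (hb : b ∈ B) (hbN : b ∉ NN V F) (y : G) :
    (∃ s ∈ WW V F, c r s = y) ↔ ∃ e ∈ EE V F, c e b = y := by
  have hbW := h.le_W hb
  obtain ⟨w, hw, hwr⟩ := (h.cos_V hb hbN).surj hle hr
  have hwE : w ∉ EE V F := by
    intro h1
    refine hrF ?_
    have : r = c w b * ((c w b)⁻¹ * r) := by group
    rw [this]
    exact mul_mem (h.toHyp.comm_EW h1 hbW) hwr
  -- `[r, s] = [[w, b], s] = [[w, s], b]`
  have key : ∀ s ∈ WW V F, c r s = c (c w s) b := by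
    intro s hs
    rw [h.toHyp.beta_comm hw hs hbW]
    exact (h.toHyp.c_congr_left (h.toHyp.c_memV hw hbW) hr.1 hs hwr).symm
  constructor
  · rintro ⟨s, hs, rfl⟩
    exact ⟨c w s, h.toHyp.c_memE hw hs, (key s hs).symm⟩
  · rintro ⟨e, he, rfl⟩
    obtain ⟨s, hs, hse⟩ := h.toHyp.surj hw hwE he
    refine ⟨s, hs, ?_⟩
    rw [key s hs]
    refine h.toHyp.c_congr_left (h.toHyp.c_memV hw hs) he.1 hbW ?_
    exact h.toHyp.inv_mul_mem (h.toHyp.c_memV hw hs) he.1 hse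

end BH

end Cfsg.Agent.Omega.NOThreeL.Low.Key
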