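import Cfsg.Agent.Omega.NOThreeL.Low.Defs
import Cfsg.Agent.Omega.NOThreeL.NF.Nat

/-!
# THEOREM LOW (#19191), P9b: (EQ)

`N_i` is the bad block of `U = V_P`.  For a singular vector `v` of the good line `V_R`, `v = ρ(v) f(v)` with
`ρ(v) ∈ R_i`, `f(v) ∈ F`.  By (TORUS) and (S++) `ρ(v^s) = ρ(v)^s` for `s ∈ N_S(N_i)` (`eq_rho`), so the
`S`-conjugates of `ρ` are the components of a vector `τ(v) ∈ U` of full support, `τ(v^s) = τ(v)^s`; by (CE)
`v τ(v) ∈ F`.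
-/

set_option autoImplicit false

namespace Cfsg.Agent.Omega.NOThreeL.Low.EqB

open Subgroup Cfsg Cfsg.Agent.Omega.MinPar Cfsg.Agent.Omega.NOThreeL.Low
open Cfsg.Agent.ZN (zc zl)
open Cfsg.Agent.Omega.NOThreeL.NF.NatR (e_one e_inv e_inj cmem)
open Cfsg.Agent.Omega.NOne.Flat (EE NN WW)
open Cfsg.Agent.Omega.NoFF.Basic (mem_conj conj_conj)
open scoped Pointwise
open Cfsg.Agent.Omega.FFThm (NatKM)
open Cfsg.Agent.Omega.NatPair (ap)
open Cfsg.Agent.MinSimple.VModule (le_normalizer_zl zc_le)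

universe u

section nat

variable {G : Type u} [Group G] {K : Type} [Field K] {S P U : Subgroup G} {k : ℕ}
  {N : NatKM K S P U ⊥ k}

theorem e_mul {a b : G} (ha : a ∈ U) (hb : b ∈ U) : N.e (a * b) = N.e a + N.e b := N.mul a ha b hb

theorem e_ne_zero {a : G} (ha : a ∈ U) (h : a ≠ 1) : N.e a ≠ 0 := fun h1 =>
  h (mem_bot.1 ((N.ker a ha).1 h1))

theorem rtv_mem {i : Fin k} {r : G} (h : Rtv N i r) : r ∈ U := h.1.1

theorem rtv_one {i : Fin k} : Rtv N i 1 := ⟨⟨one_mem _, fun j _ => by rw [e_one]; rfl⟩, by rw [e_one]; rfl⟩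

theorem rtv_inv {i : Fin k} {r : G} (h : Rtv N i r) : Rtv N i r⁻¹ :=
  ⟨⟨inv_mem h.1.1, fun j hj => by rw [e_inv h.1.1, Pi.neg_apply, h.1.2 j hj, neg_zero]⟩, by
    rw [e_inv h.1.1, Pi.neg_apply, Pi.neg_apply, h.2, neg_zero]⟩

theorem rtv_mul {i : Fin k} {r s : G} (h : Rtv N i r) (h' : Rtv N i s) : Rtv N i (r * s) :=
  ⟨⟨mul_mem h.1.1 h'.1.1, fun j hj => by rw [e_mul h.1.1 h'.1.1, Pi.add_apply, h.1.2 j hj, h'.1.2 j hj, add_zero]⟩,
    by rw [e_mul h.1.1 h'.1.1, Pi.add_apply, Pi.add_apply, h.2, h'.2, add_zero]⟩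

/-- a vector of `R_i` is given by its coordinate -/
theorem rtv_ext {i : Fin k} {r s : G} (h : Rtv N i r) (h' : Rtv N i s) (h0 : N.e r i 0 = N.e s i 0) : r = s := by
  refine e_inj (M := N) h.1.1 h'.1.1 ?_
  funext j
  by_cases hj : j = i
  · subst hj
    funext a
    match a with
    | 0 => exact h0
    | 1 => rw [h.2, h'.2]
  · rw [h.1.2 j hj, h'.1.2 j hj]

theorem rtv_ne {i : Fin k} {r : G} (h : Rtv N i r) (h1 : r ≠ 1) : N.e r i 0 ≠ 0 := fun h0 =>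
  h1 (rtv_ext h rtv_one (by rw [h0, e_one]; rfl))

theorem rtv_ne' {i : Fin k} {r : G} (h : Rtv N i r) (h1 : r ≠ 1) : N.e r i ≠ 0 := fun h0 =>
  rtv_ne h h1 (by rw [h0]; rfl)

variable (hSP : S ≤ P) (hPU : P ≤ normalizer (U : Set G))
include hSP hPU

omit hPU in
/-- `t ∈ S` permutes the blocks and the lines. -/
theorem exists_perm {t : G} (ht : t ∈ S) : ∃ σ : Equiv.Perm (Fin k),
    (∀ v ∈ U, ∀ j, N.e (t * v * t⁻¹) (σ j) = 0 ↔ N.e v j = 0) ∧
    ∀ v ∈ U, ∀ j, N.e (t * v * t⁻¹) (σ j) 1 = 0 ↔ N.e v j 1 = 0 := by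
  obtain ⟨σ, h1⟩ := N.perm t (hSP ht)
  obtain ⟨τ, h2⟩ := N.line t ht
  refine ⟨σ, h1, ?_⟩
  have : σ = τ := by
    ext1 j
    -- a vector with the single coordinate `(0,1)` at `j`
    obtain ⟨v, hv, hev⟩ := N.surj (Pi.single j ![0, 1])
    have h3 : N.e v j 1 ≠ 0 := by
      rw [hev, Pi.single_eq_same]
      exact one_ne_zero
    have h4 : N.e (t * v * t⁻¹) (τ j) 1 ≠ 0 := fun h5 => h3 ((h2 v hv j).1 h5)
    by_contra hne
    apply h4
    have h5 : N.e (t * v * t⁻¹) (τ j) = 0 := by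
      have h6 := (h1 v hv (σ.symm (τ j))).2 (by
        rw [hev]
        exact Pi.single_eq_of_ne (fun h7 => hne (σ.symm_apply_eq.1 h7).symm) _)
      rwa [Equiv.apply_symm_apply] at h6
    rw [h5]; rfl
  rw [this]
  exact h2

/-- the image of `R_j` -/
theorem rtv_conj {t : G} (ht : t ∈ S) {i j : Fin k} (hij : ∀ v ∈ U, N.e (t * v * t⁻¹) i = 0 ↔ N.e v j = 0)
    {r : G} (hr : Rtv N j r) : Rtv N i (t * r * t⁻¹) := by
  obtain ⟨σ, h1, h2⟩ := exists_perm hSP (N := N) ht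
  have hσ : σ j = i := by
    by_contra hne
    obtain ⟨v, hv, hev⟩ := N.surj (Pi.single j ![0, 1])
    have h3 : N.e v j ≠ 0 := by
      rw [hev, Pi.single_eq_same]
      exact fun h4 => one_ne_zero (congrFun h4 1)
    apply h3
    rw [← hij v hv]
    have h6 := (h1 v hv (σ.symm i)).2 (by
      rw [hev]
      exact Pi.single_eq_of_ne (fun h7 => hne (σ.symm_apply_eq.1 h7).symm) _)
    rwa [Equiv.apply_symm_apply] at h6
  refine ⟨⟨cmem hPU (hSP ht) hr.1.1, fun l hl => ?_⟩, ?_⟩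
  · have h6 := (h1 r hr.1.1 (σ.symm l)).2 (hr.1.2 _ fun h7 => hl (by rw [← hσ, ← h7, Equiv.apply_symm_apply]))
    rwa [Equiv.apply_symm_apply] at h6
  · have h6 := (h2 r hr.1.1 j).2 hr.2
    rwa [hσ] at h6

omit hSP hPU in
/-- `S`-conjugates of the block `i` -/
theorem sep (i : Fin k) {a b : G} (ha : a ∈ U) (hb : b ∈ U) (hSU : S ≤ normalizer (U : Set G))
    (h : ∀ t ∈ S, N.e (t * a * t⁻¹) i = N.e (t * b * t⁻¹) i) : a = b := by
  refine e_inj (M := N) ha hb ?_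
  funext j
  obtain ⟨t, ht, h1⟩ := N.trans j i
  have h2 := h t ht
  have h3 : N.e (t * (a * b⁻¹) * t⁻¹) i = 0 := by
    have e : t * (a * b⁻¹) * t⁻¹ = (t * a * t⁻¹) * (t * b * t⁻¹)⁻¹ := by group
    have ha' : t * a * t⁻¹ ∈ U := (mem_normalizer_iff.1 (hSU ht) a).1 ha
    have hb' : t * b * t⁻¹ ∈ U := (mem_normalizer_iff.1 (hSU ht) b).1 hb
    rw [e, e_mul ha' (inv_mem hb'), e_inv hb', Pi.add_apply, Pi.neg_apply, h2, add_neg_cancel]
  have h4 := (h1 _ (mul_mem ha (inv_mem hb))).1 h3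
  rw [e_mul ha (inv_mem hb), e_inv hb, Pi.add_apply, Pi.neg_apply] at h4
  exact add_neg_eq_zero.1 h4

end nat

/-! ### (EQ) -/

section main

variable {G : Type u} [Group G] [Finite G] {S : Sylow 2 G} {V F B P R : Subgroup G} {p : G}
  {K : Type} [Field K] {k : ℕ}
  {N : NatKM K (S : Subgroup G) P (zl (S : Subgroup G) P) ⊥ k} {i : Fin k} {β : G → K}

/-- the singular vectors of `V_R` -/
def SS (S : Sylow 2 G) (R : Subgroup G) (v : G) : Prop :=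
  v ≠ 1 ∧ ∃ g ∈ R, v ∈ MulAut.conj g • zc (S : Subgroup G)

variable (h : NSit S V F B P R p N i β)
include h

theorem S_le_P : (S : Subgroup G) ≤ P := h.hP.le

theorem S_le_R : (S : Subgroup G) ≤ R := h.hR.le

omit h [Field K] [Finite G] in
theorem norm_U : P ≤ normalizer (zl (S : Subgroup G) P : Set G) := le_normalizer_zl _ _

theorem U_le_V : zl (S : Subgroup G) P ≤ V := h.UV

theorem SS_conj {v : G} (hv : SS S R v) {s : G} (hs : s ∈ (S : Subgroup G)) : SS S R (s * v * s⁻¹) := by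
  obtain ⟨h1, q, hq, h2⟩ := hv
  refine ⟨fun h3 => h1 ?_, s * q, mul_mem (S_le_R h hs) hq, ?_⟩
  · have e : v = s⁻¹ * (s * v * s⁻¹) * s := by group
    rw [e, h3]; group
  · rw [mem_conj] at h2 ⊢
    have e : (s * q)⁻¹ * (s * v * s⁻¹) * (s * q) = q⁻¹ * v * q := by group
    rwa [e]

omit h [Field K] [Finite G] in
theorem SS_mem_R {v : G} (hv : SS S R v) : v ∈ zl (S : Subgroup G) R := by
  obtain ⟨-, q, hq, h2⟩ := hv
  have h3 := (mem_normalizer_iff.1 (le_normalizer_zl (S : Subgroup G) R hq) _).1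
    (MinSimple.VModule.zc_le_zl _ _ (mem_conj.1 h2))
  have e : q * (q⁻¹ * v * q) * q⁻¹ = v := by group
  rwa [e] at h3

theorem SS_mem {v : G} (hv : SS S R v) : v ∈ V ⊓ B :=
  ⟨h.RV (SS_mem_R hv), h.RB (SS_mem_R hv)⟩

theorem SS_not_F {v : G} (hv : SS S R v) : v ∉ F := by
  obtain ⟨h1, q, hq, h2⟩ := hv
  intro h3
  have h4 := h.spp 1 1 q R (one_mem _) rfl h.hR hq
  rw [one_mul] at h4
  have : v ∈ MulAut.conj q • zc (S : Subgroup G) ⊓ F := ⟨h2, h3⟩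
  rw [h4] at this
  exact h1 (mem_bot.1 this)

omit h in
/-- the component of `v` in `R_i` -/
noncomputable def rho (N : NatKM K (S : Subgroup G) P (zl (S : Subgroup G) P) ⊥ k) (i : Fin k)
    (F : Subgroup G) (v : G) : G := by
  classical
  exact if h1 : ∃ r, Rtv N i r ∧ r⁻¹ * v ∈ F then h1.choose else 1

theorem rho_spec {v : G} (hv : SS S R v) : Rtv N i (rho N i F v) ∧ (rho N i F v)⁻¹ * v ∈ F := by
  classical
  have h1 := h.I v (SS_mem h hv)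
  unfold rho
  rw [dif_pos h1]
  exact h1.choose_spec

theorem rho_ne {v : G} (hv : SS S R v) : rho N i F v ≠ 1 := by
  intro h1
  have h2 := (rho_spec h hv).2
  rw [h1, inv_one, one_mul] at h2
  exact SS_not_F h hv h2

omit h [Finite G] in
theorem F_comm {g f : G} (hg : g ∈ centralizer (F : Set G)) (hf : f ∈ F) : g * f * g⁻¹ = f := by
  have := mem_centralizer_iff.1 hg f hf
  rw [← this, mul_inv_cancel_right]

omit h [Finite G] in
/-- the diagonal matrix -/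
theorem exists_diag {l : K} (hl : l ≠ 0) : ∃ q ∈ P, ∀ v ∈ zl (S : Subgroup G) P,
    (∀ j, j ≠ i → N.e (q * v * q⁻¹) j = N.e v j) ∧ N.e (q * v * q⁻¹) i 0 = l * N.e v i 0 ∧
      (N.e v i 1 = 0 → N.e (q * v * q⁻¹) i 1 = 0) := by
  classical
  obtain ⟨q, hq, h1⟩ := N.lift (Function.update 1 i (Lib.SL2Mat.dg l hl))
  refine ⟨q, hq, fun v hv => ⟨fun j hj => ?_, ?_, fun h0 => ?_⟩⟩
  · rw [h1.1 v hv j, Function.update_of_ne hj, Pi.one_apply, NatPair.ap_one]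
  · rw [h1.1 v hv i, Function.update_self, NatPair.ap_zero', Lib.SL2Mat.dg_00, Lib.SL2Mat.dg_01, zero_mul, add_zero]
  · rw [h1.1 v hv i, Function.update_self, NatPair.ap_one', Lib.SL2Mat.dg_10, Lib.SL2Mat.dg_11, h0, zero_mul,
      mul_zero, add_zero]

/-- **(TORUS)**, second form -/
theorem tor (hT : Tor (F := F) N i) {b r : G} (hb : Rtv N i b) (hb1 : b ≠ 1) (hr : Rtv N i r) (hr1 : r ≠ 1) :
    ∃ g ∈ centralizer (F : Set G), g * b * g⁻¹ = r ∧ ∃ q ∈ P,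
      MulAut.conj g • zc (S : Subgroup G) = MulAut.conj q • zc (S : Subgroup G) := by
  have hl : N.e r i 0 / N.e b i 0 ≠ 0 := div_ne_zero (rtv_ne hr hr1) (rtv_ne hb hb1)
  obtain ⟨g, hg, h1⟩ := hT _ hl
  refine ⟨g, hg, ?_, ?_⟩
  · refine rtv_ext (h1 b hb).1 hr ?_
    rw [(h1 b hb).2, div_mul_cancel₀ _ (rtv_ne hb hb1)]
  · obtain ⟨q, hq, h2⟩ := exists_diag (N := N) (i := i) hl
    refine ⟨q, hq, ?_⟩
    have key : ∀ z ∈ zc (S : Subgroup G), g * z * g⁻¹ = q * z * q⁻¹ := by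
      intro z hz
      obtain ⟨s, hs, hse, hsF⟩ := h.zF z hz
      have hzU : z ∈ zl (S : Subgroup G) P := MinSimple.VModule.zc_le_zl _ _ hz
      have e1 : g * z * g⁻¹ = (g * s * g⁻¹) * (s⁻¹ * z) := by
        have := F_comm hg hsF
        calc g * z * g⁻¹ = (g * s * g⁻¹) * (g * (s⁻¹ * z) * g⁻¹) := by group
          _ = (g * s * g⁻¹) * (s⁻¹ * z) := by rw [this]
      obtain ⟨h3, h4⟩ := h1 s hs
      have hU1 : s⁻¹ * z ∈ zl (S : Subgroup G) P := mul_mem (inv_mem hs.1.1) hzU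
      rw [e1]
      refine e_inj (M := N) (mul_mem h3.1.1 hU1) (cmem norm_U hq hzU) ?_
      have e2 : N.e (s⁻¹ * z) = - N.e s + N.e z := by rw [e_mul (inv_mem hs.1.1) hzU, e_inv hs.1.1]
      have hz1 : N.e z i 1 = 0 := by rw [← hse]; exact hs.2
      funext j
      by_cases hj : j = i
      · subst hj
        have e3 : N.e (s⁻¹ * z) j = 0 := by
          rw [e2, Pi.add_apply, Pi.neg_apply, hse, neg_add_cancel]
        rw [e_mul h3.1.1 hU1, Pi.add_apply, e3, add_zero]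
        funext a
        match a with
        | 0 => rw [h4, (h2 z hzU).2.1, hse]
        | 1 => rw [h3.2, (h2 z hzU).2.2 hz1]
      · rw [e_mul h3.1.1 hU1, Pi.add_apply, h3.1.2 j hj, zero_add, e2, Pi.add_apply, Pi.neg_apply,
          hs.1.2 j hj, neg_zero, zero_add, (h2 z hzU).1 j hj]
    ext y
    rw [mem_conj, mem_conj]
    constructor
    · intro hz
      have h5 := key _ hz
      have e5 : g * (g⁻¹ * y * g) * g⁻¹ = y := by group
      rw [e5] at h5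
      have e6 : q⁻¹ * y * q = g⁻¹ * y * g := by
        nth_rw 1 [h5]; group
      rwa [e6]
    · intro hz
      have h5 := key _ hz
      have e5 : q * (q⁻¹ * y * q) * q⁻¹ = y := by group
      rw [e5] at h5
      have e6 : g⁻¹ * y * g = q⁻¹ * y * q := by
        nth_rw 1 [← h5]; group
      rwa [e6]

/-- **(EQ)** -/
theorem eq_rho (hT : Tor (F := F) N i) {v : G} (hv : SS S R v) {s : G} (hs : s ∈ (S : Subgroup G))
    (hsN : ∀ w ∈ zl (S : Subgroup G) P, N.e (s * w * s⁻¹) i = 0 ↔ N.e w i = 0) :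
    rho N i F (s * v * s⁻¹) = s * rho N i F v * s⁻¹ := by
  have hv' := SS_conj h hv hs
  obtain ⟨hb, hf'⟩ := rho_spec h hv'
  obtain ⟨ha, hf⟩ := rho_spec h hv
  have ha' := rtv_conj (S_le_P h) norm_U hs hsN ha
  have hbne := rho_ne h hv'
  set b := rho N i F (s * v * s⁻¹) with hbdef
  set a := rho N i F v with hadef
  by_contra hne
  set a' := s * a * s⁻¹ with ha'def
  have hr : Rtv N i (a'⁻¹ * b) := rtv_mul (rtv_inv ha') hb
  have hr1 : a'⁻¹ * b ≠ 1 := fun h1 => hne (inv_mul_eq_one.1 h1).symm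
  obtain ⟨g, hgF, hgr, q', hq', hgP⟩ := tor h hT hb hbne hr hr1
  have h1 : g * (b⁻¹ * (s * v * s⁻¹)) * g⁻¹ = b⁻¹ * (s * v * s⁻¹) := F_comm hgF hf'
  have h2 : g * (s * v * s⁻¹) * g⁻¹ = s * (a⁻¹ * v) * s⁻¹ := by
    have e1 : g * (s * v * s⁻¹) * g⁻¹ = (g * b * g⁻¹) * (g * (b⁻¹ * (s * v * s⁻¹)) * g⁻¹) := by group
    rw [e1, h1, hgr, ha'def]
    group
  obtain ⟨hv1, q, hq, hvq⟩ := hv
  have h3 : a⁻¹ * v ∈ MulAut.conj (s⁻¹ * g * (s * q)) • zc (S : Subgroup G) := by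
    rw [mem_conj] at hvq ⊢
    have e2 : a⁻¹ * v = s⁻¹ * (g * (s * v * s⁻¹) * g⁻¹) * s := by rw [h2]; group
    rw [e2]
    have e3 : (s⁻¹ * g * (s * q))⁻¹ * (s⁻¹ * (g * (s * v * s⁻¹) * g⁻¹) * s) * (s⁻¹ * g * (s * q)) =
        q⁻¹ * v * q := by group
    rwa [e3]
  have h4 := h.spp (s⁻¹ * q') (s⁻¹ * g) (s * q) R (mul_mem (inv_mem (S_le_P h hs)) hq')
    (by rw [← conj_conj, hgP, conj_conj]) h.hR (mul_mem (S_le_R h hs) hq)
  have h5 : a⁻¹ * v = 1 := by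
    have : a⁻¹ * v ∈ MulAut.conj (s⁻¹ * g * (s * q)) • zc (S : Subgroup G) ⊓ F := ⟨h3, hf⟩
    rw [h4] at this
    exact mem_bot.1 this
  rw [h5, mul_one, mul_inv_cancel] at h2
  have h6 : s * v * s⁻¹ = 1 := by
    have e4 : s * v * s⁻¹ = g⁻¹ * (g * (s * v * s⁻¹) * g⁻¹) * g := by group
    rw [e4, h2]; group
  exact hv'.1 h6

/-- `τ(v)`: the vector of `U` with the components `ρ_j(v)` -/
theorem exists_tau (hT : Tor (F := F) N i) {v : G} (hv : SS S R v) : ∃ a ∈ zl (S : Subgroup G) P,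
    (∀ j, N.e a j 1 = 0) ∧
    ∀ t ∈ (S : Subgroup G), N.e (t * a * t⁻¹) i = N.e (rho N i F (t * v * t⁻¹)) i := by
  have hP : P ≤ normalizer (zl (S : Subgroup G) P : Set G) := norm_U
  choose t ht htj using fun j => N.trans j i
  -- the components
  have hy : ∀ j, Rtv N j ((t j)⁻¹ * rho N i F (t j * v * (t j)⁻¹) * (t j)⁻¹⁻¹) := by
    intro j
    refine rtv_conj (S_le_P h) hP (inv_mem (ht j)) (fun w hw => ?_) (rho_spec h (SS_conj h hv (ht j))).1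
    have h1 := htj j _ (cmem hP (inv_mem (S_le_P h (ht j))) hw)
    have e : t j * ((t j)⁻¹ * w * (t j)⁻¹⁻¹) * (t j)⁻¹ = w := by group
    rw [e] at h1
    exact h1.symm
  obtain ⟨a, ha, hea⟩ := N.surj fun j => N.e ((t j)⁻¹ * rho N i F (t j * v * (t j)⁻¹) * (t j)⁻¹⁻¹) j
  refine ⟨a, ha, fun j => by rw [hea]; exact (hy j).2, fun s hs => ?_⟩
  -- the block `j` with `s : j ↦ i`
  obtain ⟨σ, h1, -⟩ := exists_perm (S_le_P h) (N := N) hs
  set j := σ.symm i with hj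
  have h1' : ∀ w ∈ zl (S : Subgroup G) P, N.e (s * w * s⁻¹) i = 0 ↔ N.e w j = 0 := by
    intro w hw
    have := h1 w hw j
    rwa [hj, Equiv.apply_symm_apply] at this
  set y := (t j)⁻¹ * rho N i F (t j * v * (t j)⁻¹) * (t j)⁻¹⁻¹ with hydef
  have hyj := hy j
  rw [← hydef] at hyj
  have h2 : N.e (s * (a * y⁻¹) * s⁻¹) i = 0 := by
    rw [h1' _ (mul_mem ha (inv_mem hyj.1.1)), e_mul ha (inv_mem hyj.1.1), e_inv hyj.1.1, Pi.add_apply,
      Pi.neg_apply, hea, add_neg_cancel]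
  have hU1 : s * a * s⁻¹ ∈ zl (S : Subgroup G) P := cmem hP (S_le_P h hs) ha
  have hU2 : s * y * s⁻¹ ∈ zl (S : Subgroup G) P := cmem hP (S_le_P h hs) hyj.1.1
  have e1 : s * (a * y⁻¹) * s⁻¹ = (s * a * s⁻¹) * (s * y * s⁻¹)⁻¹ := by group
  rw [e1, e_mul hU1 (inv_mem hU2), e_inv hU2, Pi.add_apply, Pi.neg_apply] at h2
  rw [add_neg_eq_zero.1 h2]
  -- `s y s⁻¹ = ρ(s v s⁻¹)`
  have h3 : s * y * s⁻¹ = rho N i F (s * v * s⁻¹) := by
    have h4 := eq_rho h hT (SS_conj h hv (ht j)) (s := s * (t j)⁻¹) (mul_mem hs (inv_mem (ht j))) (by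
      intro w hw
      have hw' := cmem hP (inv_mem (S_le_P h (ht j))) hw
      have h5 := htj j _ hw'
      have e : t j * ((t j)⁻¹ * w * (t j)⁻¹⁻¹) * (t j)⁻¹ = w := by group
      rw [e] at h5
      have h6 := h1' _ hw'
      have e' : s * ((t j)⁻¹ * w * (t j)⁻¹⁻¹) * s⁻¹ = s * (t j)⁻¹ * w * (s * (t j)⁻¹)⁻¹ := by group
      rw [e'] at h6
      rw [h6, h5])
    have e2 : s * (t j)⁻¹ * (t j * v * (t j)⁻¹) * (s * (t j)⁻¹)⁻¹ = s * v * s⁻¹ := by group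
    rw [e2] at h4
    rw [h4, hydef]
    group
  rw [h3]

omit h in
/-- `τ(v)` -/
noncomputable def tau (N : NatKM K (S : Subgroup G) P (zl (S : Subgroup G) P) ⊥ k) (i : Fin k)
    (F : Subgroup G) (v : G) : G := by
  classical
  exact if h1 : ∃ a ∈ zl (S : Subgroup G) P, (∀ j, N.e a j 1 = 0) ∧
    ∀ t ∈ (S : Subgroup G), N.e (t * a * t⁻¹) i = N.e (rho N i F (t * v * t⁻¹)) i then h1.choose else 1

theorem tau_spec (hT : Tor (F := F) N i) {v : G} (hv : SS S R v) : tau N i F v ∈ zl (S : Subgroup G) P ∧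
    (∀ j, N.e (tau N i F v) j 1 = 0) ∧
    ∀ t ∈ (S : Subgroup G), N.e (t * tau N i F v * t⁻¹) i = N.e (rho N i F (t * v * t⁻¹)) i := by
  classical
  have h1 := exists_tau h hT hv
  unfold tau
  rw [dif_pos h1]
  exact ⟨h1.choose_spec.1, h1.choose_spec.2.1, h1.choose_spec.2.2⟩

theorem tau_conj (hT : Tor (F := F) N i) {v : G} (hv : SS S R v) {s : G} (hs : s ∈ (S : Subgroup G)) :
    tau N i F (s * v * s⁻¹) = s * tau N i F v * s⁻¹ := by
  have h1 := tau_spec h hT hv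
  have h2 := tau_spec h hT (SS_conj h hv hs)
  refine sep (N := N) i h2.1 (cmem norm_U (S_le_P h hs) h1.1) ((S_le_P h).trans norm_U) fun t ht => ?_
  have h3 := h1.2.2 (t * s) (mul_mem ht hs)
  have e1 : t * s * v * (t * s)⁻¹ = t * (s * v * s⁻¹) * t⁻¹ := by group
  have e2 : t * s * tau N i F v * (t * s)⁻¹ = t * (s * tau N i F v * s⁻¹) * t⁻¹ := by group
  rw [e1, e2] at h3
  rw [h3, h2.2.2 t ht]

theorem tau_full (hT : Tor (F := F) N i) {v : G} (hv : SS S R v) (j : Fin k) : N.e (tau N i F v) j ≠ 0 := by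
  intro h0
  obtain ⟨hU, -, h1⟩ := tau_spec h hT hv
  obtain ⟨t, ht, h2⟩ := N.trans j i
  have h3 := (h2 _ hU).2 h0
  rw [h1 t ht] at h3
  exact rtv_ne' (rho_spec h (SS_conj h hv ht)).1 (rho_ne h (SS_conj h hv ht)) h3

/-- `τ(v)` commutes with `B` -/
theorem tau_B (hT : Tor (F := F) N i) {v : G} (hv : SS S R v) {b : G} (hb : b ∈ B) :
    tau N i F v * b = b * tau N i F v := by
  have h1 := tau_conj h hT hv (h.BS hb)
  have h2 : b * v * b⁻¹ = v := by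
    have := mem_centralizer_iff.1 (h.comm (SS_mem h hv).2) b hb
    rw [this, mul_inv_cancel_right]
  rw [h2] at h1
  have h3 : tau N i F v * b = b * tau N i F v * b⁻¹ * b := by rw [← h1]
  rw [h3, inv_mul_cancel_right]

/-- `v τ(v) ∈ F` -/
theorem mem_F (hT : Tor (F := F) N i)
    (hCE : ∀ r ∈ EE V F, r ∈ centralizer (B : Set G) → ∃ s, Rtv N i s ∧ s⁻¹ * r ∈ F)
    {v : G} (hv : SS S R v) : v * tau N i F v ∈ F := by
  obtain ⟨hU, hU1, ht⟩ := tau_spec h hT hv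
  obtain ⟨hR, hvF⟩ := rho_spec h hv
  set T := tau N i F v with hTdef
  set ρ := rho N i F v with hρdef
  have hρU : ρ ∈ zl (S : Subgroup G) P := hR.1.1
  have hE : T * ρ⁻¹ ∈ EE V F := h.rtE _ (mul_mem hU (inv_mem hρU)) fun j => by
    rw [e_mul hU (inv_mem hρU), e_inv hρU, Pi.add_apply, Pi.add_apply, Pi.neg_apply, Pi.neg_apply, hU1]
    by_cases hj : j = i
    · rw [hj, hR.2, neg_zero, add_zero]
    · rw [hR.1.2 j hj]; simp
  have hB : T * ρ⁻¹ ∈ centralizer (B : Set G) := by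
    rw [mem_centralizer_iff]
    intro b hb
    have e1 : T * b = b * T := tau_B h hT hv hb
    have e2 : b * ρ = ρ * b := mem_centralizer_iff.1 (h.comm (h.rtB _ hR)) b hb
    have e3 : b * ρ⁻¹ = ρ⁻¹ * b := by
      calc b * ρ⁻¹ = ρ⁻¹ * (ρ * b) * ρ⁻¹ := by group
        _ = ρ⁻¹ * (b * ρ) * ρ⁻¹ := by rw [e2]
        _ = ρ⁻¹ * b := by group
    rw [← mul_assoc, ← e1, mul_assoc, e3, ← mul_assoc]
  obtain ⟨s, hs, hsF⟩ := hCE _ hE hB
  have hsU : s ∈ zl (S : Subgroup G) P := hs.1.1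
  obtain ⟨j, hj⟩ := h.nfull _ hsF (mul_mem (inv_mem hsU) (mul_mem hU (inv_mem hρU)))
  have e1 : N.e (s⁻¹ * (T * ρ⁻¹)) = - N.e s + (N.e T + - N.e ρ) := by
    rw [e_mul (inv_mem hsU) (mul_mem hU (inv_mem hρU)), e_inv hsU, e_mul hU (inv_mem hρU), e_inv hρU]
  have hji : j = i := by
    by_contra hji
    rw [e1, Pi.add_apply, Pi.add_apply, Pi.neg_apply, Pi.neg_apply, hs.1.2 j hji, hR.1.2 j hji, neg_zero,
      add_zero, zero_add] at hj
    exact tau_full h hT hv j hj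
  rw [hji] at hj
  have h1 := ht 1 (one_mem _)
  have e2 : (1 : G) * T * 1⁻¹ = T := by group
  have e3 : (1 : G) * v * 1⁻¹ = v := by group
  rw [e2, e3] at h1
  have hs1 : s = 1 := by
    by_contra hs1
    apply rtv_ne' hs hs1
    rw [e1, Pi.add_apply, Pi.add_apply, Pi.neg_apply, Pi.neg_apply, h1, add_neg_cancel, add_zero] at hj
    exact neg_eq_zero.1 hj
  rw [hs1, inv_one, one_mul] at hsF
  -- `v T = (ρ⁻¹ v) (T ρ⁻¹) ρ²`
  have hvV : v ∈ V := (SS_mem h hv).1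
  have hTV : T ∈ V := h.UV hU
  have hρV : ρ ∈ V := h.UV hρU
  have hρ2 : ρ⁻¹ = ρ := h.flat.inv hρV
  have h2 := mul_mem hvF hsF
  have e4 : ρ⁻¹ * v * (T * ρ⁻¹) = v * T := by
    rw [h.flat.V_comm (inv_mem hρV) hvV, h.flat.V_comm hTV (inv_mem hρV), mul_assoc, ← mul_assoc ρ⁻¹ ρ⁻¹ T]
    have h3 : ρ⁻¹ * ρ⁻¹ = 1 := by nth_rw 2 [hρ2]; exact inv_mul_cancel ρ
    rw [h3, one_mul]
  rwa [e4] at h2

end main

/-- **P9b.** -/
theorem p9b : StP9b.{u} := by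
  intro G _ _ S V F B P R p K _ _ _ k N i β h hT hCE
  refine ⟨tau N i F, fun g hg v hv hv1 => ?_⟩
  have hS : SS S R v := ⟨hv1, g, hg, hv⟩
  exact ⟨(tau_spec h hT hS).1, tau_full h hT hS, mem_F h hT hCE hS, fun s hs => tau_conj h hT hS hs⟩

end Cfsg.Agent.Omega.NOThreeL.Low.EqB
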