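import Cfsg.Agent.Omega.NOThreeL.Low.Defs
import Cfsg.Agent.PLocal.OffenderStep

/-!
# THEOREM LOW (#19191, helper597), P9c: (END)

`e(v) = v u(v) ∈ F` for the singular `v ∈ V_R`; `⟨e(v)⟩ ≤ F` is `S`-invariant and `Z ∩ F = 1`: `e(v) = 1`, so
`Z' = Z^p` is a point of `U`; `U' = V_P^p ≤ V ∩ B = R_i F`: `U' ∩ F` meets every block of `U'`, so contains a
full-support vector, against (S++).
-/

set_option autoImplicit false

namespace Cfsg.Agent.Omega.NOThreeL.Low

open Subgroup Cfsg Cfsg.Agent.ZN Cfsg.Agent.Omega.MinPar Cfsg.Agent.Omega.Frame Cfsg.Agent.Omega.FrameNOFF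
open Cfsg.Agent.Omega.NOThreeL.Basic (DataZ CaseA WP)
open Cfsg.Agent.Omega.NOThreeL.Merge (MZ)
open Cfsg.Agent.Omega.NOne.Flat (Hyp EE WW NN BadX)
open Cfsg.Agent.Omega.FFThm (OffM NatKM SymKM)
open Cfsg.Agent.Omega.NoFF.Basic (conj_conj mem_conj)
open scoped Pointwise

universe u

section

variable {G : Type u} [Group G] [Finite G] {S : Sylow 2 G} {V F B P R : Subgroup G} {p : G}

/-- `Z ∩ F = 1` -/
theorem Sit.zF_bot (s : Sit S V F B P R p) : zc (S : Subgroup G) ⊓ F = ⊥ := by
  have h1 := s.spp 1 1 1 P (one_mem P) rfl s.hP (one_mem P)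
  rwa [mul_one, map_one, one_smul] at h1

/-- `F` contains no `S`-invariant subgroup `≠ 1` -/
theorem Sit.eq_bot (s : Sit S V F B P R p) {E : Subgroup G} (hE : E ≤ F)
    (hS : (S : Subgroup G) ≤ normalizer (E : Set G)) : E = ⊥ := by
  by_contra hne
  have hES : E ≤ (S : Subgroup G) := (hE.trans s.FB).trans s.BS
  have h1 := PLocal.OffenderStep.inf_centralizer_ne_bot E (S : Subgroup G) (S.isPGroup'.to_le hES) S.isPGroup' hS hne
  obtain ⟨⟨x, hx⟩, hx1⟩ := Subgroup.ne_bot_iff_exists_ne_one.1 h1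
  have hx1' : x ≠ 1 := fun e => hx1 (Subtype.ext e)
  have h2 : x ∈ zc (S : Subgroup G) ⊓ F := by
    refine ⟨Cfsg.Agent.MinSimple.VModule.mem_zc.2 ⟨hES hx.1, fun y hy => ?_, s.sq x (s.FB (hE hx.1))⟩, hE hx.1⟩
    exact mem_centralizer_iff.1 hx.2 y hy
  rw [s.zF_bot, mem_bot] at h2
  exact hx1' h2

/-- TI for conjugates of `Z` -/
theorem Sit.ti (s : Sit S V F B P R p) {g h v : G} (hv : v ∈ MulAut.conj g • zc (S : Subgroup G))
    (hv' : v ∈ MulAut.conj h • zc (S : Subgroup G)) (hv1 : v ≠ 1) :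
    MulAut.conj g • zc (S : Subgroup G) = MulAut.conj h • zc (S : Subgroup G) := by
  have h1 := RTools.ti_of_cz S s.D.cz (h⁻¹ * g) (by
    intro e
    have h2 : h⁻¹ * v * h ∈ zc (S : Subgroup G) ⊓ MulAut.conj (h⁻¹ * g) • zc (S : Subgroup G) := by
      refine ⟨mem_conj.1 hv', mem_conj.2 ?_⟩
      have e2 : (h⁻¹ * g)⁻¹ * (h⁻¹ * v * h) * (h⁻¹ * g) = g⁻¹ * v * g := by group
      rw [e2]
      exact mem_conj.1 hv
    rw [e, mem_bot] at h2
    apply hv1
    have e3 : v = h * (h⁻¹ * v * h) * h⁻¹ := by group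
    rw [e3, h2]
    group)
  have h3 : MulAut.conj h • MulAut.conj (h⁻¹ * g) • zc (S : Subgroup G) = MulAut.conj h • zc (S : Subgroup G) := by
    rw [h1]
  rwa [conj_conj, mul_inv_cancel_left] at h3

end

/-- **P9c** -/
theorem p9c : StP9c.{u} := by
  intro G _ _ S V F B P R p K _ _ _ k N i β s ⟨u, hu⟩
  have hSR : (S : Subgroup G) ≤ R := s.hR.le
  have hUsq : ∀ v ∈ zl (S : Subgroup G) P, v ^ 2 = 1 := fun v hv => s.flat.sq v (s.UV hv)
  -- `e(v) = 1`
  have he : ∀ g ∈ R, ∀ v ∈ MulAut.conj g • zc (S : Subgroup G), v ≠ 1 → v * u v = 1 := by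
    let E : Subgroup G := closure {x | ∃ g ∈ R, ∃ v ∈ MulAut.conj g • zc (S : Subgroup G), v ≠ 1 ∧ x = v * u v}
    have hEF : E ≤ F := (closure_le _).2 (by
      rintro _ ⟨g, hg, v, hv, hv1, rfl⟩
      exact (hu g hg v hv hv1).2.2.1)
    have hSE : (S : Subgroup G) ≤ normalizer (E : Set G) := by
      have key : ∀ t ∈ (S : Subgroup G), ∀ x ∈ E, t * x * t⁻¹ ∈ E := by
        intro t ht x hx
        induction hx using closure_induction with
        | mem x hx =>
          obtain ⟨g, hg, v, hv, hv1, rfl⟩ := hx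
          refine subset_closure ⟨t * g, mul_mem (hSR ht) hg, t * v * t⁻¹, ?_, ?_, ?_⟩
          · rw [mem_conj]
            have e2 : (t * g)⁻¹ * (t * v * t⁻¹) * (t * g) = g⁻¹ * v * g := by group
            rw [e2]
            exact mem_conj.1 hv
          · exact fun h => hv1 (conj_eq_one_iff.1 h)
          · rw [(hu g hg v hv hv1).2.2.2 t ht]
            group
        | one => rw [mul_one, mul_inv_cancel]; exact one_mem _
        | mul x y _ _ hx hy =>
          have e : t * (x * y) * t⁻¹ = (t * x * t⁻¹) * (t * y * t⁻¹) := by group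
          rw [e]
          exact mul_mem hx hy
        | inv x _ hx =>
          have e : t * x⁻¹ * t⁻¹ = (t * x * t⁻¹)⁻¹ := by group
          rw [e]
          exact inv_mem hx
      intro t ht
      rw [mem_normalizer_iff]
      refine fun x => ⟨key t ht x, fun h => ?_⟩
      have h1 := key t⁻¹ (inv_mem ht) _ h
      have e : t⁻¹ * (t * x * t⁻¹) * t⁻¹⁻¹ = x := by group
      rwa [e] at h1
    have hE := s.eq_bot hEF hSE
    intro g hg v hv hv1
    have h1 : v * u v ∈ E := subset_closure ⟨g, hg, v, hv, hv1, rfl⟩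
    rw [hE, mem_bot] at h1
    exact h1
  -- `Z' = Z^p` is a point of `U`
  obtain ⟨g, hg, hgp⟩ : ∃ g ∈ P, MulAut.conj p • zc (S : Subgroup G) = MulAut.conj g • zc (S : Subgroup G) := by
    obtain ⟨z, hz, hz1⟩ : ∃ z ∈ zc (S : Subgroup G), z ≠ 1 := by
      by_contra hcon
      push Not at hcon
      refine s.hP.not_zc fun x _ => ?_
      have h1 : zc (S : Subgroup G) = ⊥ := (eq_bot_iff_forall _).2 hcon
      rw [h1]
      rw [mem_normalizer_iff]
      intro y
      rw [mem_bot, mem_bot]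
      exact conj_eq_one_iff.symm
    have hv : p * z * p⁻¹ ∈ MulAut.conj p • zc (S : Subgroup G) := by
      rw [mem_conj]
      have e : p⁻¹ * (p * z * p⁻¹) * p = z := by group
      rwa [e]
    have hv1 : p * z * p⁻¹ ≠ 1 := fun h => hz1 (conj_eq_one_iff.1 h)
    have h1 := he p s.pR _ hv hv1
    obtain ⟨h2, h3, -, -⟩ := hu p s.pR _ hv hv1
    have h4 : p * z * p⁻¹ = u (p * z * p⁻¹) := by
      have h5 := hUsq _ h2
      rw [pow_two] at h5
      exact (mul_eq_one_iff_eq_inv.1 h1).trans (mul_eq_one_iff_eq_inv.1 h5).symm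
    obtain ⟨g, hg, h6⟩ := s.full _ h2 h3
    rw [← h4] at h6
    exact ⟨g, hg, s.toSit.ti hv h6 hv1⟩
  -- every block of `U'` meets `F`
  have hblk : ∀ j : Fin k, ∃ v, Blk N j v ∧ v ≠ 1 ∧ p * v * p⁻¹ ∈ F := by
    intro j
    by_contra hcon
    push Not at hcon
    -- `N'_j → R_i` is injective
    have hI : ∀ v : {v // Blk N j v}, ∃ r, Rtv N i r ∧ r⁻¹ * (p * v * p⁻¹) ∈ F := by
      rintro ⟨v, hv⟩
      have h1 : p * v * p⁻¹ ∈ MulAut.conj p • zl (S : Subgroup G) P := by
        rw [mem_conj]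
        have e : p⁻¹ * (p * v * p⁻¹) * p = v := by group
        rw [e]
        exact hv.1
      exact s.I _ ⟨s.PV h1, s.PB h1⟩
    choose f hf hf' using hI
    have hone : Blk N j (1 : G) := by
      refine ⟨one_mem _, fun j' _ => ?_⟩
      have h2 := (N.ker 1 (one_mem _)).2 (one_mem _)
      rw [h2]
      rfl
    have hmul : ∀ v w, Blk N j v → Blk N j w → Blk N j (v⁻¹ * w) := by
      intro v w hv hw
      have hinv : v⁻¹ = v := by
        have h5 := hUsq _ hv.1
        rw [pow_two] at h5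
        exact inv_eq_of_mul_eq_one_left h5
      rw [hinv]
      refine ⟨mul_mem hv.1 hw.1, fun j' hj' => ?_⟩
      rw [N.mul v hv.1 w hw.1, Pi.add_apply, hv.2 j' hj', hw.2 j' hj', add_zero]
    let φ : {v // Blk N j v} → K := fun v => N.e (f v) i 0
    have hinj : Function.Injective φ := by
      intro v w hvw
      -- `f v = f w`
      have h1 : f v = f w := by
        have h2 : N.e (f v) = N.e (f w) := by
          funext j'
          by_cases hj : j' = i
          · subst hj
            funext a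
            fin_cases a
            · exact hvw
            · exact (hf v).2.trans (hf w).2.symm
          · rw [(hf v).1.2 j' hj, (hf w).1.2 j' hj]
        have h3 : (f v) * (f w) ∈ (⊥ : Subgroup G) := by
          rw [← N.ker _ (mul_mem (hf v).1.1 (hf w).1.1), N.mul _ (hf v).1.1 _ (hf w).1.1, h2]
          funext a b
          exact CharTwo.add_self_eq_zero _
        have h5 := hUsq _ (hf w).1.1
        rw [pow_two] at h5
        exact (mul_eq_one_iff_eq_inv.1 (mem_bot.1 h3)).trans (mul_eq_one_iff_eq_inv.1 h5).symm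
      have h2 := mul_mem (inv_mem (hf' v)) (hf' w)
      rw [h1] at h2
      have e : ((f w)⁻¹ * (p * v * p⁻¹))⁻¹ * ((f w)⁻¹ * (p * w * p⁻¹)) = p * ((v : G)⁻¹ * w) * p⁻¹ := by group
      rw [e] at h2
      have h3 : (v : G)⁻¹ * w = 1 := by
        by_contra h4
        exact hcon _ (hmul _ _ v.2 w.2) h4 h2
      exact Subtype.ext (inv_mul_eq_one.1 h3)
    have hc1 : Nat.card {v // Blk N j v} ≤ Nat.card K := Nat.card_le_card_of_injective φ hinj
    -- `|N_j| = |K|²`
    have hc2 : Nat.card (Fin 2 → K) ≤ Nat.card {v // Blk N j v} := by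
      have h1 : ∀ x : Fin 2 → K, ∃ v : {v // Blk N j v}, N.e v j = x := by
        intro x
        obtain ⟨v, hv, hvx⟩ := N.surj (Pi.single j x)
        refine ⟨⟨v, hv, fun j' hj' => ?_⟩, ?_⟩
        · rw [hvx, Pi.single_eq_of_ne hj']
        · change N.e v j = x
          rw [hvx, Pi.single_eq_same]
      choose ψ hψ using h1
      refine Nat.card_le_card_of_injective ψ fun x y h => ?_
      rw [← hψ x, ← hψ y, h]
    have hc3 := hc2.trans hc1
    rw [Nat.card_pi, Finset.prod_const, Finset.card_univ, Fintype.card_fin] at hc3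
    have hK : 1 < Nat.card K := Finite.one_lt_card
    nlinarith
  choose w hw hw1 hwF using hblk
  -- a full-support vector of `U'` in `F`
  have hprod : ∀ J : Finset (Fin k), ∃ v ∈ zl (S : Subgroup G) P, p * v * p⁻¹ ∈ F ∧
      (∀ j ∈ J, N.e v j = N.e (w j) j) ∧ ∀ j ∉ J, N.e v j = 0 := by
    intro J
    induction J using Finset.induction_on with
    | empty =>
      refine ⟨1, one_mem _, ?_, fun j hj => absurd hj (Finset.notMem_empty j), fun j _ => ?_⟩
      · rw [mul_one, mul_inv_cancel]; exact one_mem _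
      · have h2 := (N.ker 1 (one_mem _)).2 (one_mem _)
        rw [h2]
        rfl
    | insert a J ha ih =>
      obtain ⟨v, hv, hvF, h1, h2⟩ := ih
      refine ⟨v * w a, mul_mem hv (hw a).1, ?_, fun j hj => ?_, fun j hj => ?_⟩
      · have e : p * (v * w a) * p⁻¹ = (p * v * p⁻¹) * (p * w a * p⁻¹) := by group
        rw [e]
        exact mul_mem hvF (hwF a)
      · rw [N.mul v hv _ (hw a).1, Pi.add_apply]
        rcases Finset.mem_insert.1 hj with rfl | hj'
        · rw [h2 j ha, zero_add]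
        · have hja : j ≠ a := fun h => ha (h ▸ hj')
          rw [h1 j hj', (hw a).2 j hja, add_zero]
      · rw [N.mul v hv _ (hw a).1, Pi.add_apply, h2 j fun h => hj (Finset.mem_insert_of_mem h),
          (hw a).2 j fun h => hj (h ▸ Finset.mem_insert_self j J), add_zero]
  obtain ⟨v, hv, hvF, h1, -⟩ := hprod Finset.univ
  have hfull : ∀ j, N.e v j ≠ 0 := by
    intro j h2
    rw [h1 j (Finset.mem_univ j)] at h2
    apply hw1 j
    have h3 : N.e (w j) = 0 := by
      funext j'
      by_cases hj : j' = j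
      · subst hj
        exact h2
      · exact (hw j).2 j' hj
    exact mem_bot.1 ((N.ker _ (hw j).1).1 h3)
  obtain ⟨q, hq, hvq⟩ := s.full v hv hfull
  have h2 := s.spp g p q P hg hgp s.hP hq
  have h3 : p * v * p⁻¹ ∈ MulAut.conj (p * q) • zc (S : Subgroup G) ⊓ F := by
    refine ⟨mem_conj.2 ?_, hvF⟩
    have e : (p * q)⁻¹ * (p * v * p⁻¹) * (p * q) = q⁻¹ * v * q := by group
    rw [e]
    exact mem_conj.1 hvq
  rw [h2, mem_bot] at h3
  have h4 : v = 1 := conj_eq_one_iff.1 h3
  have h5 := (N.ker 1 (one_mem _)).2 (one_mem _)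
  rw [h4] at hfull
  exact hfull i (by rw [h5]; rfl)

end Cfsg.Agent.Omega.NOThreeL.Low
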