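import Cfsg.Agent.Omega.NOThreeL.Low.Defs
import Cfsg.Agent.Omega.NOThreeL.Low.Key
import Cfsg.Agent.Omega.NOThreeL.Low.ITwo
import Cfsg.Agent.Omega.NOThreeL.Low.Nat

/-!
# THEOREM LOW (#19191, helper597), P7 : the natural situation

* `two_lt` : (I2), `2 < |B : B ∩ N|`; `nc` : the same as "no `w ∈ U - E` has only one other conjugate" (T1);
* `p7a` : (T3), (T4): `B` acts on every bad block as a subgroup of the root group;
* `p7b` : (T5).
-/

set_option autoImplicit false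
set_option linter.unusedSectionVars false

namespace Cfsg.Agent.Omega.NOThreeL.Low.PSeven

open Subgroup Cfsg Cfsg.Agent.ZN Cfsg.Agent.Omega.MinPar Cfsg.Agent.Omega.Frame
open Cfsg.Agent.Omega.NOne.Flat (Hyp EE WW NN BadX)
open Cfsg.Agent.Omega.NOne.NearFF (c)
open Cfsg.Agent.Omega.FFThm (NatK NatKM SymKM ActsSL)
open Cfsg.Agent.Omega.Half (Amb amb_of_loc)
open Cfsg.Agent.Omega.Half.NatA (inj eq_one e_one e_inv Mv)
open Cfsg.Agent.Omega.NO1.NSix
open Cfsg.Agent.Omega.NatPair (ap ext2 ap_zero' ap_one' exists_ap ap_one)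
open Cfsg.Agent.Lib.SL2Mat
open Cfsg.Agent.MinSimple.VModule (zc_le_zl)
open scoped Pointwise

universe u

section sit

variable {G : Type u} [Group G] [Finite G] {S : Sylow 2 G} {V F B P R : Subgroup G} {p : G}

theorem mem_conj_of {x y : G} {A : Subgroup G} (h : y ∈ A) : x * y * x⁻¹ ∈ MulAut.conj x • A :=
  smul_mem_pointwise_smul y (MulAut.conj x) A h

/-- `BH` of `Low/Key`. -/
theorem bh (s : Sit S V F B P R p) : Key.BH V F B :=
  { s.flat with le_W := s.BW, F_le := s.FB, abel := s.comm, norm := s.XB }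

theorem amb (s : Sit S V F B P R p) : Amb (S : Subgroup G) P (zl (S : Subgroup G) P) :=
  amb_of_loc s.ctx.char2 S s.hP.toIsPar.isLoc

/-- **(I2)** -/
theorem two_lt (s : Sit S V F B P R p) : 2 < (NN V F).relIndex B := by
  by_contra hle
  push Not at hle
  refine ITwo.false_of_le_two (S := S) (R := R) (F := F) (I := V ⊓ B) s.hR.toIsPar.isLoc.le
    (MinSimple.Basic.zc_ne_bot S.isPGroup' (s.ctx.sylow_ne_bot S)) (s.D.cz R s.hR) (s.RV.trans s.VS)
    (le_inf s.RV s.RB) ?_ fun r hr z hz hF => ?_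
  · rw [← (bh s).relIndex_B]
    exact hle
  · have h1 := s.spp 1 1 r R (one_mem P) rfl s.hR hr
    rw [one_mul] at h1
    have h2 : r * z * r⁻¹ ∈ MulAut.conj r • zc (S : Subgroup G) ⊓ F := mem_inf.2 ⟨mem_conj_of hz, hF⟩
    rw [h1, mem_bot] at h2
    calc z = r⁻¹ * (r * z * r⁻¹) * r := by group
      _ = 1 := by rw [h2]; group

/-- `B` does not centralise `w ∈ V - E`. -/
theorem exists_moved (s : Sit S V F B P R p) {w : G} (hw : w ∈ V) (hwE : w ∉ EE V F) :
    ∃ b ∈ B, c w b ∉ F := by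
  by_contra hall
  push Not at hall
  have h1 : B ≤ NN V F := fun b hb => (bh s).mem_NN_of_c hw hwE hb (hall b hb)
  have h2 := two_lt s
  rw [relIndex_eq_one.2 h1] at h2
  omega

theorem qb (s : Sit S V F B P R p) : Nat.QB (S : Subgroup G) (zl (S : Subgroup G) P) B (EE V F) where
  BS := s.BS
  ab := fun _ hb _ hc => (bh s).B_comm hb hc
  sq := fun b hb => by rw [← pow_two]; exact s.sq b hb
  quad := fun v hv b hb c' hc => by
    have h1 := (bh s).quad (s.UV hv) hb hc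
    have h2 : b * v * b⁻¹ * v⁻¹ = (c v b)⁻¹ := by rw [c]; group
    rw [h2]
    calc c' * (c v b)⁻¹ = (c v b)⁻¹ * (c v b * c') * (c v b)⁻¹ := by group
      _ = (c v b)⁻¹ * (c' * c v b) * (c v b)⁻¹ := by rw [h1]
      _ = (c v b)⁻¹ * c' := by group
  t1 := fun w hw hwE hall => by
    have h1 := (bh s).relIndex_le_two (s.UV hw) hwE hall
    rw [← (bh s).relIndex_B] at h1
    exact absurd (two_lt s) (not_lt.2 h1)

end sit

/-! ### P7a -/

section pa

variable {G : Type u} [Group G] [Finite G] {S : Sylow 2 G} {V F B P R : Subgroup G} {p : G}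
variable {K : Type} [Field K] {k : ℕ} (N : NatKM K (S : Subgroup G) P (zl (S : Subgroup G) P) ⊥ k)

theorem blk_em {i : Fin k} {v : G} (hv : Blk N i v) : em N.toNatK i (N.e v i) = v := em_eq N.toNatK hv.1 hv.2

theorem em_blk (i : Fin k) (x : Fin 2 → K) : Blk N i (em N.toNatK i x) :=
  ⟨em_mem N.toNatK i x, fun _ hj => e_em_ne N.toNatK hj x⟩

end pa

/-- **P7a** -/
theorem p7a : StP7a.{u} := by
  intro G _ _ S V F B P R p s K _ _ _ k N i hbad b hb
  have hA := amb s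
  have hQ := qb s
  have hi : Nat.Bad N.toNatK (EE V F) i := by
    obtain ⟨w, hw, hwE⟩ := hbad
    refine ⟨N.e w i, ?_⟩
    rwa [blk_em N hw]
  obtain ⟨x, hx⟩ := hQ.exists_up hA hi hb
  refine ⟨x, fun v hv => ⟨⟨hA.conj_mem (hQ.BP hA hb) hv.1, fun j hj => ?_⟩, hx v hv.1⟩⟩
  obtain ⟨σ, hσ⟩ := N.perm b (hQ.BP hA hb)
  have hσi : σ i = i := hQ.fix hA hi hb hσ
  have h1 := (hσ v hv.1 (σ.symm j)).2 (hv.2 _ fun h2 => hj (by rw [← hσi, ← h2, σ.apply_symm_apply]))
  rwa [σ.apply_symm_apply] at h1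

/-! ### P7b -/

section zz

variable {G : Type u} [Group G] [Finite G] {S : Sylow 2 G} {V F B P R : Subgroup G} {p : G}
variable {K : Type} [Field K] {k : ℕ} (N : NatKM K (S : Subgroup G) P (zl (S : Subgroup G) P) ⊥ k)

/-- elements of `Z` have coordinates in the lines -/
theorem z_one {z : G} (hz : z ∈ zc (S : Subgroup G)) (j : Fin k) : N.e z j 1 = 0 := by
  have hzV := zc_le_zl (S : Subgroup G) P hz
  obtain ⟨t, ht, h1, -⟩ := N.unip fun _ => 1
  have h2 := h1 z hzV j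
  rw [(MinSimple.VModule.mem_zc.1 hz).2.1 t ht, mul_inv_cancel_right] at h2
  have h3 := congrFun h2 0
  rw [ap_zero', up_00, up_01, one_mul, one_mul] at h3
  exact left_eq_add.1 h3

/-- elements of `Z#` have full support -/
theorem z_ne {z : G} (hz : z ∈ zc (S : Subgroup G)) (hz1 : z ≠ 1) (j : Fin k) : N.e z j ≠ 0 := by
  have hzV := zc_le_zl (S : Subgroup G) P hz
  intro h0
  apply hz1
  apply eq_one N.toNatK hzV
  funext l
  obtain ⟨t, ht, h2⟩ := N.trans j l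
  have h3 := h2 z hzV
  rw [(MinSimple.VModule.mem_zc.1 hz).2.1 t ht, mul_inv_cancel_right] at h3
  exact h3.2 h0

/-- Full-support vectors are in points of `U`. -/
theorem full (s : Sit S V F B P R p) {v : G} (hv : v ∈ zl (S : Subgroup G) P) (h : ∀ j, N.e v j ≠ 0) :
    ∃ g ∈ P, v ∈ MulAut.conj g • zc (S : Subgroup G) := by
  have hne := MinSimple.Basic.zc_ne_bot S.isPGroup' (s.ctx.sylow_ne_bot S)
  obtain ⟨⟨z, hz⟩, hz1⟩ := ne_bot_iff_exists_ne_one.1 hne
  replace hz1 : z ≠ 1 := fun h1 => hz1 (Subtype.ext h1)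
  have hzV := zc_le_zl (S : Subgroup G) P hz
  choose A hA using fun j => exists_ap (z_ne N hz hz1 j) (h j)
  obtain ⟨g, hg, hgA, -⟩ := N.lift A
  refine ⟨g, hg, ?_⟩
  have h1 : g * z * g⁻¹ = v := by
    apply inj N.toNatK ((amb s).conj_mem hg hzV) hv
    funext j
    rw [hgA z hzV j, hA]
  rw [← h1]
  exact mem_conj_of hz

/-- `F ∩ U` has no full-support vector. -/
theorem nfull (s : Sit S V F B P R p) (hk : 0 < k) {f : G} (hf : f ∈ F) (hfU : f ∈ zl (S : Subgroup G) P) :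
    ∃ j, N.e f j = 0 := by
  by_contra hall
  push Not at hall
  obtain ⟨g, hg, hfg⟩ := full N s hfU hall
  have h1 := s.spp g g 1 P hg rfl s.hP (one_mem P)
  rw [mul_one] at h1
  have h2 : f ∈ MulAut.conj g • zc (S : Subgroup G) ⊓ F := mem_inf.2 ⟨hfg, hf⟩
  rw [h1, mem_bot] at h2
  apply hall ⟨0, hk⟩
  rw [h2, e_one N.toNatK]
  rfl

end zz

/-- `B` acts on block `i` by `up ∘ β`. -/
def Act {G : Type u} [Group G] {K : Type} [Field K] {S P U : Subgroup G} {k : ℕ} (N : NatKM K S P U ⊥ k)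
    (B : Subgroup G) (i : Fin k) (β : G → K) : Prop :=
  ∀ b ∈ B, ∀ v, Blk N i v → Blk N i (b * v * b⁻¹) ∧ N.e (b * v * b⁻¹) i = ap (up (β b)) (N.e v i)

section blk

variable {G : Type u} [Group G] {K : Type} [Field K] {S P U : Subgroup G} {k : ℕ} {N : NatKM K S P U ⊥ k}
variable {B : Subgroup G} {i : Fin k} {β : G → K}

theorem blk_mul {v w : G} (hv : Blk N i v) (hw : Blk N i w) : Blk N i (v * w) :=
  ⟨mul_mem hv.1 hw.1, fun j hj => by rw [N.mul v hv.1 w hw.1, Pi.add_apply, hv.2 j hj, hw.2 j hj, add_zero]⟩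

theorem blk_inv {v : G} (hv : Blk N i v) : Blk N i v⁻¹ :=
  ⟨inv_mem hv.1, fun j hj => by rw [e_inv N.toNatK hv.1, Pi.neg_apply, hv.2 j hj, neg_zero]⟩

theorem blk_ext {v w : G} (hv : Blk N i v) (hw : Blk N i w) (h0 : N.e v i 0 = N.e w i 0)
    (h1 : N.e v i 1 = N.e w i 1) : v = w := by
  apply inj N.toNatK hv.1 hw.1
  funext j
  by_cases hj : j = i
  · rw [hj]
    exact ext2 h0 h1
  · rw [hv.2 j hj, hw.2 j hj]

theorem blk_one : Blk N i 1 := ⟨one_mem _, fun j _ => by rw [e_one N.toNatK]; rfl⟩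

theorem blk_eq_one {v : G} (hv : Blk N i v) (h0 : N.e v i 0 = 0) (h1 : N.e v i 1 = 0) : v = 1 :=
  blk_ext hv blk_one (by rw [h0, e_one N.toNatK]; rfl) (by rw [h1, e_one N.toNatK]; rfl)

variable [CharP K 2]

theorem Act.c_blk (h : Act N B i β) {b v : G} (hb : b ∈ B) (hv : Blk N i v) : Blk N i (c v b) := by
  have e1 : c v b = v * (b * v * b⁻¹)⁻¹ := by rw [c]; group
  rw [e1]
  exact blk_mul hv (blk_inv (h b hb v hv).1)

theorem Act.c_zero (h : Act N B i β) {b v : G} (hb : b ∈ B) (hv : Blk N i v) :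
    N.e (c v b) i 0 = β b * N.e v i 1 := by
  have e1 : c v b = v * (b * v * b⁻¹)⁻¹ := by rw [c]; group
  have h1 := h b hb v hv
  rw [e1, N.mul v hv.1 _ (inv_mem h1.1.1), e_inv N.toNatK h1.1.1, Pi.add_apply, Pi.neg_apply, h1.2, Pi.add_apply,
    Pi.neg_apply, ap_zero', up_00, up_01, one_mul, CharTwo.neg_eq, ← add_assoc, CharTwo.add_self_eq_zero, zero_add]

theorem Act.c_one (h : Act N B i β) {b v : G} (hb : b ∈ B) (hv : Blk N i v) : N.e (c v b) i 1 = 0 := by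
  have e1 : c v b = v * (b * v * b⁻¹)⁻¹ := by rw [c]; group
  have h1 := h b hb v hv
  rw [e1, N.mul v hv.1 _ (inv_mem h1.1.1), e_inv N.toNatK h1.1.1, Pi.add_apply, Pi.neg_apply, h1.2, Pi.add_apply,
    Pi.neg_apply, ap_one', up_10, up_11, zero_mul, zero_add, one_mul, add_neg_cancel]

/-- `[v, b] = 1` if `β b = 0` or `v` is in the line -/
theorem Act.c_eq_one (h : Act N B i β) {b v : G} (hb : b ∈ B) (hv : Blk N i v) (h0 : β b * N.e v i 1 = 0) :
    c v b = 1 := blk_eq_one (h.c_blk hb hv) (by rw [h.c_zero hb hv, h0]) (h.c_one hb hv)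

end blk

section pb

variable {G : Type u} [Group G] [Finite G] {S : Sylow 2 G} {V F B P R : Subgroup G} {p : G}
variable {K : Type} [Field K] [CharP K 2] {k : ℕ} {N : NatKM K (S : Subgroup G) P (zl (S : Subgroup G) P) ⊥ k}
variable {i : Fin k} {β : G → K}

/-- `R_i ≤ E` for a bad block -/
theorem rt_le (s : Sit S V F B P R p) (h : Act N B i β) {r : G} (hr : Rtv N i r) : r ∈ EE V F := by
  by_contra hE
  obtain ⟨b, hb, hbF⟩ := exists_moved s (s.UV hr.1.1) hE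
  apply hbF
  rw [h.c_eq_one hb hr.1 (by rw [hr.2, mul_zero])]
  exact one_mem F

theorem exists_beta (s : Sit S V F B P R p) (h : Act N B i β) (hbad : ∃ w, Blk N i w ∧ w ∉ EE V F) :
    ∃ b ∈ B, β b ≠ 0 := by
  obtain ⟨w, hw, hwE⟩ := hbad
  obtain ⟨b, hb, hbF⟩ := exists_moved s (s.UV hw.1) hwE
  refine ⟨b, hb, fun h0 => hbF ?_⟩
  rw [h.c_eq_one hb hw (by rw [h0, zero_mul])]
  exact one_mem F

/-- `I ≤ R_i F` -/
theorem I_le (s : Sit S V F B P R p) (h : Act N B i β) (hbad : ∃ w, Blk N i w ∧ w ∉ EE V F) {a : G}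
    (ha : a ∈ V ⊓ B) : ∃ r, Rtv N i r ∧ r⁻¹ * a ∈ F := by
  obtain ⟨w, hw, hwE⟩ := hbad
  obtain ⟨b, hb, hbF⟩ := (bh s).surj (s.UV hw.1) hwE ha
  exact ⟨c w b, ⟨h.c_blk hb hw, h.c_one hb hw⟩, hbF⟩

/-- **(*)** -/
theorem zF (s : Sit S V F B P R p) (h : Act N B i β) (hbad : ∃ w, Blk N i w ∧ w ∉ EE V F) {z : G}
    (hz : z ∈ zc (S : Subgroup G)) : ∃ r, Rtv N i r ∧ N.e r i = N.e z i ∧ r⁻¹ * z ∈ F := by
  by_cases hz1 : z = 1
  · refine ⟨1, ⟨blk_one, by rw [e_one N.toNatK]; rfl⟩, by rw [hz1], ?_⟩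
    rw [hz1, inv_one, one_mul]
    exact one_mem F
  · have hzU := zc_le_zl (S : Subgroup G) P hz
    have hzI : z ∈ V ⊓ B := mem_inf.2 ⟨s.UV hzU, s.RB (zc_le_zl (S : Subgroup G) R hz)⟩
    obtain ⟨r, hr, hrF⟩ := I_le s h hbad hzI
    refine ⟨r, hr, ?_, hrF⟩
    obtain ⟨j, hj⟩ := nfull N s i.pos hrF (mul_mem (inv_mem hr.1.1) hzU)
    rw [N.mul _ (inv_mem hr.1.1) _ hzU, e_inv N.toNatK hr.1.1, Pi.add_apply, Pi.neg_apply] at hj
    by_cases hji : j = i
    · rw [hji, neg_add_eq_zero] at hj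
      exact hj
    · rw [hr.1.2 j hji, neg_zero, zero_add] at hj
      exact absurd hj (z_ne N hz hz1 j)

/-- **(**)** `N_i ∩ F = 1` -/
theorem blkF (s : Sit S V F B P R p) (h : Act N B i β) (hbad : ∃ w, Blk N i w ∧ w ∉ EE V F) {v : G}
    (hv : Blk N i v) (hvF : v ∈ F) : v = 1 := by
  by_contra hv1
  have hne := MinSimple.Basic.zc_ne_bot S.isPGroup' (s.ctx.sylow_ne_bot S)
  obtain ⟨⟨z, hz⟩, hz1⟩ := ne_bot_iff_exists_ne_one.1 hne
  replace hz1 : z ≠ 1 := fun h1 => hz1 (Subtype.ext h1)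
  have hzU := zc_le_zl (S : Subgroup G) P hz
  obtain ⟨r, hr, hrz, hrF⟩ := zF s h hbad hz
  have hrU := mul_mem (inv_mem hr.1.1) hzU
  obtain ⟨j, hj⟩ := nfull N s i.pos (mul_mem hvF hrF) (mul_mem hv.1 hrU)
  rw [N.mul _ hv.1 _ hrU, N.mul _ (inv_mem hr.1.1) _ hzU, e_inv N.toNatK hr.1.1, Pi.add_apply, Pi.add_apply,
    Pi.neg_apply] at hj
  by_cases hji : j = i
  · rw [hji, hrz, neg_add_cancel, add_zero] at hj
    exact hv1 (blk_eq_one hv (by rw [hj]; rfl) (by rw [hj]; rfl))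
  · rw [hv.2 j hji, hr.1.2 j hji, neg_zero, zero_add, zero_add] at hj
    exact absurd hj (z_ne N hz hz1 j)

/-- `N_i ∩ E = R_i` -/
theorem blkE (s : Sit S V F B P R p) (h : Act N B i β) (hbad : ∃ w, Blk N i w ∧ w ∉ EE V F) {v : G}
    (hv : Blk N i v) : v ∈ EE V F ↔ N.e v i 1 = 0 := by
  refine ⟨fun hE => ?_, fun h1 => rt_le s h ⟨hv, h1⟩⟩
  obtain ⟨b, hb, hb0⟩ := exists_beta s h hbad
  have h1 : c v b = 1 := blkF s h hbad (h.c_blk hb hv) (s.flat.comm_EW hE (s.BW hb))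
  have h2 := h.c_zero hb hv
  rw [h1, e_one N.toNatK] at h2
  exact (mul_eq_zero.1 h2.symm).resolve_left hb0

/-- `C_B(N_i) = B ∩ N` -/
theorem βN (s : Sit S V F B P R p) (h : Act N B i β) (hbad : ∃ w, Blk N i w ∧ w ∉ EE V F) {b : G}
    (hb : b ∈ B) : β b = 0 ↔ b ∈ NN V F := by
  obtain ⟨w, hw, hwE⟩ := id hbad
  have hwV := s.UV hw.1
  rw [← s.flat.c_mem_F_iff hwV hwE (s.BW hb)]
  constructor
  · intro h0
    rw [h.c_eq_one hb hw (by rw [h0, zero_mul])]
    exact one_mem F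
  · intro hF
    have h1 : c w b = 1 := blkF s h hbad (h.c_blk hb hw) hF
    have h2 := h.c_zero hb hw
    rw [h1, e_one N.toNatK] at h2
    exact (mul_eq_zero.1 h2.symm).resolve_right fun h3 => hwE ((blkE s h hbad hw).2 h3)

/-- `R_i ∩ I = λ β(B)` for all `λ ≠ 0` -/
theorem exists_of_I (s : Sit S V F B P R p) (h : Act N B i β) (hbad : ∃ w, Blk N i w ∧ w ∉ EE V F) {l : K}
    (hl : l ≠ 0) {r : G} (hr : Rtv N i r) (hrB : r ∈ B) : ∃ b ∈ B, β b * l = N.e r i 0 := by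
  have hw := em_blk N i ![0, l]
  have hw1 : N.e (em N.toNatK i ![0, l]) i 1 = l := by rw [e_em_self]; rfl
  have hwE : em N.toNatK i ![0, l] ∉ EE V F := by
    rw [blkE s h hbad hw, hw1]
    exact hl
  obtain ⟨b, hb, hbF⟩ := (bh s).surj (s.UV hw.1) hwE (mem_inf.2 ⟨s.UV hr.1.1, hrB⟩)
  have h1 := blkF s h hbad (blk_mul (blk_inv (h.c_blk hb hw)) hr.1) hbF
  rw [inv_mul_eq_one] at h1
  refine ⟨b, hb, ?_⟩
  rw [← h1, h.c_zero hb hw, hw1]

theorem βsurj (s : Sit S V F B P R p) (h : Act N B i β) (hbad : ∃ w, Blk N i w ∧ w ∉ EE V F) (x : K) :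
    ∃ b ∈ B, β b = x := by
  by_cases hx : x = 0
  · exact ⟨1, one_mem B, by rw [hx, βN s h hbad (one_mem B)]; exact one_mem _⟩
  obtain ⟨b0, hb0, hb0'⟩ := exists_beta s h hbad
  -- `r = [w, b0]`, `w = (0, 1)`
  have hw := em_blk N i ![0, 1]
  have hw1 : N.e (em N.toNatK i ![0, 1]) i 1 = 1 := by rw [e_em_self]; rfl
  have hr : Rtv N i (c (em N.toNatK i ![0, 1]) b0) := ⟨h.c_blk hb0 hw, h.c_one hb0 hw⟩
  have hrB := ((bh s).c_memI (s.UV hw.1) hb0).2
  obtain ⟨b, hb, hbx⟩ := exists_of_I s h hbad (l := β b0 / x) (div_ne_zero hb0' hx) hr hrB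
  rw [h.c_zero hb0 hw, hw1, mul_one] at hbx
  refine ⟨b, hb, ?_⟩
  field_simp at hbx
  exact hbx

theorem rtB (s : Sit S V F B P R p) (h : Act N B i β) (hbad : ∃ w, Blk N i w ∧ w ∉ EE V F) {r : G}
    (hr : Rtv N i r) : r ∈ B := by
  obtain ⟨b, hb, hbx⟩ := βsurj s h hbad (N.e r i 0)
  have hw := em_blk N i ![0, 1]
  have hw1 : N.e (em N.toNatK i ![0, 1]) i 1 = 1 := by rw [e_em_self]; rfl
  have h1 : c (em N.toNatK i ![0, 1]) b = r := by
    refine blk_ext (h.c_blk hb hw) hr.1 ?_ ?_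
    · rw [h.c_zero hb hw, hw1, mul_one, hbx]
    · rw [h.c_one hb hw, hr.2]
  rw [← h1]
  exact ((bh s).c_memI (s.UV hw.1) hb).2

theorem βmul (h : Act N B i β) {b b' : G} (hb : b ∈ B) (hb' : b' ∈ B) :
    β (b * b') = β b + β b' := by
  have hw := em_blk N i ![0, 1]
  have h1 := h b' hb' _ hw
  have h2 := h b hb _ h1.1
  have h3 := h (b * b') (mul_mem hb hb') _ hw
  have e1 : b * (b' * em N.toNatK i ![0, 1] * b'⁻¹) * b⁻¹ = b * b' * em N.toNatK i ![0, 1] * (b * b')⁻¹ := by group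
  rw [e1] at h2
  have h4 := congrFun (h2.2.symm.trans h3.2) 0
  rw [ap_zero', ap_zero', h1.2, ap_zero', ap_one', e_em_self] at h4
  simp only [up_00, up_01, up_10, up_11] at h4
  simp at h4
  rw [← h4, add_comm]

theorem card_eq (s : Sit S V F B P R p) (h : Act N B i β) (hbad : ∃ w, Blk N i w ∧ w ∉ EE V F) :
    (NN V F).relIndex B = Nat.card K := by
  let φ : B →* Multiplicative K :=
    { toFun := fun b => Multiplicative.ofAdd (β b)
      map_one' := by
        have h1 : β 1 = 0 := by rw [βN s h hbad (one_mem B)]; exact one_mem _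
        simp [h1]
      map_mul' := fun b b' => by
        rw [coe_mul, βmul h b.2 b'.2]
        rfl }
  have hφ : Function.Surjective φ := by
    intro x
    obtain ⟨b, hb, hx⟩ := βsurj s h hbad (Multiplicative.toAdd x)
    exact ⟨⟨b, hb⟩, by show Multiplicative.ofAdd (β b) = x; rw [hx]; rfl⟩
  have hker : φ.ker = (NN V F).subgroupOf B := by
    ext b
    rw [MonoidHom.mem_ker, mem_subgroupOf, ← βN s h hbad b.2]
    exact Multiplicative.ofAdd.injective.eq_iff' rfl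
  rw [relIndex, ← hker, index_ker, MonoidHom.range_eq_top.2 hφ, card_top]
  exact Nat.card_congr Multiplicative.toAdd

end pb

/-- **P7b** -/
theorem p7b : StP7b.{u} := by
  intro G _ _ S V F B P R p s K _ _ _ k N hk hact
  -- the functions `β`
  have hact' : ∀ j : Fin k, (∃ w, Blk N j w ∧ w ∉ EE V F) → ∃ β : G → K, Act N B j β := by
    classical
    intro j hj
    choose x hx using hact j hj
    refine ⟨fun b => if hb : b ∈ B then x b hb else 0, fun b hb v hv => ?_⟩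
    have h1 := hx b hb v hv
    simp only [dif_pos hb]
    exact h1
  -- a bad block
  obtain ⟨i, hbad⟩ : ∃ i : Fin k, ∃ w, Blk N i w ∧ w ∉ EE V F := by
    by_contra hall
    push Not at hall
    exact s.bad fun v hv => mem_of_em N.toNatK hv fun j => hall j _ (em_blk N j _)
  obtain ⟨β, h⟩ := hact' i hbad
  refine ⟨i, β, { s with
    bad_i := hbad
    βmul := fun b hb b' hb' => βmul h hb hb'
    βsurj := βsurj s h hbad
    βN := fun b hb => βN s h hbad hb
    act := h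
    blkE := fun v hv => blkE s h hbad hv
    blkF := fun v hv hvF => blkF s h hbad hv hvF
    rtB := fun v hv => rtB s h hbad hv
    rtE := fun v hv h1 => mem_of_em N.toNatK hv fun j => ?_
    I := fun a ha => I_le s h hbad ha
    card := card_eq s h hbad
    zF := fun z hz => zF s h hbad hz
    nfull := fun f hf hfU => nfull N s hk hf hfU
    full := fun v hv hv1 => full N s hv hv1 }⟩
  by_cases hj : ∃ w, Blk N j w ∧ w ∉ EE V F
  · obtain ⟨γ, hγ⟩ := hact' j hj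
    exact rt_le s hγ ⟨em_blk N j _, by rw [e_em_self]; exact h1 j⟩
  · by_contra hE
    exact hj ⟨_, em_blk N j _, hE⟩

end Cfsg.Agent.Omega.NOThreeL.Low.PSeven
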