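import Cfsg.Agent.Omega.NOThreeL.Low.Defs
import Cfsg.Agent.Omega.NOThreeL.Low.Key
import Cfsg.Agent.Omega.NOThreeL.Low.ITwo
import Cfsg.Agent.Omega.VP

/-!
# THEOREM LOW (#19191, helper597), P4: consequences of (S++) for `Sit`

For `s : Sit S V F B P R p` (`I = V ⊓ B`):

* `Sit.bh` : 876's `Key.BH V F B`; `Sit.F_le_I`, `Sit.I_le_E`;
* `Sit.Z_ne`, `Sit.pt_U`, `Sit.pt_R`, `Sit.Z_inf_F` : no point of `U` or of `V_R` meets `F`;
* `Sit.eq_bot_of_norm` : no nontrivial subgroup of `F` is normalised by `S`;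
* `Sit.two_lt` **(I2)** : `2 < |B : B ∩ N|`; `Sit.two_lt'` : `2 < |I : F|`;
* `Sit.false_of_few` **(T1) + (I2)** : no `w ∈ V - E` has at most one other `B`-conjugate.
-/

set_option autoImplicit false

namespace Cfsg.Agent.Omega.NOThreeL.Low

open Subgroup Cfsg Cfsg.Agent.ZN Cfsg.Agent.Omega.MinPar Cfsg.Agent.Omega.Frame Cfsg.Agent.Omega.FrameNOFF
open Cfsg.Agent.Omega.NOne.Flat (Hyp EE WW NN BadX)
open Cfsg.Agent.Omega.NoFF.Basic (mem_conj)
open scoped Pointwise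

universe u

variable {G : Type u} [Group G] [Finite G] {S : Sylow 2 G} {V F B P R : Subgroup G} {p : G}

namespace Sit

variable (s : Sit S V F B P R p)
include s

/-- 876's structure. -/
theorem bh : Key.BH V F B := ⟨s.flat, s.BW, s.FB, s.comm, s.XB⟩

theorem F_le_V : F ≤ V := s.flat.bad.le

theorem F_le_I : F ≤ V ⊓ B := le_inf s.F_le_V s.FB

theorem F_le_S : F ≤ (S : Subgroup G) := s.F_le_V.trans s.VS

theorem I_le_E : V ⊓ B ≤ EE V F := s.bh.I_le_E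

theorem Z_ne : zc (S : Subgroup G) ≠ ⊥ := zc_ne_bot_of_par S s.hP.toIsPar

/-- The points of the lines `V_Q`, `Q ∈ P*`, through `Z` do not meet `F`. -/
theorem pt {Q : Subgroup G} (hQ : IsParS (S : Subgroup G) Q) {q : G} (hq : q ∈ Q) :
    MulAut.conj q • zc (S : Subgroup G) ⊓ F = ⊥ := by
  have := s.spp 1 1 q Q (one_mem _) rfl hQ hq
  rwa [one_mul] at this

/-- element form of `pt` -/
theorem pt' {Q : Subgroup G} (hQ : IsParS (S : Subgroup G) Q) {q : G} (hq : q ∈ Q) {z : G}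
    (hz : z ∈ zc (S : Subgroup G)) (hF : q * z * q⁻¹ ∈ F) : z = 1 := by
  have h1 : q * z * q⁻¹ ∈ MulAut.conj q • zc (S : Subgroup G) ⊓ F := mem_inf.2 ⟨mem_conj.2 (by simpa [mul_assoc] using hz), hF⟩
  rw [s.pt hQ hq, mem_bot] at h1
  have h2 : z = q⁻¹ * (q * z * q⁻¹) * q := by group
  rw [h2, h1]
  group

/-- `Z ∩ F = 1` -/
theorem Z_inf_F : zc (S : Subgroup G) ⊓ F = ⊥ := by
  have := s.pt s.hP (one_mem _)
  rwa [map_one, one_smul] at this

/-- **No nontrivial subgroup of `F` is normalised by `S`.** -/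
theorem eq_bot_of_norm {D : Subgroup G} (hDF : D ≤ F) (hn : (S : Subgroup G) ≤ normalizer (D : Set G)) :
    D = ⊥ := by
  by_contra hD
  obtain ⟨c, hc, hcz, hc1⟩ := Cfsg.Agent.MinSimple.CaseD8.exists_mem_zc S.isPGroup' (hDF.trans s.F_le_S) hn hD
  have h1 : c ∈ zc (S : Subgroup G) ⊓ F := ⟨hcz, hDF hc⟩
  rw [s.Z_inf_F, mem_bot] at h1
  exact hc1 h1

/-- **(I2)**: `2 < |I : F|` -/
theorem two_lt' : 2 < F.relIndex (V ⊓ B) := by
  by_contra h2
  exact ITwo.false_of_le_two (R := R) (F := F) (I := V ⊓ B) s.hR.le s.Z_ne (s.D.cz R s.hR) (s.RV.trans s.VS)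
    (le_inf s.RV s.RB) (not_lt.1 h2) fun q hq z hz hF => s.pt' s.hR hq hz hF

/-- **(I2)**: `2 < |B : B ∩ N|` -/
theorem two_lt : 2 < (NN V F).relIndex B := by
  rw [s.bh.relIndex_B]
  exact s.two_lt'

/-- **(T1) + (I2)**: no `w ∈ V - E` has at most one other `B`-conjugate. -/
theorem false_of_few {w : G} (hw : w ∈ V) (hwE : w ∉ EE V F)
    (h1 : ∀ b ∈ B, ∀ b' ∈ B, b * w * b⁻¹ ≠ w → b' * w * b'⁻¹ ≠ w → b * w * b⁻¹ = b' * w * b'⁻¹) : False :=
  absurd s.two_lt' (not_lt.2 (s.bh.relIndex_le_two hw hwE h1))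

end Sit

end Cfsg.Agent.Omega.NOThreeL.Low
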