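import Cfsg.Agent.Omega.NOThreeL.Low.SymCase
import Cfsg.Agent.Omega.NOThreeL.Low.SitTwo

/-!
# THEOREM LOW of NO-3L (#19191, helper597), P6: the bad line is not of symmetric type

`quad` : `[V, B, B] = 1`; `p6 : StP6`.
-/

set_option autoImplicit false
set_option maxHeartbeats 400000

namespace Cfsg.Agent.Omega.NOThreeL.Low.PSix

open Subgroup Cfsg
open Cfsg.Agent.ZN
open Cfsg.Agent.Omega.FFThm (OffM NatKM SymKM)
open Cfsg.Agent.Omega.NOne.Flat (Hyp EE WW NN)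
open Cfsg.Agent.Omega.NOne.NearFF (c)

universe u

variable {G : Type u} [Group G] [Finite G] {S : Sylow 2 G} {V F B P R : Subgroup G} {p : G}

/-- `[V, B, B] = 1` -/
theorem quad (s : Sit S V F B P R p) {w b b' : G} (hw : w ∈ V) (hb : b ∈ B) (hb' : b' ∈ B) :
    b' * (b * w * b⁻¹ * w⁻¹) = b * w * b⁻¹ * w⁻¹ * b' := by
  have h1 := s.bh.quad hw hb hb'
  have h2 : (c w b)⁻¹ = b * w * b⁻¹ * w⁻¹ := by rw [c]; group
  rw [← h2]
  calc b' * (c w b)⁻¹ = (c w b)⁻¹ * (c w b * b') * (c w b)⁻¹ := by group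
    _ = (c w b)⁻¹ * (b' * c w b) * (c w b)⁻¹ := by rw [h1]
    _ = (c w b)⁻¹ * b' := by group

/-- **P6**: `U` is not of symmetric type. -/
theorem p6 : StP6.{u} := by
  intro G _ _ S V F B P R p s k m _ _ M
  refine s.bad (SymCase.le_of_t1 M.toSymK s.hP.le (MinSimple.VModule.le_normalizer_zl _ _) s.BS ?_ ?_)
  · intro w hw b hb b' hb'
    exact quad s (s.UV hw) hb hb'
  · intro w hw hwE h1
    exact s.false_of_few (s.UV hw) hwE h1

end Cfsg.Agent.Omega.NOThreeL.Low.PSix
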