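import Cfsg.Agent.Omega.NOThreeL.NF.Nat

/-!
# THEOREM LOW (#19191), P8 = TORUS: the core

`N ≤ V` is a natural block with coordinates `c : N ≃ K²`, `R = {a ∈ N | c a 1 = 0}`, the elementary abelian group
`B ⊴ X` acts on `N` as `up (bet b)`, `R ≤ B`, noncommuting `X`-conjugates of `V` meet `R`-disjointly (`ti`), and
`x ∈ X` satisfies `R^x ∩ C(N) = 1 = R ∩ C(N^x)`.

* `Core.torus` : for `l ∈ Kˣ` there is `g ∈ ⟨N, N^x⟩` which acts on `R` as the multiplication by `l`.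
-/

set_option autoImplicit false

namespace Cfsg.Agent.Omega.NOThreeL.Low

open Subgroup Cfsg Cfsg.Agent.ZN.ChoiceBase

universe u

/-- The situation of TORUS. -/
structure Core {G : Type u} [Group G] {K : Type} [Field K] (X V B N : Subgroup G) (c : G → Fin 2 → K)
    (bet : G → K) (x : G) : Prop where
  NV : N ≤ V
  Vc : ∀ a ∈ V, ∀ b ∈ V, a * b = b * a
  VX : V ≤ X
  XB : X ≤ normalizer (B : Set G)
  Bc : ∀ a ∈ B, ∀ b ∈ B, a * b = b * a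
  B2 : ∀ a ∈ B, a * a = 1
  add : ∀ a ∈ N, ∀ b ∈ N, c (a * b) = c a + c b
  inj : ∀ a ∈ N, c a = 0 → a = 1
  surj : ∀ y : Fin 2 → K, ∃ a ∈ N, c a = y
  RB : ∀ a ∈ N, c a 1 = 0 → a ∈ B
  act : ∀ b ∈ B, ∀ a ∈ N, b * a * b⁻¹ ∈ N ∧ c (b * a * b⁻¹) = ![c a 0 + bet b * c a 1, c a 1]
  xX : x ∈ X
  ti : ∀ g ∈ X, ∀ a ∈ N, a ≠ 1 → c a 1 = 0 → ∀ a' ∈ N, c a' 1 = 0 → g * a' * g⁻¹ = a →
    ∀ v ∈ V, ∀ w ∈ V, v * (g * w * g⁻¹) = g * w * g⁻¹ * v
  dis : ∀ a ∈ N, c a 1 = 0 → (∀ n ∈ N, x * a * x⁻¹ * n = n * (x * a * x⁻¹)) → a = 1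
  dis' : ∀ a ∈ N, c a 1 = 0 → (∀ n ∈ N, a * (x * n * x⁻¹) = x * n * x⁻¹ * a) → a = 1

namespace Core

variable {G : Type u} [Group G] {K : Type} [Field K] {X V B N : Subgroup G} {c : G → Fin 2 → K}
  {bet : G → K} {x : G} (C : Core X V B N c bet x)

section
include C

theorem c_one : c 1 = 0 := by
  have h := C.add 1 (one_mem _) 1 (one_mem _)
  rw [one_mul] at h
  exact left_eq_add.1 h

theorem c_inv {a : G} (ha : a ∈ N) : c a⁻¹ = - c a := by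
  have h := C.add a ha a⁻¹ (inv_mem ha)
  rw [mul_inv_cancel, C.c_one] at h
  exact (neg_eq_of_add_eq_zero_right h.symm).symm

theorem ext {a b : G} (ha : a ∈ N) (hb : b ∈ N) (h : c a = c b) : a = b := by
  refine mul_inv_eq_one.1 (C.inj _ (mul_mem ha (inv_mem hb)) ?_)
  rw [C.add a ha _ (inv_mem hb), C.c_inv hb, h, add_neg_cancel]

theorem NX : N ≤ X := C.NV.trans C.VX

/-- `X` normalises `B`. -/
theorem cB {g b : G} (hg : g ∈ X) (hb : b ∈ B) : g * b * g⁻¹ ∈ B := (mem_normalizer_iff.1 (C.XB hg) b).1 hb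

theorem cB' {g b : G} (hg : g ∈ X) (hb : b ∈ B) : g⁻¹ * b * g ∈ B := by
  have := C.cB (inv_mem hg) hb
  rwa [inv_inv] at this

/-- the vector with coordinates `(t, 0)`. -/
theorem exR (t : K) : ∃ a ∈ N, c a = ![t, 0] := C.surj _

theorem bet_mul {b d : G} (hb : b ∈ B) (hd : d ∈ B) : bet (b * d) = bet b + bet d := by
  obtain ⟨a, ha, hca⟩ := C.surj ![0, 1]
  obtain ⟨h1, h2⟩ := C.act d hd a ha
  have h3 := (C.act b hb _ h1).2
  have h4 := (C.act (b * d) (mul_mem hb hd) a ha).2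
  have e1 : b * d * a * (b * d)⁻¹ = b * (d * a * d⁻¹) * b⁻¹ := by group
  rw [e1, h3] at h4
  have h5 := congrFun h4 0
  rw [h2, hca] at h5
  simp only [Matrix.cons_val_zero, Matrix.cons_val_one, mul_one, zero_add] at h5
  rw [← h5, add_comm]

theorem bet_zero_iff {b : G} (hb : b ∈ B) : bet b = 0 ↔ ∀ n ∈ N, b * n = n * b := by
  constructor
  · intro h n hn
    obtain ⟨h1, h2⟩ := C.act b hb n hn
    have h3 : b * n * b⁻¹ = n := by
      refine C.ext h1 hn ?_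
      rw [h2, h]
      funext j
      fin_cases j
      · simp
      · rfl
    exact mul_inv_eq_iff_eq_mul.1 h3
  · intro h
    obtain ⟨a, ha, hca⟩ := C.surj ![0, 1]
    have h1 := (C.act b hb a ha).2
    rw [h a ha, mul_inv_cancel_right, hca] at h1
    have h2 := congrFun h1 0
    simpa using h2.symm

theorem bet_R {a : G} (ha : a ∈ N) (h : c a 1 = 0) : bet a = 0 :=
  (C.bet_zero_iff (C.RB a ha h)).2 fun _ hn => C.Vc _ (C.NV ha) _ (C.NV hn)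

variable [CharP K 2]

/-- The action of `N` on `B`. -/
theorem up {n b : G} (hn : n ∈ N) (hb : b ∈ B) :
    ∃ r ∈ N, c r = ![bet b * c n 1, 0] ∧ n * b * n⁻¹ = r * b := by
  obtain ⟨h1, h2⟩ := C.act b hb n hn
  refine ⟨n * (b * n * b⁻¹)⁻¹, mul_mem hn (inv_mem h1), ?_, by group⟩
  rw [C.add n hn _ (inv_mem h1), C.c_inv h1, h2]
  funext j
  fin_cases j
  · change c n 0 + -(c n 0 + bet b * c n 1) = bet b * c n 1
    rw [CharTwo.neg_eq, ← add_assoc, CharTwo.add_self_eq_zero, zero_add]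
  · change c n 1 + -(c n 1) = 0
    rw [add_neg_cancel]

/-- The action of `N^x` on `B`. -/
theorem upx {n b : G} (hn : n ∈ N) (hb : b ∈ B) :
    ∃ r ∈ N, c r 1 = 0 ∧ x * n * x⁻¹ * b * (x * n * x⁻¹)⁻¹ = x * r * x⁻¹ * b := by
  obtain ⟨r, hr, hcr, h⟩ := C.up hn (C.cB' C.xX hb)
  refine ⟨r, hr, by rw [hcr]; rfl, ?_⟩
  have e1 : x * n * x⁻¹ * b * (x * n * x⁻¹)⁻¹ = x * (n * (x⁻¹ * b * x) * n⁻¹) * x⁻¹ := by group
  rw [e1, h]; group

omit [CharP K 2] in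
/-- the elements of `R^x` lie in `B` -/
theorem RxB {r : G} (hr : r ∈ N) (h : c r 1 = 0) : x * r * x⁻¹ ∈ B := C.cB C.xX (C.RB r hr h)

/-- `bet` is injective on `R^x`. -/
theorem bet_inj {r s : G} (hr : r ∈ N) (hr0 : c r 1 = 0) (hs : s ∈ N) (hs0 : c s 1 = 0)
    (h : bet (x * r * x⁻¹) = bet (x * s * x⁻¹)) : r = s := by
  have h1 : c (r * s) 1 = 0 := by rw [C.add r hr s hs, Pi.add_apply, hr0, hs0, add_zero]
  have e1 : x * (r * s) * x⁻¹ = x * r * x⁻¹ * (x * s * x⁻¹) := by group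
  have h2 : bet (x * (r * s) * x⁻¹) = 0 := by
    rw [e1, C.bet_mul (C.RxB hr hr0) (C.RxB hs hs0), h, CharTwo.add_self_eq_zero]
  have h3 : r * s = 1 := C.dis _ (mul_mem hr hs) h1
    ((C.bet_zero_iff (C.RxB (mul_mem hr hs) h1)).1 h2)
  have h4 := C.B2 s (C.RB s hs hs0)
  exact mul_right_cancel (h3.trans h4.symm)

/-- `bet` maps `R^x` onto `K`. -/
theorem bet_surj [Finite K] (t : K) : ∃ r ∈ N, c r 1 = 0 ∧ bet (x * r * x⁻¹) = t := by
  choose f hf hcf using C.exR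
  have hinj : Function.Injective fun t : K => bet (x * f t * x⁻¹) := by
    intro s t h
    have h1 := C.bet_inj (hf s) (by rw [hcf]; rfl) (hf t) (by rw [hcf]; rfl) h
    have h2 : c (f s) = c (f t) := by rw [h1]
    rw [hcf, hcf] at h2
    exact congrFun h2 0
  obtain ⟨s, hs⟩ := Finite.surjective_of_injective hinj t
  exact ⟨f s, hf s, by rw [hcf]; rfl, hs⟩

/-- `N^x` acts on `Y` as a group of matrices `low m`. -/
theorem low {n : G} (hn : n ∈ N) : ∃ m : K, ∀ a ∈ N, c a 1 = 0 → ∃ s ∈ N, c s 1 = 0 ∧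
    x * n * x⁻¹ * a * (x * n * x⁻¹)⁻¹ = x * s * x⁻¹ * a ∧ bet (x * s * x⁻¹) = m * c a 0 := by
  set w := x * n * x⁻¹ with hw
  have hwX : w ∈ X := mul_mem (mul_mem C.xX (C.NX hn)) (inv_mem C.xX)
  obtain ⟨a₀, ha₀, hca₀⟩ := C.exR 1
  have ha₀1 : c a₀ 1 = 0 := by rw [hca₀]; rfl
  obtain ⟨s₀, hs₀, hcs₀, hs₀w⟩ := C.upx hn (C.RB a₀ ha₀ ha₀1)
  refine ⟨bet (x * s₀ * x⁻¹), fun a ha hca => ?_⟩
  obtain ⟨s, hs, hcs, hsw⟩ := C.upx hn (C.RB a ha hca)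
  refine ⟨s, hs, hcs, hsw, ?_⟩
  have ha₀ne : a₀ ≠ 1 := by
    intro h
    rw [h, C.c_one] at hca₀
    exact zero_ne_one (congrFun hca₀ 0)
  rw [← hw] at hs₀w hsw
  by_cases hm : bet (x * s₀ * x⁻¹) = 0
  · have h1 : s₀ = 1 := C.dis _ hs₀ hcs₀ ((C.bet_zero_iff (C.RxB hs₀ hcs₀)).1 hm)
    rw [h1, mul_one, mul_inv_cancel, one_mul] at hs₀w
    have h2 := C.ti w hwX a₀ ha₀ ha₀ne ha₀1 a₀ ha₀ ha₀1 hs₀w
    rw [hm, zero_mul, C.bet_zero_iff (C.RxB hs hcs)]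
    intro v hv
    have h3 := h2 v (C.NV hv) a (C.NV ha)
    rw [hsw] at h3
    have h4 := C.Vc v (C.NV hv) a (C.NV ha)
    have h5 : v * (x * s * x⁻¹) * a = x * s * x⁻¹ * v * a := by
      rw [mul_assoc v, h3, mul_assoc, ← h4, ← mul_assoc]
    exact (mul_right_cancel h5).symm
  · set m := bet (x * s₀ * x⁻¹) with hmdef
    obtain ⟨v, hv, hcv⟩ := C.surj ![0, m⁻¹]
    have hcv1 : c v 1 = m⁻¹ := by rw [hcv]; rfl
    -- `v s₀^x v⁻¹ = a₀ s₀^x = w a₀ w⁻¹`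
    obtain ⟨r, hr, hcr, hrv⟩ := C.up hv (C.RxB hs₀ hcs₀)
    rw [hcv1, ← hmdef, mul_inv_cancel₀ hm, ← hca₀] at hcr
    have hra : r = a₀ := C.ext hr ha₀ hcr
    rw [hra, C.Bc _ (C.RB a₀ ha₀ ha₀1) _ (C.RxB hs₀ hcs₀), ← hs₀w] at hrv
    set g := (v * x)⁻¹ * w with hg
    have hgX : g ∈ X := mul_mem (inv_mem (mul_mem (C.NX hv) C.xX)) hwX
    have hgs : g * a₀ * g⁻¹ = s₀ := by
      have e1 : g * a₀ * g⁻¹ = (v * x)⁻¹ * (w * a₀ * w⁻¹) * (v * x) := by rw [hg]; group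
      rw [e1, ← hrv]; group
    have hs₀ne : s₀ ≠ 1 := by
      intro h
      rw [h, mul_one, mul_inv_cancel] at hmdef
      exact hm (hmdef.trans (C.bet_R (one_mem _) (by rw [C.c_one]; rfl)))
    have h2 := C.ti g hgX s₀ hs₀ hs₀ne hcs₀ a₀ ha₀ ha₀1 hgs
    -- `w a w⁻¹` commutes with `(v x) N (v x)⁻¹`
    have hwB : w * a * w⁻¹ ∈ B := C.cB hwX (C.RB a ha hca)
    obtain ⟨r', hr', hcr', hrv'⟩ := C.up (inv_mem hv) hwB
    rw [inv_inv] at hrv'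
    have hbw : bet (w * a * w⁻¹) = bet (x * s * x⁻¹) := by
      rw [hsw, C.bet_mul (C.RxB hs hcs) (C.RB a ha hca), C.bet_R ha hca, add_zero]
    rw [hbw, C.c_inv hv, Pi.neg_apply, hcv1, CharTwo.neg_eq] at hcr'
    have hr'1 : c r' 1 = 0 := by rw [hcr']; rfl
    have h5 : r' * a = 1 := by
      refine C.dis' _ (mul_mem hr' ha) ?_ fun y hy => ?_
      · rw [C.add r' hr' a ha, Pi.add_apply, hr'1, hca, add_zero]
      · -- `v⁻¹ (w a w⁻¹) v = r' a (x s x⁻¹)`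
        have h6 := h2 y (C.NV hy) a (C.NV ha)
        have e1 : g * a * g⁻¹ = x⁻¹ * (v⁻¹ * (w * a * w⁻¹) * v) * x := by rw [hg]; group
        rw [e1, hrv', hsw] at h6
        have h7 : x * y * x⁻¹ * (r' * (x * s * x⁻¹ * a)) = r' * (x * s * x⁻¹ * a) * (x * y * x⁻¹) := by
          have := congrArg (fun t => x * t * x⁻¹) h6
          simpa [mul_assoc] using this
        have h8 : r' * (x * s * x⁻¹ * a) = r' * a * (x * s * x⁻¹) := by
          rw [C.Bc _ (C.RxB hs hcs) _ (C.RB a ha hca)]; simp only [mul_assoc]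
        have h9 : x * s * x⁻¹ * (x * y * x⁻¹) = x * y * x⁻¹ * (x * s * x⁻¹) := by
          have := C.Vc s (C.NV hs) y (C.NV hy)
          have e2 : x * s * x⁻¹ * (x * y * x⁻¹) = x * (s * y) * x⁻¹ := by group
          rw [e2, this]; group
        rw [h8] at h7
        have h10 : r' * a * (x * y * x⁻¹) * (x * s * x⁻¹) = x * y * x⁻¹ * (r' * a) * (x * s * x⁻¹) := by
          rw [mul_assoc, ← h9, ← mul_assoc, ← h7]
          simp only [mul_assoc]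
        exact mul_right_cancel h10
    have h6 : c (r' * a) 0 = 0 := by rw [h5, C.c_one]; rfl
    rw [C.add r' hr' a ha, Pi.add_apply, hcr'] at h6
    have h7 : bet (x * s * x⁻¹) * m⁻¹ = c a 0 := by
      have h8 : bet (x * s * x⁻¹) * m⁻¹ + c a 0 = 0 := h6
      exact CharTwo.add_eq_zero.1 h8
    rw [← h7]
    field_simp

/-- an element of `N^x` which centralises `R` lies in `R^x` -/
theorem low_ker [Finite K] {n : G} (hn : n ∈ N)
    (h : ∀ a ∈ N, c a 1 = 0 → x * n * x⁻¹ * a = a * (x * n * x⁻¹)) : c n 1 = 0 := by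
  -- an element `b ∈ B` with `bet b = 1`
  obtain ⟨r, hr, hcr, hbr⟩ := C.bet_surj 1
  have hb : x * r * x⁻¹ ∈ B := C.RxB hr hcr
  set b := x * r * x⁻¹ with hbdef
  -- `bet` is injective on `R^(x⁻¹)`, so onto
  have hinj : ∀ t : K, ∃ a ∈ N, c a 1 = 0 ∧ bet (x⁻¹ * a * x) = t := by
    choose f hf hcf using C.exR
    have hi : Function.Injective fun t : K => bet (x⁻¹ * f t * x) := by
      intro s t hst
      have hBs : x⁻¹ * f s * x ∈ B := C.cB' C.xX (C.RB _ (hf s) (by rw [hcf]; rfl))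
      have hBt : x⁻¹ * f t * x ∈ B := C.cB' C.xX (C.RB _ (hf t) (by rw [hcf]; rfl))
      have h1 : c (f s * f t) 1 = 0 := by
        rw [C.add _ (hf s) _ (hf t), Pi.add_apply, hcf, hcf]; simp
      have h2 : bet (x⁻¹ * (f s * f t) * x) = 0 := by
        have e1 : x⁻¹ * (f s * f t) * x = x⁻¹ * f s * x * (x⁻¹ * f t * x) := by group
        have hst' : bet (x⁻¹ * f s * x) = bet (x⁻¹ * f t * x) := hst
        rw [e1, C.bet_mul hBs hBt, hst', CharTwo.add_self_eq_zero]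
      have hB3 : x⁻¹ * (f s * f t) * x ∈ B :=
        C.cB' C.xX (C.RB _ (mul_mem (hf s) (hf t)) h1)
      have h3 : f s * f t = 1 := by
        refine C.dis' _ (mul_mem (hf s) (hf t)) h1 fun y hy => ?_
        have h4 := (C.bet_zero_iff hB3).1 h2 y hy
        have h5 := congrArg (fun t => x * t * x⁻¹) h4
        have e2 : x * (x⁻¹ * (f s * f t) * x * y) * x⁻¹ = f s * f t * (x * y * x⁻¹) := by group
        have e3 : x * (y * (x⁻¹ * (f s * f t) * x)) * x⁻¹ = x * y * x⁻¹ * (f s * f t) := by group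
        change x * (x⁻¹ * (f s * f t) * x * y) * x⁻¹ = x * (y * (x⁻¹ * (f s * f t) * x)) * x⁻¹ at h5
        rw [e2, e3] at h5
        exact h5
      have h4 := C.B2 (f t) (C.RB _ (hf t) (by rw [hcf]; rfl))
      have h5 : f s = f t := mul_right_cancel (h3.trans h4.symm)
      have h6 : c (f s) = c (f t) := by rw [h5]
      rw [hcf, hcf] at h6
      exact congrFun h6 0
    intro t
    obtain ⟨s, hs⟩ := Finite.surjective_of_injective hi t
    exact ⟨f s, hf s, by rw [hcf]; rfl, hs⟩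
  -- `n` centralises `b`
  obtain ⟨a, ha, hca, hba⟩ := hinj 1
  have haB : x⁻¹ * a * x ∈ B := C.cB' C.xX (C.RB a ha hca)
  have h1 := h a ha hca
  have h2 : n * (x⁻¹ * a * x) * n⁻¹ = x⁻¹ * a * x := by
    have e1 : n * (x⁻¹ * a * x) * n⁻¹ = x⁻¹ * (x * n * x⁻¹ * a) * (x * n⁻¹) := by group
    rw [e1, h1]; group
  obtain ⟨r', hr', hcr', hr'e⟩ := C.up hn haB
  rw [h2] at hr'e
  have h3 : r' = 1 := (right_eq_mul.1 hr'e)
  rw [h3, C.c_one, hba] at hcr'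
  have h4 := congrFun hcr' 0
  simpa using h4.symm

/-- every `low m` is induced by `N^x` -/
theorem low_surj [Finite K] (m : K) : ∃ n ∈ N, ∀ a ∈ N, c a 1 = 0 → ∃ s ∈ N, c s 1 = 0 ∧
    x * n * x⁻¹ * a * (x * n * x⁻¹)⁻¹ = x * s * x⁻¹ * a ∧ bet (x * s * x⁻¹) = m * c a 0 := by
  have hex : ∀ t : K, ∃ n ∈ N, c n = ![0, t] := fun t => C.surj _
  choose f hf hcf using hex
  choose g hg using fun t => C.low (hf t)
  have hinj : Function.Injective g := by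
    intro s t hst
    have h1 : c (f t * (f s)⁻¹) 1 = 0 := by
      refine C.low_ker (mul_mem (hf t) (inv_mem (hf s))) fun a ha hca => ?_
      -- the two elements act equally
      obtain ⟨r, hr, hcr, hre, hbr⟩ := hg s a ha hca
      obtain ⟨r', hr', hcr', hre', hbr'⟩ := hg t a ha hca
      have h2 : r = r' := C.bet_inj hr hcr hr' hcr' (by rw [hbr, hbr', hst])
      rw [← h2, ← hre] at hre'
      -- `f t` and `f s` commute
      have h3 := C.Vc _ (C.NV (hf t)) _ (C.NV (inv_mem (hf s)))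
      have e1 : x * (f t * (f s)⁻¹) * x⁻¹ = (x * f s * x⁻¹)⁻¹ * (x * f t * x⁻¹) := by
        rw [h3]; group
      have h4 : (x * f s * x⁻¹)⁻¹ * (x * f t * x⁻¹) * a * ((x * f s * x⁻¹)⁻¹ * (x * f t * x⁻¹))⁻¹ = a := by
        have e2 : (x * f s * x⁻¹)⁻¹ * (x * f t * x⁻¹) * a * ((x * f s * x⁻¹)⁻¹ * (x * f t * x⁻¹))⁻¹ =
          (x * f s * x⁻¹)⁻¹ * (x * f t * x⁻¹ * a * (x * f t * x⁻¹)⁻¹) * (x * f s * x⁻¹) := by group
        rw [e2, hre']; group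
      rw [e1]
      exact mul_inv_eq_iff_eq_mul.1 h4
    rw [C.add _ (hf t) _ (inv_mem (hf s)), C.c_inv (hf s), Pi.add_apply, Pi.neg_apply, hcf, hcf] at h1
    have h2 : t + -s = 0 := h1
    exact (add_neg_eq_zero.1 h2).symm
  obtain ⟨t, rfl⟩ := Finite.surjective_of_injective hinj m
  exact ⟨f t, hf t, hg t⟩

/-- **TORUS.** -/
theorem torus [Finite K] {l : K} (hl : l ≠ 0) : ∃ g ∈ N ⊔ cj x N, ∀ a ∈ N, c a 1 = 0 →
    g * a * g⁻¹ ∈ N ∧ c (g * a * g⁻¹) = ![l * c a 0, 0] := by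
  obtain ⟨n₁, hn₁, h₁⟩ := C.low_surj 1
  obtain ⟨n₂, hn₂, h₂⟩ := C.low_surj l⁻¹
  obtain ⟨v, hv, hcv⟩ := C.surj ![0, 1 + l]
  have hx : ∀ {n : G}, n ∈ N → x * n * x⁻¹ ∈ N ⊔ cj x N := fun {n} hn => by
    refine (le_sup_right : cj x N ≤ _) ?_
    rw [mem_cj]
    have e1 : x⁻¹ * (x * n * x⁻¹) * x = n := by group
    rw [e1]; exact hn
  refine ⟨x * n₂ * x⁻¹ * v * (x * n₁ * x⁻¹), mul_mem (mul_mem (hx hn₂) ((le_sup_left : N ≤ _) hv)) (hx hn₁),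
    fun a ha hca => ?_⟩
  obtain ⟨s, hs, hcs, hse, hbs⟩ := h₁ a ha hca
  -- `v` acts
  have hsB := C.RxB hs hcs
  obtain ⟨r, hr, hcr, hre⟩ := C.up hv hsB
  have hr1 : c r 1 = 0 := by rw [hcr]; rfl
  have hra : r * a ∈ N := mul_mem hr ha
  have hcra : c (r * a) = ![l * c a 0, 0] := by
    rw [C.add r hr a ha, hcr, hbs, hcv]
    funext j
    fin_cases j
    · change 1 * c a 0 * (1 + l) + c a 0 = l * c a 0
      have : 1 * c a 0 * (1 + l) + c a 0 = l * c a 0 + (c a 0 + c a 0) := by ring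
      rw [this, CharTwo.add_self_eq_zero, add_zero]
    · change (0 : K) + c a 1 = 0
      rw [hca, add_zero]
  have hcra1 : c (r * a) 1 = 0 := by rw [hcra]; rfl
  obtain ⟨s', hs', hcs', hse', hbs'⟩ := h₂ _ hra hcra1
  have hss : s' = s := by
    refine C.bet_inj hs' hcs' hs hcs ?_
    rw [hbs', hbs, hcra]
    change l⁻¹ * (l * c a 0) = 1 * c a 0
    rw [inv_mul_cancel_left₀ hl, one_mul]
  have hfin : x * n₂ * x⁻¹ * v * (x * n₁ * x⁻¹) * a * (x * n₂ * x⁻¹ * v * (x * n₁ * x⁻¹))⁻¹ = r * a := by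
    have e1 : x * n₂ * x⁻¹ * v * (x * n₁ * x⁻¹) * a * (x * n₂ * x⁻¹ * v * (x * n₁ * x⁻¹))⁻¹ =
      x * n₂ * x⁻¹ * (v * (x * n₁ * x⁻¹ * a * (x * n₁ * x⁻¹)⁻¹) * v⁻¹) * (x * n₂ * x⁻¹)⁻¹ := by group
    have e2 : v * (x * s * x⁻¹ * a) * v⁻¹ = v * (x * s * x⁻¹) * v⁻¹ * a := by
      have h3 := C.Vc v (C.NV hv) a (C.NV ha)
      have h4 : a * v⁻¹ = v⁻¹ * a := by
        rw [eq_inv_mul_iff_mul_eq, ← mul_assoc, h3, mul_inv_cancel_right]
      rw [mul_assoc v, mul_assoc (x * s * x⁻¹), h4]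
      simp only [mul_assoc]
    have e3 : r * (x * s * x⁻¹) * a = x * s * x⁻¹ * (r * a) := by
      rw [C.Bc r (C.RB r hr hr1) _ hsB, mul_assoc]
    rw [e1, hse, e2, hre, e3]
    have e4 : x * n₂ * x⁻¹ * (x * s * x⁻¹ * (r * a)) * (x * n₂ * x⁻¹)⁻¹ =
      x * (n₂ * s) * x⁻¹ * (r * a) * (x * n₂ * x⁻¹)⁻¹ := by group
    have e5 : x * (n₂ * s) * x⁻¹ = x * s * x⁻¹ * (x * n₂ * x⁻¹) := by
      rw [C.Vc n₂ (C.NV hn₂) s (C.NV hs)]; group
    have e6 : x * s * x⁻¹ * (x * n₂ * x⁻¹) * (r * a) * (x * n₂ * x⁻¹)⁻¹ =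
      x * s * x⁻¹ * (x * n₂ * x⁻¹ * (r * a) * (x * n₂ * x⁻¹)⁻¹) := by group
    rw [e4, e5, e6, hse', hss, ← mul_assoc, C.B2 _ hsB, one_mul]
  rw [hfin]
  exact ⟨hra, hcra⟩

end

end Core

end Cfsg.Agent.Omega.NOThreeL.Low
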