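import Cfsg.Agent.Omega.NOThreeL.NF.Nat
import Cfsg.Agent.Omega.NoFF.LinesPlug

/-!
# THEOREM LOW (#19191, helper597): (EQ) and (END)

`U` is the sum of `k` natural `SL₂(K)`-modules (`NatKM K S P U ⊥ k`), `i` a bad block, `R_j = ln M {j}`, `SS` the
vectors `≠ 1` of the points of the line `V_b`; `SS ⊆ R_i F`.

* `In M i Z V F B E SS` : the inputs: (S++), (TORUS), (CE) and the elementary facts;
* `In.eq` : **(EQ)** the decomposition `v = r f` (`r ∈ R_i`, `f ∈ F`) of `v ∈ SS` is compatible with the elements of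
  `S` which normalise the block `i`;
* `In.mem_full` : every `v ∈ SS` lies in `U` and has full support;
* `In.false_of` : **(END)**.
-/

set_option autoImplicit false

namespace Cfsg.Agent.Omega.NOThreeL.Low.EqEnd

open Subgroup Cfsg Cfsg.Agent.ZN Cfsg.Agent.ZN.ChoiceBase
open Cfsg.Agent.Omega.FFThm (NatKM)
open Cfsg.Agent.Omega.NOThreeL.NF
open Cfsg.Agent.Omega.NOThreeL.NF.NatR

universe u

variable {G : Type u} [Group G] {K : Type} [Field K] {S P U : Subgroup G} {k : ℕ}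

/-- `t` maps the block `i` to the block `j` -/
def Tr (M : NatKM K S P U ⊥ k) (t : G) (i j : Fin k) : Prop :=
  ∀ w ∈ U, M.e (t * w * t⁻¹) j = 0 ↔ M.e w i = 0

/-- The inputs of (EQ) and (END). -/
structure In (M : NatKM K S P U ⊥ k) (i : Fin k) (Z V F B E : Subgroup G) (SS : Set G) : Prop where
  SP : S ≤ P
  PU : P ≤ normalizer (U : Set G)
  two : IsPGroup 2 S
  Vc : V ≤ centralizer (V : Set G)
  UV : U ≤ V
  FV : F ≤ V
  VS : V ≤ S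
  /-- `SS ⊆ I = R_i F` -/
  SSI : ∀ v ∈ SS, ∃ r ∈ ln M {i}, ∃ f ∈ F, v = r * f
  SSS : ∀ s ∈ S, ∀ v ∈ SS, s * v * s⁻¹ ∈ SS
  SSB : ∀ b ∈ B, ∀ v ∈ SS, b * v * b⁻¹ = v
  RF : ln M {i} ⊓ F = ⊥
  BS : B ≤ S
  /-- (T3) -/
  Bi : ∀ b ∈ B, Tr M b i i
  RE : ∀ j, ln M {j} ≤ E
  /-- (CE) -/
  ce : ∀ x ∈ E, (∀ b ∈ B, b * x * b⁻¹ = x) → ∃ r ∈ ln M {i}, ∃ f ∈ F, x = r * f
  nofull : ∀ f ∈ F, f ∈ U → ∃ j, M.e f j = 0
  /-- `Z ∩ F = 1` -/
  ZF : ∀ z ∈ F, (∀ s ∈ S, s * z = z * s) → z = 1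
  /-- (S++) for the line `V_b` -/
  spp : ∀ g : G, (∃ h ∈ P, cj g Z = cj h Z) → ∀ v ∈ SS, g * v * g⁻¹ ∉ F
  /-- (TORUS) -/
  tor : ∀ r ∈ ln M {i}, ∀ r' ∈ ln M {i}, r ≠ 1 → r' ≠ 1 →
    ∃ g : G, (∀ f ∈ F, g * f * g⁻¹ = f) ∧ g * r' * g⁻¹ = r ∧ ∃ h ∈ P, cj g Z = cj h Z

section basic

variable {M : NatKM K S P U ⊥ k} {i j : Fin k} {t s x y : G}

theorem Tr.one : Tr M 1 i i := fun w _ => by
  have e : (1 : G) * w * 1⁻¹ = w := by group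
  rw [e]

theorem Tr.mul (hPU : P ≤ normalizer (U : Set G)) {l : Fin k} (ht : t ∈ P) (h1 : Tr M t i j) (h2 : Tr M s j l) :
    Tr M (s * t) i l := fun w hw => by
  have e : s * t * w * (s * t)⁻¹ = s * (t * w * t⁻¹) * s⁻¹ := by group
  rw [e, h2 _ (cmem hPU ht hw), h1 w hw]

theorem Tr.inv (hPU : P ≤ normalizer (U : Set G)) (ht : t ∈ P) (h1 : Tr M t i j) : Tr M t⁻¹ j i := fun w hw => by
  have h2 := h1 _ (cmem hPU (inv_mem ht) hw)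
  have e : t * (t⁻¹ * w * t⁻¹⁻¹) * t⁻¹ = w := by group
  rw [e] at h2
  exact h2.symm

theorem exists_tr (hSP : S ≤ P) (ht : t ∈ S) (i : Fin k) : ∃ j, Tr M t i j := by
  obtain ⟨σ, h1, -⟩ := exists_perm (M := M) hSP ht
  exact ⟨σ i, fun w hw => h1 w hw i⟩

theorem Tr.cj_ln (hPU : P ≤ normalizer (U : Set G)) (hSP : S ≤ P) (ht : t ∈ S) (h : Tr M t i j) :
    cj t (ln M {i}) = ln M {j} := by
  obtain ⟨σ, h1, h2⟩ := exists_perm (M := M) hSP ht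
  rw [cj_ln_le hPU hSP ht h1 h2 i]
  congr 2
  by_contra hne
  obtain ⟨v, hv, hvi, hvj⟩ := exists_pt (M := M) i ![0, 1]
  have h3 : M.e v i ≠ 0 := by
    rw [hvi]
    intro h0
    exact one_ne_zero (congrFun h0 1)
  refine h3 ((h v hv).1 ?_)
  obtain ⟨j', rfl⟩ := σ.surjective j
  exact (h1 v hv j').2 (hvj j' fun h4 => hne (by rw [h4]))

theorem Tr.mem_ln (hPU : P ≤ normalizer (U : Set G)) (hSP : S ≤ P) (ht : t ∈ S) (h : Tr M t i j)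
    (hx : x ∈ ln M {i}) : t * x * t⁻¹ ∈ ln M {j} := by
  rw [← h.cj_ln hPU hSP ht]
  exact ⟨x, hx, rfl⟩

/-- the component of `t x t⁻¹` at `j` depends only on the component of `x` at `i` -/
theorem Tr.e_eq (hPU : P ≤ normalizer (U : Set G)) (ht : t ∈ P) (h : Tr M t i j) (hx : x ∈ U) (hy : y ∈ U)
    (he : M.e x i = M.e y i) : M.e (t * x * t⁻¹) j = M.e (t * y * t⁻¹) j := by
  have h1 : M.e (x * y⁻¹) i = 0 := by
    rw [M.mul x hx _ (inv_mem hy), e_inv hy, Pi.add_apply, Pi.neg_apply, he, add_neg_cancel]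
  have h2 := (h _ (mul_mem hx (inv_mem hy))).2 h1
  have e : t * (x * y⁻¹) * t⁻¹ = (t * x * t⁻¹) * (t * y * t⁻¹)⁻¹ := by group
  have hx' := cmem hPU ht hx
  have hy' := cmem hPU ht hy
  rw [e, M.mul _ hx' _ (inv_mem hy'), e_inv hy', Pi.add_apply, Pi.neg_apply] at h2
  exact add_neg_eq_zero.1 h2

theorem ln_ne {r : G} (hr : r ∈ ln M {i}) (hr1 : r ≠ 1) : M.e r i ≠ 0 := by
  intro h0
  refine hr1 (ln_ext hr (one_mem _) ?_)
  rw [h0, e_one]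
  rfl

end basic

namespace In

variable {M : NatKM K S P U ⊥ k} {i : Fin k} {Z V F B E : Subgroup G} {SS : Set G}
  (h : In M i Z V F B E SS)
include h

theorem comm {a b : G} (ha : a ∈ V) (hb : b ∈ V) : a * b = b * a := mem_centralizer_iff.1 (h.Vc hb) a ha

theorem ln_le_V (j : Fin k) : ln M {j} ≤ V := (ln_le _).trans h.UV

theorem uniq {r r' f f' : G} (hr : r ∈ ln M {i}) (hr' : r' ∈ ln M {i}) (hf : f ∈ F) (hf' : f' ∈ F)
    (he : r * f = r' * f') : r = r' ∧ f = f' := by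
  have h1 : r'⁻¹ * r = f' * f⁻¹ := by
    have : r = r' * f' * f⁻¹ := by rw [← he]; group
    rw [this]; group
  have h2 : r'⁻¹ * r ∈ ln M {i} ⊓ F := by
    refine mem_inf.2 ⟨mul_mem (inv_mem hr') hr, ?_⟩
    rw [h1]
    exact mul_mem hf' (inv_mem hf)
  rw [h.RF, mem_bot] at h2
  have h3 : r = r' := (inv_mul_eq_one.1 h2).symm
  subst h3
  exact ⟨rfl, mul_left_cancel he⟩

theorem r_ne {v r f : G} (hv : v ∈ SS) (hf : f ∈ F) (he : v = r * f) : r ≠ 1 := by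
  rintro rfl
  refine h.spp 1 ⟨1, one_mem _, rfl⟩ v hv ?_
  have e : 1 * v * 1⁻¹ = f := by rw [he]; group
  rw [e]
  exact hf

/-- **(EQ)** -/
theorem eq {t v r f r' f' : G} (ht : t ∈ S) (hti : Tr M t i i) (hv : v ∈ SS) (hr : r ∈ ln M {i}) (hf : f ∈ F)
    (he : v = r * f) (hr' : r' ∈ ln M {i}) (hf' : f' ∈ F) (he' : t * v * t⁻¹ = r' * f') :
    t * r * t⁻¹ = r' ∧ t * f * t⁻¹ = f' := by
  have hv' : t * v * t⁻¹ ∈ SS := h.SSS t ht v hv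
  have h1 : t * r * t⁻¹ ∈ ln M {i} := hti.mem_ln h.PU h.SP ht hr
  have h2 : (t * r * t⁻¹) * (t * f * t⁻¹) = r' * f' := by rw [← he', he]; group
  by_cases hq : t * r * t⁻¹ = r'
  · refine ⟨hq, ?_⟩
    rw [hq] at h2
    exact mul_left_cancel h2
  · exfalso
    have hq1 : (t * r * t⁻¹)⁻¹ * r' ≠ 1 := fun h0 => hq (inv_mul_eq_one.1 h0)
    obtain ⟨g, hgF, hgr, y, hy, hgy⟩ := h.tor _ (mul_mem (inv_mem h1) hr') _ hr' hq1 (h.r_ne hv' hf' he')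
    have h3 : g * (t * v * t⁻¹) * g⁻¹ = t * f * t⁻¹ := by
      have e1 : g * (r' * f') * g⁻¹ = (g * r' * g⁻¹) * (g * f' * g⁻¹) := by group
      have e2 : t * f * t⁻¹ = (t * r * t⁻¹)⁻¹ * (r' * f') := by rw [← h2]; group
      rw [he', e1, hgr, hgF f' hf', e2]; group
    refine h.spp (t⁻¹ * g) ⟨t⁻¹ * y, mul_mem (inv_mem (h.SP ht)) hy, ?_⟩ _ hv' ?_
    · rw [← cj_cj, hgy, cj_cj]
    · have e : t⁻¹ * g * (t * v * t⁻¹) * (t⁻¹ * g)⁻¹ = t⁻¹ * (g * (t * v * t⁻¹) * g⁻¹) * t := by group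
      have e2 : t⁻¹ * (t * f * t⁻¹) * t = f := by group
      rw [e, h3, e2]
      exact hf

/-- `u = ∏ rho_j(v)` -/
def Uv (_ : In M i Z V F B E SS) (v u : G) : Prop :=
  u ∈ U ∧ ∀ t ∈ S, ∀ j, Tr M t i j → ∀ r ∈ ln M {i}, ∀ f ∈ F, t⁻¹ * v * t = r * f → M.e u j = M.e (t * r * t⁻¹) j

theorem exists_uv {v : G} (hv : v ∈ SS) : ∃ u, h.Uv v u := by
  have h1 : ∀ j, ∃ t ∈ S, Tr M t i j ∧ ∃ r ∈ ln M {i}, ∃ f ∈ F, t⁻¹ * v * t = r * f := by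
    intro j
    obtain ⟨t, ht, htr⟩ := M.trans i j
    have h2 := h.SSS t⁻¹ (inv_mem ht) v hv
    rw [inv_inv] at h2
    obtain ⟨r, hr, f, hf, he⟩ := h.SSI _ h2
    exact ⟨t, ht, htr, r, hr, f, hf, he⟩
  choose t ht htr r hr f hf he using h1
  obtain ⟨u, hu, heu⟩ := M.surj fun j => M.e (t j * r j * (t j)⁻¹) j
  refine ⟨u, hu, fun t' ht' j htr' r' hr' f' hf' he' => ?_⟩
  rw [heu]
  have hs : t'⁻¹ * t j ∈ S := mul_mem (inv_mem ht') (ht j)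
  have hsi : Tr M (t'⁻¹ * t j) i i := (htr j).mul h.PU (h.SP (ht j)) (htr'.inv h.PU (h.SP ht'))
  have hvj : (t j)⁻¹ * v * t j ∈ SS := by
    have := h.SSS (t j)⁻¹ (inv_mem (ht j)) v hv
    rwa [inv_inv] at this
  have e1 : (t'⁻¹ * t j) * ((t j)⁻¹ * v * t j) * (t'⁻¹ * t j)⁻¹ = r' * f' := by rw [← he']; group
  obtain ⟨e2, -⟩ := h.eq hs hsi hvj (hr j) (hf j) (he j) hr' hf' e1
  have e3 : t' * r' * t'⁻¹ = t j * r j * (t j)⁻¹ := by rw [← e2]; group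
  rw [e3]

theorem uv_uniq {v u u' : G} (hv : v ∈ SS) (hu : h.Uv v u) (hu' : h.Uv v u') : u = u' := by
  refine e_inj (M := M) hu.1 hu'.1 ?_
  funext j
  obtain ⟨t, ht, htr⟩ := M.trans i j
  have h2 := h.SSS t⁻¹ (inv_mem ht) v hv
  rw [inv_inv] at h2
  obtain ⟨r, hr, f, hf, he⟩ := h.SSI _ h2
  rw [hu.2 t ht j htr r hr f hf he, hu'.2 t ht j htr r hr f hf he]

theorem uv_cj {v u s : G} (hs : s ∈ S) (hu : h.Uv v u) : h.Uv (s * v * s⁻¹) (s * u * s⁻¹) := by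
  refine ⟨cmem h.PU (h.SP hs) hu.1, fun t ht j htr r hr f hf he => ?_⟩
  obtain ⟨j', hj'⟩ := exists_tr (M := M) h.SP (inv_mem hs) j
  have hsj : Tr M s j' j := by
    have := hj'.inv h.PU (h.SP (inv_mem hs))
    rwa [inv_inv] at this
  have ht' : s⁻¹ * t ∈ S := mul_mem (inv_mem hs) ht
  have htr' : Tr M (s⁻¹ * t) i j' := htr.mul h.PU (h.SP ht) hj'
  have e1 : (s⁻¹ * t)⁻¹ * v * (s⁻¹ * t) = r * f := by rw [← he]; group
  have h1 := hu.2 _ ht' j' htr' r hr f hf e1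
  have h2 := hsj.e_eq h.PU (h.SP hs) hu.1 (cmem h.PU (h.SP ht') (ln_le _ hr)) h1
  rw [h2]
  congr 1
  group

theorem uv_ln {v u : G} (hv : v ∈ SS) (hu : h.Uv v u) (j : Fin k) : M.e u j 1 = 0 ∧ M.e u j ≠ 0 := by
  obtain ⟨t, ht, htr⟩ := M.trans i j
  have h2 := h.SSS t⁻¹ (inv_mem ht) v hv
  rw [inv_inv] at h2
  obtain ⟨r, hr, f, hf, he⟩ := h.SSI _ h2
  have htr' : Tr M t i j := htr
  have h3 := htr'.mem_ln h.PU h.SP ht hr
  rw [hu.2 t ht j htr r hr f hf he]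
  refine ⟨h3.2.1 j, ln_ne h3 fun h0 => h.r_ne h2 hf he ?_⟩
  have e : r = t⁻¹ * (t * r * t⁻¹) * t := by group
  rw [e, h0]; group

/-- `v ≡ ∏ rho_j(v)` modulo `F` -/
theorem uv_mem {v u : G} (hv : v ∈ SS) (hu : h.Uv v u) : v * u⁻¹ ∈ F := by
  obtain ⟨r, hr, f, hf, he⟩ := h.SSI v hv
  have hrU := ln_le _ hr
  have huL : u ∈ ln M Set.univ := ⟨hu.1, fun j => (h.uv_ln hv hu j).1, fun j hj => absurd (Set.mem_univ j) hj⟩
  have huE : u ∈ E := by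
    rw [← sSup_ln] at huL
    refine (sSup_le ?_ : _ ≤ E) huL
    rintro _ ⟨j, -, rfl⟩
    exact h.RE j
  have hui : M.e u i = M.e r i := by
    have h1 := hu.2 1 (one_mem _) i Tr.one r hr f hf (by rw [he]; group)
    rw [h1]
    congr 1
    group
  -- `rho'(v) = u r⁻¹`
  have hB : ∀ b ∈ B, b * (u * r⁻¹) * b⁻¹ = u * r⁻¹ := by
    intro b hb
    have h1 : h.Uv v (b * u * b⁻¹) := by
      have := h.uv_cj (h.BS hb) hu
      rwa [h.SSB b hb v hv] at this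
    have h2 := h.uv_uniq hv h1 hu
    obtain ⟨h3, -⟩ := h.eq (h.BS hb) (h.Bi b hb) hv hr hf he hr hf (by rw [h.SSB b hb v hv]; exact he)
    have e : b * (u * r⁻¹) * b⁻¹ = (b * u * b⁻¹) * (b * r * b⁻¹)⁻¹ := by group
    rw [e, h2, h3]
  obtain ⟨r₁, hr₁, f₁, hf₁, he₁⟩ := h.ce _ (mul_mem huE (inv_mem (h.RE i hr))) hB
  have hf₁' : f₁ = r₁⁻¹ * (u * r⁻¹) := by rw [he₁]; group
  have hf₁U : f₁ ∈ U := by
    rw [hf₁']
    exact mul_mem (inv_mem (ln_le _ hr₁)) (mul_mem hu.1 (inv_mem hrU))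
  have hef : ∀ j, M.e f₁ j = - M.e r₁ j + (M.e u j + - M.e r j) := by
    intro j
    rw [hf₁', M.mul _ (inv_mem (ln_le _ hr₁)) _ (mul_mem hu.1 (inv_mem hrU)), M.mul _ hu.1 _ (inv_mem hrU),
      e_inv (ln_le _ hr₁), e_inv hrU]
    rfl
  obtain ⟨j, hj⟩ := h.nofull f₁ hf₁ hf₁U
  rw [hef j] at hj
  have hr₁1 : r₁ = 1 := by
    by_cases hji : j = i
    · subst hji
      rw [hui, add_neg_cancel, add_zero, neg_eq_zero] at hj
      by_contra hne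
      exact ln_ne hr₁ hne hj
    · exfalso
      rw [hr₁.2.2 j hji, hr.2.2 j hji, neg_zero, zero_add, add_zero] at hj
      exact (h.uv_ln hv hu j).2 hj
  rw [hr₁1, one_mul] at he₁
  have h1 : v * u⁻¹ = f * f₁⁻¹ := by
    have c1 : r * f = f * r := h.comm (h.ln_le_V i hr) (h.FV hf)
    rw [← he₁, he, c1]; group
  rw [h1]
  exact mul_mem hf (inv_mem hf₁)

/-- **Every vector of `SS` is a full vector of `U`.** -/
theorem mem_full [Finite G] {v : G} (hv : v ∈ SS) : v ∈ U ∧ ∀ j, M.e v j 1 = 0 ∧ M.e v j ≠ 0 := by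
  set T : Set G := {x | ∃ v ∈ SS, ∃ u, h.Uv v u ∧ x = v * u⁻¹} with hT
  have hTF : closure T ≤ F := by
    rw [closure_le]
    rintro _ ⟨v, hv, u, hu, rfl⟩
    exact h.uv_mem hv hu
  have hTS : S ≤ normalizer (closure T : Set G) := by
    intro s hs
    apply mem_normalizer_of_cj_le
    change (closure T).map _ ≤ _
    rw [MonoidHom.map_closure, closure_le]
    rintro _ ⟨_, ⟨v, hv, u, hu, rfl⟩, rfl⟩
    refine subset_closure ⟨s * v * s⁻¹, h.SSS s hs v hv, s * u * s⁻¹, h.uv_cj hs hu, ?_⟩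
    change s * (v * u⁻¹) * s⁻¹ = _
    group
  have hbot : closure T = ⊥ := by
    by_contra hne
    obtain ⟨x, hx, hx1, hxS⟩ := NoFF.LinesPlug.exists_fixed h.two (hTF.trans (h.FV.trans h.VS)) hTS hne
    exact hx1 (h.ZF x (hTF hx) hxS)
  obtain ⟨u, hu⟩ := h.exists_uv hv
  have h1 : v * u⁻¹ ∈ closure T := subset_closure ⟨v, hv, u, hu, rfl⟩
  rw [hbot, mem_bot] at h1
  have h2 : v = u := mul_inv_eq_one.1 h1
  rw [h2]
  exact ⟨hu.1, h.uv_ln hv hu⟩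

end In

end Cfsg.Agent.Omega.NOThreeL.Low.EqEnd
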