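import Cfsg.Agent.Omega.NOThreeL.NF.Nat

/-!
# THEOREM LOW (#19191): the full-support vectors of a natural line

`M : NatKM F S P V ⊥ k`, `1 ≠ Ω₁(Z(S)) ≤ V`.  A *point* of the line `V` is `Z^p`, `p ∈ P`, `Z = zc S`.

* `full_of_zc` : all components of `1 ≠ z ∈ Z` are nonzero, with second coordinate 0;
* `exists_conj` : a vector of `V` with all components nonzero is `p z p⁻¹`, `p ∈ P`, `z ∈ Z` arbitrary;
* `mem_pt` : it lies in a point;
* `exists_zero` : if `D` meets no point of `V`, then every vector of `D ∩ V` has a component 0;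
* `blk`, `card_blk` : the `j`-th summand, of order `|F|²`;
* `exists_full_of_blk` : if `D` meets all summands, then it has a vector with full support;
* `exists_full` : if `|V : V ∩ D| < |F|²`, then `D` has a vector with full support;
* `exists_full_cj`, `meets_cj`, `false_of_cj` : the same for the line `V^m`.
-/

set_option autoImplicit false

namespace Cfsg.Agent.Omega.NOThreeL.Low.Full

open Subgroup Cfsg Cfsg.Agent.ZN Cfsg.Agent.ZN.ChoiceBase
open Cfsg.Agent.Omega.FFThm (NatKM)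
open Cfsg.Agent.Omega.NOThreeL.NF Cfsg.Agent.Omega.NOThreeL.NF.NatR
open Cfsg.Agent.Lib.SL2Mat

universe u

variable {G : Type u} [Group G] {F : Type} [Field F] {S P V : Subgroup G} {k : ℕ}

theorem conj_mem_cj {g x : G} {H : Subgroup G} (hx : x ∈ H) : g * x * g⁻¹ ∈ cj g H := by
  rw [mem_cj]
  convert hx using 1
  group

theorem relIndex_ne [Finite G] {H K : Subgroup G} : H.relIndex K ≠ 0 := by
  rw [relIndex]
  exact index_ne_zero_of_finite

theorem full_of_zc (M : NatKM F S P V ⊥ k) (hZV : zc S ≤ V) {z : G} (hz : z ∈ zc S) (hz1 : z ≠ 1) :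
    (∀ j, M.e z j 1 = 0) ∧ ∀ j, M.e z j ≠ 0 := by
  have hzW := hZV hz
  have hcen : ∀ s ∈ S, s * z * s⁻¹ = z := by
    intro s hs
    rw [(ChoiceBase.mem_zc.1 hz).2.2 s hs]
    group
  refine ⟨fun j => ?_, fun j h0 => hz1 ?_⟩
  · obtain ⟨s, hs, hac⟩ := M.unip fun _ => 1
    have h1 := hac.1 z hzW j
    rw [hcen s hs, ap_up] at h1
    have h2 := congrFun h1 0
    simp only [Matrix.cons_val_zero, one_mul] at h2
    exact left_eq_add.1 h2
  · refine e_inj (M := M) hzW (one_mem _) ?_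
    rw [e_one]
    funext j'
    obtain ⟨s, hs, h1⟩ := M.trans j j'
    have h2 := (h1 z hzW).2 h0
    rwa [hcen s hs] at h2

/-- A full-support vector is conjugate to `z`. -/
theorem exists_conj (M : NatKM F S P V ⊥ k) (hPV : P ≤ normalizer (V : Set G)) (hZV : zc S ≤ V) {z : G}
    (hz : z ∈ zc S) (hz1 : z ≠ 1) {v : G} (hv : v ∈ V) (h : ∀ j, M.e v j ≠ 0) : ∃ p ∈ P, v = p * z * p⁻¹ :=
  conj_of (M := M) hPV (hZV hz) hv (full_of_zc M hZV hz hz1).2 h

/-- A full-support vector lies in a point of the line. -/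
theorem mem_pt (M : NatKM F S P V ⊥ k) (hPV : P ≤ normalizer (V : Set G)) (hZV : zc S ≤ V) (hZ1 : zc S ≠ ⊥)
    {v : G} (hv : v ∈ V) (h : ∀ j, M.e v j ≠ 0) : ∃ p ∈ P, v ∈ cj p (zc S) := by
  obtain ⟨z, hz, hz1⟩ := (zc S).bot_or_exists_ne_one.resolve_left hZ1
  obtain ⟨p, hp, h1⟩ := exists_conj M hPV hZV hz hz1 hv h
  exact ⟨p, hp, h1 ▸ conj_mem_cj hz⟩

/-- `D` meets no point: `D ∩ V` has no vector with full support. -/
theorem exists_zero (M : NatKM F S P V ⊥ k) (hPV : P ≤ normalizer (V : Set G)) (hZV : zc S ≤ V)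
    (hZ1 : zc S ≠ ⊥) (hk : 0 < k) {D : Subgroup G} (hD : ∀ p ∈ P, ∀ v ∈ cj p (zc S), v ∈ D → v = 1)
    {v : G} (hv : v ∈ V) (hvD : v ∈ D) : ∃ j, M.e v j = 0 := by
  by_contra hcon
  push Not at hcon
  obtain ⟨p, hp, h1⟩ := mem_pt M hPV hZV hZ1 hv hcon
  have h2 := hD p hp v h1 hvD
  rw [h2, e_one] at hcon
  exact hcon ⟨0, hk⟩ rfl

/-- the `j`-th summand -/
def blk (M : NatKM F S P V ⊥ k) (j : Fin k) : Subgroup G where
  carrier := {v | v ∈ V ∧ ∀ l, l ≠ j → M.e v l = 0}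
  one_mem' := ⟨one_mem _, fun l _ => by rw [e_one]; rfl⟩
  mul_mem' := fun {v w} hv hw => ⟨mul_mem hv.1 hw.1, fun l hl => by
    rw [M.mul v hv.1 w hw.1, Pi.add_apply, hv.2 l hl, hw.2 l hl, add_zero]⟩
  inv_mem' := fun {v} hv => ⟨inv_mem hv.1, fun l hl => by
    rw [e_inv hv.1, Pi.neg_apply, hv.2 l hl, neg_zero]⟩

theorem mem_blk {M : NatKM F S P V ⊥ k} {j : Fin k} {v : G} :
    v ∈ blk M j ↔ v ∈ V ∧ ∀ l, l ≠ j → M.e v l = 0 := Iff.rfl

theorem blk_le {M : NatKM F S P V ⊥ k} (j : Fin k) : blk M j ≤ V := fun _ hv => hv.1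

theorem card_blk (M : NatKM F S P V ⊥ k) (j : Fin k) : Nat.card (blk M j) = Nat.card F ^ 2 := by
  have h1 : Nat.card (blk M j) = Nat.card (Fin 2 → F) :=
    Nat.card_congr (Equiv.ofBijective (fun v : blk M j => M.e (v : G) j)
      ⟨fun v w h => Subtype.ext (e_inj (M := M) v.2.1 w.2.1 (by
        funext l
        by_cases hl : l = j
        · subst hl; exact h
        · rw [v.2.2 l hl, w.2.2 l hl])), fun x => by
        obtain ⟨v, hv, h1, h2⟩ := NatR.exists_pt (M := M) j x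
        exact ⟨⟨v, hv, h2⟩, h1⟩⟩)
  rw [h1, Nat.card_fun, Nat.card_fin]

/-- `D` meets all summands: it has a vector with full support. -/
theorem exists_full_of_blk (M : NatKM F S P V ⊥ k) {D : Subgroup G}
    (hD : ∀ j, ∃ v ∈ blk M j, v ∈ D ∧ v ≠ 1) : ∃ v ∈ V, v ∈ D ∧ ∀ j, M.e v j ≠ 0 := by
  classical
  have key : ∀ s : Finset (Fin k), ∃ v ∈ V, v ∈ D ∧ (∀ j ∈ s, M.e v j ≠ 0) ∧ ∀ j, j ∉ s → M.e v j = 0 := by
    intro s
    induction s using Finset.induction_on with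
    | empty => exact ⟨1, one_mem _, one_mem _, fun j hj => absurd hj (Finset.notMem_empty j),
        fun j _ => by rw [e_one]; rfl⟩
    | insert i s hi ih =>
      obtain ⟨v, hv, hvD, h1, h2⟩ := ih
      obtain ⟨w, ⟨hw, hw2⟩, hwD, hw1⟩ := hD i
      refine ⟨v * w, mul_mem hv hw, mul_mem hvD hwD, fun j hj => ?_, fun j hj => ?_⟩
      · rw [M.mul v hv w hw, Pi.add_apply]
        by_cases hji : j = i
        · subst hji
          rw [h2 j hi, zero_add]
          intro h0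
          refine hw1 (e_inj (M := M) hw (one_mem _) ?_)
          rw [e_one]
          funext l
          by_cases hl : l = j
          · rw [hl, h0]; rfl
          · rw [hw2 l hl]; rfl
        · rw [hw2 j hji, add_zero]
          exact h1 j ((Finset.mem_insert.1 hj).resolve_left hji)
      · rw [Finset.mem_insert, not_or] at hj
        rw [M.mul v hv w hw, Pi.add_apply, h2 j hj.2, hw2 j hj.1, add_zero]
  obtain ⟨v, hv, hvD, h1, -⟩ := key Finset.univ
  exact ⟨v, hv, hvD, fun j => h1 j (Finset.mem_univ j)⟩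

/-- `|V : V ∩ D| < |F|²`: `D` has a vector with full support. -/
theorem exists_full [Finite G] (M : NatKM F S P V ⊥ k) {D : Subgroup G} (hD : D.relIndex V < Nat.card F ^ 2) :
    ∃ v ∈ V, v ∈ D ∧ ∀ j, M.e v j ≠ 0 := by
  refine exists_full_of_blk M fun j => ?_
  by_contra hcon
  push Not at hcon
  have h1 : D ⊓ blk M j = ⊥ := by
    rw [eq_bot_iff]
    exact fun v hv => mem_bot.2 (hcon v hv.2 hv.1)
  have h2 : D.relIndex (blk M j) = Nat.card F ^ 2 := by
    rw [← inf_relIndex_right, h1, relIndex_bot_left, card_blk]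
  have h3 := relIndex_le_of_le_right (H := D) (blk_le (M := M) j) relIndex_ne
  omega

/-! ### The line `V^m` -/

theorem exists_full_cj [Finite G] (M : NatKM F S P V ⊥ k) (hPV : P ≤ normalizer (V : Set G)) (hZV : zc S ≤ V)
    {z : G} (hz : z ∈ zc S) (hz1 : z ≠ 1) {D : Subgroup G} {m : G} (hD : D.relIndex (cj m V) < Nat.card F ^ 2) :
    ∃ p ∈ P, m * p * z * (m * p)⁻¹ ∈ D := by
  have h1 : (cj m⁻¹ D).relIndex V < Nat.card F ^ 2 := by
    have h2 : (cj m⁻¹ D).relIndex (cj m⁻¹ (cj m V)) = D.relIndex (cj m V) := by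
      rw [cj, cj, relIndex_map_map_of_injective _ _ (MulAut.conj m⁻¹).injective]
    rw [← h2, cj_inv_cj] at hD
    exact hD
  obtain ⟨v, hv, hvD, h3⟩ := exists_full M h1
  obtain ⟨p, hp, h4⟩ := exists_conj M hPV hZV hz hz1 hv h3
  refine ⟨p, hp, ?_⟩
  have h5 := conj_mem_cj (g := m) hvD
  rw [cj_cj_inv, h4] at h5
  convert h5 using 1
  group

/-- `D` meets a point of `V^m` if `|V^m : V^m ∩ D| < |F|²`. -/
theorem meets_cj [Finite G] (M : NatKM F S P V ⊥ k) (hPV : P ≤ normalizer (V : Set G)) (hZV : zc S ≤ V)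
    (hZ1 : zc S ≠ ⊥) {D : Subgroup G} {m : G} (hD : D.relIndex (cj m V) < Nat.card F ^ 2) :
    ∃ p ∈ P, ∃ v ∈ cj (m * p) (zc S), v ∈ D ∧ v ≠ 1 := by
  obtain ⟨z, hz, hz1⟩ := (zc S).bot_or_exists_ne_one.resolve_left hZ1
  obtain ⟨p, hp, h⟩ := exists_full_cj M hPV hZV hz hz1 hD
  exact ⟨p, hp, _, conj_mem_cj hz, h, fun h1 => hz1 (conj_eq_one_iff.1 h1)⟩

/-- The last line of (END): `V^m ≤ I`, `|I : D| ≤ q`, no point of `V^m` meets `D`. -/
theorem false_of_cj [Finite G] [Finite F] (M : NatKM F S P V ⊥ k) (hPV : P ≤ normalizer (V : Set G))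
    (hZV : zc S ≤ V) (hZ1 : zc S ≠ ⊥) {D I : Subgroup G} {m : G} (hI : cj m V ≤ I)
    (hD : D.relIndex I ≤ Nat.card F) (hno : ∀ p ∈ P, ∀ v ∈ cj (m * p) (zc S), v ∈ D → v = 1) : False := by
  have h1 := relIndex_le_of_le_right (H := D) hI relIndex_ne
  have h2 : 1 < Nat.card F := Finite.one_lt_card
  have h3 : D.relIndex (cj m V) < Nat.card F ^ 2 := by nlinarith
  obtain ⟨p, hp, v, hv, hvD, hv1⟩ := meets_cj M hPV hZV hZ1 h3
  exact hv1 (hno p hp v hv hvD)

end Cfsg.Agent.Omega.NOThreeL.Low.Full
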