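import Cfsg.Agent.Omega.NOThreeL.Low.Defs
import Cfsg.Agent.Omega.NOThreeL.AFour.Final

/-!
# THEOREM LOW (#19191), the glue

* `low_of` : `StP1`, …, `StP9c` give `V* = ⟨Z^M₀⟩ ≤ Q` in NO-3L with `C_Z(P) = 1`;
* `low` : the socket `Merge.LOW K`.
-/

set_option autoImplicit false

namespace Cfsg.Agent.Omega.NOThreeL.Low

open Subgroup Cfsg Cfsg.Agent.ZN Cfsg.Agent.Omega.MinPar Cfsg.Agent.Omega.Frame Cfsg.Agent.Omega.FrameNOFF
open Cfsg.Agent.Omega.NOThreeL.Basic (DataZ CaseA WP caseA_iff)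
open Cfsg.Agent.Omega.NOThreeL.Merge (MZ)
open Cfsg.Agent.Omega.NOne.Flat (Hyp EE WW NN BadX)
open Cfsg.Agent.Omega.FFThm (OffM NatKM SymKM)

universe u

/-- All parts. -/
structure Parts : Prop where
  p1 : StP1.{u}
  p2 : StP2.{u}
  p5 : StP5.{u}
  p6 : StP6.{u}
  p7a : StP7a.{u}
  p7b : StP7b.{u}
  p8 : StP8.{u}
  p9a : StP9a.{u}
  p9b : StP9b.{u}
  p9c : StP9c.{u}

variable {G : Type u} [Group G] [Finite G] {S : Sylow 2 G}

/-- There is no situation `Sit`. -/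
theorem sit_false (T : Parts.{u}) {V F B P R : Subgroup G} {p : G} (s : Sit S V F B P R p) : False := by
  obtain ⟨A, hA, hoff⟩ := T.p5 G S V F B P R p s
  have hSP : (S : Subgroup G) ≤ P := s.hP.le
  have hcon := (FFBr.ffthmM G S P (FFThm.syl_of_sylow S hSP) s.hP.toIsMinPar (s.hP.isLoc.char2 S s.ctx.char2)
    ⟨A, hA, hoff⟩).2
  have hcv := s.D.cv_eq s.ctx.char2 s.hP
  rcases hcon with ⟨K, _, _, _, k, hk, ⟨N⟩⟩ | ⟨k, m, hk, hm, ⟨N⟩⟩
  · rw [hcv] at N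
    obtain ⟨i, β, n⟩ := T.p7b G S V F B P R p s K k N hk fun i hi b hb => T.p7a G S V F B P R p s K k N i hi b hb
    have ht := T.p8 G S V F B P R p K k N i β n
    have hce := T.p9a G S V F B P R p K k N i β n
    exact T.p9c G S V F B P R p K k N i β n (T.p9b G S V F B P R p K k N i β n ht hce)
  · rw [hcv] at N
    exact T.p6 G S V F B P R p s k m hk hm N

/-- **THEOREM LOW.** -/
theorem low_of (T : Parts.{u}) (hG : Ctx G) (hF : Full (S : Subgroup G)) (D : DataZ (S : Subgroup G)) :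
    zl (S : Subgroup G) (MZ (S : Subgroup G)) ≤ o2 (CZ (S : Subgroup G)) := by
  by_contra hlow
  have hA : ¬ CaseA (S : Subgroup G) := by
    rintro ⟨P, H, h1, h2, h3⟩
    exact AFour.no_A hG D ⟨h1, h2, h3⟩
  obtain ⟨V, F, hf⟩ := T.p1 G hG S hF D hlow
  obtain ⟨V, F, B, P, R, p, s⟩ := T.p2 G hG S hF D hA V F hf
  exact sit_false T s

/-- **The socket `Merge.LOW`.** -/
theorem low (T : Parts.{u}) (K : Cls.{u}) : Merge.LOW K :=
  fun _ _ _ hG _ _ hF D _ h => absurd (low_of T hG hF D) h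

end Cfsg.Agent.Omega.NOThreeL.Low
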