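import Cfsg.Agent.ZN.ChoiceBase

/-!
# LEMMA Y of THEOREM LOW (#19093 (7), helper876), abstract form

`P`, `P₀` act on the abelian group `M`, `b ≤ M` is `P₀`-invariant, `W ≤ S ≤ P ⊓ P₀`, all conjugates `W^g` (`g ∈ P`)
lie in `S`, `M = b C_M(W)`, `[M, W] ≤ ρ ≤ b`, `C_M(s) = C_M(W)` for `s ∈ W` moving `M`, `C_M(⟨W^{P₀}⟩) = 1`.
If every `W^g` (`g ∈ P`) which moves `b` has its centre `ρ^g` in `ρ^S`, if its axis `C_b(W^g)` depends only on the
centre and if two axes with different centres generate `b`, then `P` permutes `ρ^S`.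

No blocks, no fields: `natural^k` and `S_n^k` are treated together.
-/

set_option autoImplicit false

namespace Cfsg.Agent.Omega.NOThreeL.Low.LemY

open Subgroup
open Cfsg.Agent.ZN.ChoiceBase

universe u

variable {G : Type u} [Group G]

/-- `[g, x] = g x g⁻¹ x⁻¹` -/
def dl (g x : G) : G := g * x * g⁻¹ * x⁻¹

theorem dl_eq_one {g x : G} : dl g x = 1 ↔ g * x = x * g := by
  unfold dl
  constructor
  · intro h
    have h1 : g * x * g⁻¹ = x := by rw [mul_inv_eq_one] at h; exact h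
    calc g * x = g * x * g⁻¹ * g := by group
      _ = x * g := by rw [h1]
  · intro h
    rw [h]; group

theorem conj_eq (g x : G) : g * x * g⁻¹ = dl g x * x := by unfold dl; group

theorem mem_conj {M : Subgroup G} {g x : G} (hg : g ∈ normalizer (M : Set G)) (hx : x ∈ M) :
    g * x * g⁻¹ ∈ M := (mem_normalizer_iff.1 hg x).1 hx

theorem dl_mem {M : Subgroup G} {g x : G} (hg : g ∈ normalizer (M : Set G)) (hx : x ∈ M) : dl g x ∈ M :=
  mul_mem (mem_conj hg hx) (inv_mem hx)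

theorem mcomm {M : Subgroup G} (hM : M ≤ centralizer (M : Set G)) {x y : G} (hx : x ∈ M) (hy : y ∈ M) :
    x * y = y * x := mem_centralizer_iff.1 (hM hy) x hx

theorem dl_mul {M : Subgroup G} (hM : M ≤ centralizer (M : Set G)) {g x y : G}
    (hg : g ∈ normalizer (M : Set G)) (hx : x ∈ M) (hy : y ∈ M) : dl g (x * y) = dl g x * dl g y := by
  have h1 : g * (x * y) * g⁻¹ = (g * x * g⁻¹) * (g * y * g⁻¹) := by group
  have h2 : dl g y * x⁻¹ = x⁻¹ * dl g y := mcomm hM (dl_mem hg hy) (inv_mem hx)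
  calc dl g (x * y) = (g * x * g⁻¹) * (g * y * g⁻¹) * (x * y)⁻¹ := by unfold dl; rw [h1]
    _ = (g * x * g⁻¹) * (dl g y * x⁻¹) := by unfold dl; group
    _ = (g * x * g⁻¹) * (x⁻¹ * dl g y) := by rw [h2]
    _ = dl g x * dl g y := by rw [← mul_assoc]; rfl

/-- The hypotheses of LEMMA Y. -/
structure Hyp (S P P₀ W M b ρ : Subgroup G) : Prop where
  SP : S ≤ P
  SP₀ : S ≤ P₀
  PM : P ≤ normalizer (M : Set G)
  P₀M : P₀ ≤ normalizer (M : Set G)
  P₀b : P₀ ≤ normalizer (b : Set G)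
  bM : b ≤ M
  comm : M ≤ centralizer (M : Set G)
  sq : ∀ x ∈ b, x * x = 1
  /-- `(S, P)` is not active: `W ≤ O₂(P) ≤ S` -/
  WS : ∀ g ∈ P, cj g W ≤ S
  /-- `M = b C_M(W)` -/
  cov : M ≤ b ⊔ (M ⊓ centralizer (W : Set G))
  /-- `C_M(s) = C_M(W)` -/
  cs : ∀ s ∈ W, s ∉ centralizer (M : Set G) → ∀ x ∈ M, s * x = x * s → x ∈ centralizer (W : Set G)
  /-- `[M, W] ≤ ρ` -/
  rho : ∀ s ∈ W, ∀ x ∈ M, dl s x ∈ ρ
  rho_b : ρ ≤ b
  rho_W : ρ ≤ centralizer (W : Set G)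
  /-- `P₀ = ⟨W^{P₀}⟩ S` -/
  gen : P₀ ≤ S ⊔ ⨆ g : P₀, cj (g : G) W
  /-- `C_M(⟨W^{P₀}⟩) = 1` -/
  fix : ∀ x ∈ M, (∀ g ∈ P₀, ∀ s ∈ cj g W, s * x = x * s) → x = 1
  /-- `C_S(b)` is a normal Sylow subgroup of `C_{P₀}(b)` -/
  odd : ∀ c ∈ P₀, c ∈ centralizer (b : Set G) → ∃ k : ℕ, Odd k ∧ c ^ k ∈ S
  /-- (i) -/
  cen : ∀ g ∈ P, ¬ cj g W ≤ centralizer (b : Set G) → ∃ s ∈ S, cj g ρ = cj s ρ
  /-- the axis depends only on the centre -/
  ax : ∀ g ∈ P, ∀ g' ∈ P, ¬ cj g W ≤ centralizer (b : Set G) → ¬ cj g' W ≤ centralizer (b : Set G) →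
    cj g ρ = cj g' ρ → b ⊓ centralizer (cj g W : Set G) ≤ centralizer (cj g' W : Set G)
  /-- different axes generate `b` -/
  sum : ∀ g ∈ P, ∀ g' ∈ P, ¬ cj g W ≤ centralizer (b : Set G) → ¬ cj g' W ≤ centralizer (b : Set G) →
    cj g ρ ≠ cj g' ρ → b ≤ (b ⊓ centralizer (cj g W : Set G)) ⊔ (b ⊓ centralizer (cj g' W : Set G))

/-- `L₀ = ⟨W^{P₀}⟩` -/
def LZ (P₀ W : Subgroup G) : Subgroup G := ⨆ g : P₀, cj (g : G) W

theorem mem_LZ {P₀ W : Subgroup G} {g l : G} (hg : g ∈ P₀) (hl : l ∈ cj g W) : l ∈ LZ P₀ W :=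
  (le_iSup (fun g : P₀ => cj (g : G) W) ⟨g, hg⟩) hl

theorem P₀_norm_LZ (P₀ W : Subgroup G) : P₀ ≤ normalizer (LZ P₀ W : Set G) := by
  intro p hp
  rw [mem_normalizer_iff_cj]
  have key : ∀ q ∈ P₀, cj q (LZ P₀ W) ≤ LZ P₀ W := by
    intro q hq
    unfold LZ
    rw [cj, Subgroup.map_iSup]
    refine iSup_le fun g => ?_
    have h1 := cj_cj q (g : G) W
    rw [show Subgroup.map (MulAut.conj q).toMonoidHom (cj (g : G) W) = cj q (cj (g : G) W) from rfl, h1]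
    exact le_iSup (fun g : P₀ => cj (g : G) W) ⟨q * g, mul_mem hq g.2⟩
  refine le_antisymm (key p hp) ?_
  have h2 := cj_mono p (key p⁻¹ (inv_mem hp))
  rwa [cj_cj_inv] at h2

namespace Hyp

variable {S P P₀ W M b ρ : Subgroup G} (h : Hyp S P P₀ W M b ρ)
include h

theorem WS' : W ≤ S := by
  have := h.WS 1 (one_mem _)
  rwa [cj_one] at this

theorem mc {x y : G} (hx : x ∈ M) (hy : y ∈ M) : x * y = y * x := mcomm h.comm hx hy

/-- `L₀` centralises `M / b`. -/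
theorem dl_b {l x : G} (hl : l ∈ LZ P₀ W) (hx : x ∈ M) : dl l x ∈ b := by
  have hLP : LZ P₀ W ≤ P₀ := iSup_le fun g => by
    have h1 := cj_mono (g : G) (h.WS'.trans h.SP₀)
    rwa [cj_eq_of_mem_normalizer (le_normalizer g.2)] at h1
  -- the subgroup of elements of `P₀` acting trivially on `M / b`
  let K : Subgroup G :=
    { carrier := {l | l ∈ P₀ ∧ ∀ x ∈ M, dl l x ∈ b}
      one_mem' := ⟨one_mem _, fun x _ => by
        have : dl 1 x = 1 := by simp [dl]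
        rw [this]; exact one_mem _⟩
      mul_mem' := by
        rintro a c ⟨ha, ha'⟩ ⟨hc, hc'⟩
        refine ⟨mul_mem ha hc, fun x hx => ?_⟩
        have e : dl (a * c) x = dl a (c * x * c⁻¹) * dl c x := by unfold dl; group
        rw [e]
        exact mul_mem (ha' _ (mem_conj (h.P₀M hc) hx)) (hc' x hx)
      inv_mem' := by
        rintro a ⟨ha, ha'⟩
        refine ⟨inv_mem ha, fun x hx => ?_⟩
        have hx' : a⁻¹ * x * a⁻¹⁻¹ ∈ M := mem_conj (h.P₀M (inv_mem ha)) hx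
        have h1 := ha' _ hx'
        have e : dl a⁻¹ x = (dl a (a⁻¹ * x * a⁻¹⁻¹))⁻¹ := by unfold dl; group
        rw [e]
        exact inv_mem h1 }
  have hK : LZ P₀ W ≤ K := by
    refine iSup_le fun g => ?_
    intro t ht
    rw [mem_cj] at ht
    refine ⟨hLP (mem_LZ g.2 (mem_cj.2 ht)), fun x hx => ?_⟩
    have hx' : (g : G)⁻¹ * x * g ∈ M := by
      have := mem_conj (h.P₀M (inv_mem g.2)) hx
      rwa [inv_inv] at this
    have h1 := h.rho_b (h.rho _ ht _ hx')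
    have h2 := mem_conj (h.P₀b g.2) h1
    have e : (g : G) * dl ((g : G)⁻¹ * t * g) ((g : G)⁻¹ * x * g) * (g : G)⁻¹ = dl t x := by
      unfold dl; group
    rwa [e] at h2
  exact (hK hl).2 x hx

/-- The element `[l, w]` acts on `M` as `x ↦ [l, [w, x]] x`. -/
theorem act {l w x : G} (hl : l ∈ LZ P₀ W) (hlM : l ∈ normalizer (M : Set G)) (hw : w ∈ normalizer (M : Set G))
    (hwb : w ∈ centralizer (b : Set G)) (hww : ∀ x ∈ M, w * dl w x = dl w x * w) (hx : x ∈ M) :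
    (l * w * l⁻¹ * w⁻¹) * x * (l * w * l⁻¹ * w⁻¹)⁻¹ = dl l (dl w x) * x := by
  set a := dl w x with ha
  have haM : a ∈ M := dl_mem hw hx
  have h1 : w⁻¹ * x * w = a⁻¹ * x := by
    have e1 : w * x * w⁻¹ = a * x := conj_eq w x
    have e2 : x = w⁻¹ * (a * x) * w := by rw [← e1]; group
    have e3 : w⁻¹ * a = a * w⁻¹ := by
      have := hww x hx
      rw [← ha] at this
      calc w⁻¹ * a = w⁻¹ * (a * w) * w⁻¹ := by group
        _ = w⁻¹ * (w * a) * w⁻¹ := by rw [this]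
        _ = a * w⁻¹ := by group
    have e4 : x = a * (w⁻¹ * x * w) := by
      calc x = w⁻¹ * (a * x) * w := e2
        _ = (w⁻¹ * a) * x * w := by group
        _ = (a * w⁻¹) * x * w := by rw [e3]
        _ = a * (w⁻¹ * x * w) := by group
    calc w⁻¹ * x * w = a⁻¹ * (a * (w⁻¹ * x * w)) := by group
      _ = a⁻¹ * x := by rw [← e4]
  have haxM : a⁻¹ * x ∈ M := mul_mem (inv_mem haM) hx
  set β := dl l⁻¹ (a⁻¹ * x) with hβ
  have hβb : β ∈ b := h.dl_b (inv_mem hl) haxM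
  have hβM : β ∈ M := h.bM hβb
  have h2 : l⁻¹ * (a⁻¹ * x) * l = β * (a⁻¹ * x) := by
    have := conj_eq l⁻¹ (a⁻¹ * x)
    rwa [inv_inv] at this
  have hwβ : w * β = β * w := (mem_centralizer_iff.1 hwb β hβb).symm
  have hwa : w * a = a * w := hww x hx
  have h3 : w * (β * (a⁻¹ * x)) * w⁻¹ = β * (a⁻¹ * x) * a := by
    have e1 : w * x * w⁻¹ = a * x := conj_eq w x
    have e5 : w * a⁻¹ = a⁻¹ * w := by
      calc w * a⁻¹ = a⁻¹ * (a * w) * a⁻¹ := by group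
        _ = a⁻¹ * (w * a) * a⁻¹ := by rw [hwa]
        _ = a⁻¹ * w := by group
    calc w * (β * (a⁻¹ * x)) * w⁻¹ = (w * β) * a⁻¹ * x * w⁻¹ := by group
      _ = β * (w * a⁻¹) * x * w⁻¹ := by rw [hwβ]; group
      _ = β * a⁻¹ * (w * x * w⁻¹) := by rw [e5]; group
      _ = β * a⁻¹ * (a * x) := by rw [e1]
      _ = β * a⁻¹ * (x * a) := by rw [h.mc haM hx]
      _ = β * (a⁻¹ * x) * a := by group
  have h4 : l * (β * (a⁻¹ * x) * a) * l⁻¹ = (a⁻¹ * x) * (l * a * l⁻¹) := by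
    rw [← h2]; group
  calc (l * w * l⁻¹ * w⁻¹) * x * (l * w * l⁻¹ * w⁻¹)⁻¹
      = l * (w * (l⁻¹ * (w⁻¹ * x * w) * l) * w⁻¹) * l⁻¹ := by group
    _ = (a⁻¹ * x) * (l * a * l⁻¹) := by rw [h1, h2, h3, h4]
    _ = (l * a * l⁻¹) * (a⁻¹ * x) := h.mc haxM (mem_conj hlM haM)
    _ = dl l a * x := by unfold dl; group

/-- `W` moves `b` (if `ρ ≠ 1`). -/
theorem not_le_cb (hρ : ρ ≠ ⊥) : ¬ W ≤ centralizer (b : Set G) := by
  intro hW
  apply hρ
  have h0 : ∀ x ∈ M, x = 1 := by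
    intro x hx
    have hMW : M ≤ centralizer (W : Set G) := by
      refine h.cov.trans (sup_le ?_ inf_le_right)
      intro y hy
      rw [mem_centralizer_iff]
      intro s hs
      exact (mem_centralizer_iff.1 (hW hs) y hy).symm
    refine h.fix x hx fun g hg s hs => ?_
    rw [mem_cj] at hs
    have hx' : g⁻¹ * x * g ∈ M := by
      have := mem_conj (h.P₀M (inv_mem hg)) hx
      rwa [inv_inv] at this
    have h1 := mem_centralizer_iff.1 (hMW hx') _ hs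
    calc s * x = g * ((g⁻¹ * s * g) * (g⁻¹ * x * g)) * g⁻¹ := by group
      _ = g * ((g⁻¹ * x * g) * (g⁻¹ * s * g)) * g⁻¹ := by rw [h1]
      _ = x * s := by group
  rw [eq_bot_iff]
  intro r hr
  exact mem_bot.2 (h0 r (h.bM (h.rho_b hr)))

/-- An element of `C_{P₀}(b)` acting on `M` trivially modulo `b` acts as an element of `S`. -/
theorem exists_y {c : G} (hc : c ∈ LZ P₀ W) (hcP : c ∈ P₀) (hcb : c ∈ centralizer (b : Set G)) :
    ∃ y ∈ S, y ∈ centralizer (b : Set G) ∧ ∀ x ∈ M, y * x * y⁻¹ = c * x * c⁻¹ := by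
  obtain ⟨k, hk, hkS⟩ := h.odd c hcP hcb
  have h2 : ∀ x ∈ M, c * (c * x * c⁻¹) * c⁻¹ = x := by
    intro x hx
    have hb := h.dl_b hc hx
    have e1 : c * dl c x = dl c x * c := (mem_centralizer_iff.1 hcb _ hb).symm
    rw [conj_eq c x]
    calc c * (dl c x * x) * c⁻¹ = (c * dl c x) * x * c⁻¹ := by group
      _ = dl c x * (c * x * c⁻¹) := by rw [e1]; group
      _ = dl c x * (dl c x * x) := by rw [conj_eq c x]
      _ = (dl c x * dl c x) * x := by group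
      _ = x := by rw [h.sq _ hb, one_mul]
  refine ⟨c ^ k, hkS, pow_mem hcb k, fun x hx => ?_⟩
  obtain ⟨m, rfl⟩ := hk
  clear hkS
  induction m with
  | zero => simp
  | succ m ih =>
    have e : c ^ (2 * (m + 1) + 1) * x * (c ^ (2 * (m + 1) + 1))⁻¹ =
        c * (c * (c ^ (2 * m + 1) * x * (c ^ (2 * m + 1))⁻¹) * c⁻¹) * c⁻¹ := by
      have : c ^ (2 * (m + 1) + 1) = c * (c * c ^ (2 * m + 1)) := by
        rw [← pow_succ', ← pow_succ']; congr 1
      rw [this]; group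
    rw [e, ih]
    have hx' : c * x * c⁻¹ ∈ M := mem_conj (h.P₀M hcP) hx
    exact h2 _ hx'

/-- **LEMMA Y**: `P` permutes `ρ^S`. -/
theorem main {p : G} (hp : p ∈ P) : ∃ s ∈ S, cj p ρ = cj s ρ := by
  by_contra hne
  push Not at hne
  have hρ : ρ ≠ ⊥ := by
    rintro rfl
    exact hne 1 (one_mem _) (by
      rw [cj, cj, Subgroup.map_bot, Subgroup.map_bot])
  have hWb := h.not_le_cb hρ
  -- `W^p` centralises `b`
  have hpb : cj p W ≤ centralizer (b : Set G) := by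
    by_contra h1
    obtain ⟨s, hs, h2⟩ := h.cen p hp h1
    exact hne s hs h2
  have hLP : LZ P₀ W ≤ P₀ := iSup_le fun g => by
    have h1 := cj_mono (g : G) (h.WS'.trans h.SP₀)
    rwa [cj_eq_of_mem_normalizer (le_normalizer g.2)] at h1
  -- `w ∈ W`, `x₁ ∈ b` with `[w, x₁] ≠ 1`
  obtain ⟨w, hw, hwb⟩ := SetLike.not_le_iff_exists.1 hWb
  rw [mem_centralizer_iff] at hwb
  push Not at hwb
  obtain ⟨x₁, hx₁, hwx⟩ := hwb
  set w' := p * w * p⁻¹ with hw'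
  have hw'p : w' ∈ cj p W := by
    rw [mem_cj, hw']
    have : p⁻¹ * (p * w * p⁻¹) * p = w := by group
    rwa [this]
  have hw'S : w' ∈ S := h.WS p hp hw'p
  have hw'M : w' ∈ normalizer (M : Set G) := h.P₀M (h.SP₀ hw'S)
  have hpM := h.PM hp
  have hpM' := h.PM (inv_mem hp)
  -- `w'` commutes with `[w', x]`
  have hww : ∀ x ∈ M, w' * dl w' x = dl w' x * w' := by
    intro x hx
    have hx' : p⁻¹ * x * p ∈ M := by
      have := mem_conj hpM' hx
      rwa [inv_inv] at this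
    have h1 := h.rho w hw _ hx'
    have h2 := mem_centralizer_iff.1 (h.rho_W h1) w hw
    have e : dl w' x = p * dl w (p⁻¹ * x * p) * p⁻¹ := by rw [hw']; unfold dl; group
    rw [e, hw']
    calc p * w * p⁻¹ * (p * dl w (p⁻¹ * x * p) * p⁻¹) = p * (w * dl w (p⁻¹ * x * p)) * p⁻¹ := by group
      _ = p * (dl w (p⁻¹ * x * p) * w) * p⁻¹ := by rw [h2]
      _ = p * dl w (p⁻¹ * x * p) * p⁻¹ * (p * w * p⁻¹) := by group
  -- `x₀`
  set x₀ := p * x₁ * p⁻¹ with hx₀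
  have hx₀M : x₀ ∈ M := mem_conj hpM (h.bM hx₁)
  have ha₀ : dl w' x₀ ≠ 1 := by
    rw [Ne, dl_eq_one, hw', hx₀]
    intro h1
    apply hwx
    have h2 : p * (w * x₁) * p⁻¹ = p * (x₁ * w) * p⁻¹ := by
      calc p * (w * x₁) * p⁻¹ = p * w * p⁻¹ * (p * x₁ * p⁻¹) := by group
        _ = p * x₁ * p⁻¹ * (p * w * p⁻¹) := h1
        _ = p * (x₁ * w) * p⁻¹ := by group
    exact (mul_left_cancel (mul_right_cancel h2)).symm
  -- `l`
  obtain ⟨g, hg, l, hl, hla⟩ : ∃ g ∈ P₀, ∃ l ∈ cj g W, l * dl w' x₀ ≠ dl w' x₀ * l := by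
    by_contra hcon
    push Not at hcon
    exact ha₀ (h.fix _ (dl_mem hw'M hx₀M) hcon)
  have hlL : l ∈ LZ P₀ W := mem_LZ hg hl
  have hlM : l ∈ normalizer (M : Set G) := h.P₀M (hLP hlL)
  set c := l * w' * l⁻¹ * w'⁻¹ with hc
  have hcL : c ∈ LZ P₀ W := by
    have h1 : w' * l⁻¹ * w'⁻¹ ∈ LZ P₀ W := mem_conj (P₀_norm_LZ P₀ W (h.SP₀ hw'S)) (inv_mem hlL)
    have e : c = l * (w' * l⁻¹ * w'⁻¹) := by rw [hc]; group
    rw [e]; exact mul_mem hlL h1
  have hcact : ∀ x ∈ M, c * x * c⁻¹ = dl l (dl w' x) * x := fun x hx =>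
    h.act hlL hlM hw'M (hpb hw'p) hww hx
  -- `λ`
  set lam : G → G := fun x => dl l (dl w' x) with hlam
  have lam_b : ∀ x ∈ b, lam x = 1 := by
    intro x hx
    have h1 : dl w' x = 1 := by
      rw [dl_eq_one]
      exact (mem_centralizer_iff.1 (hpb hw'p) x hx).symm
    rw [hlam]
    simp only
    rw [h1]; simp [dl]
  have lam_mul : ∀ x ∈ M, ∀ y ∈ M, lam (x * y) = lam x * lam y := by
    intro x hx y hy
    simp only [hlam]
    rw [dl_mul h.comm hw'M hx hy, dl_mul h.comm hlM (dl_mem hw'M hx) (dl_mem hw'M hy)]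
  have lam_mem : ∀ x ∈ M, lam x ∈ b := fun x hx => h.dl_b hlL (dl_mem hw'M hx)
  have hv₀ : lam x₀ ≠ 1 := by
    simp only [hlam]
    rw [Ne, dl_eq_one]; exact hla
  have hcb : c ∈ centralizer (b : Set G) := by
    rw [mem_centralizer_iff]
    intro x hx
    have h1 := hcact x (h.bM hx)
    have h2 : lam x = 1 := lam_b x hx
    simp only [hlam] at h2
    rw [h2, one_mul] at h1
    calc x * c = c * x * c⁻¹ * c := by rw [h1]
      _ = c * x := by group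
  -- `t`
  obtain ⟨k, hk, t, ht, htv⟩ : ∃ k ∈ P₀, ∃ t ∈ cj k W, t * lam x₀ ≠ lam x₀ * t := by
    by_contra hcon
    push Not at hcon
    exact hv₀ (h.fix _ (h.bM (lam_mem x₀ hx₀M)) hcon)
  -- `k = g₁ s₁`
  obtain ⟨g₁, hg₁, s₁, hs₁, rfl⟩ : ∃ g₁ ∈ LZ P₀ W, ∃ s₁ ∈ S, g₁ * s₁ = k := by
    have h1 := h.gen hk
    rw [show (⨆ g : P₀, cj (g : G) W) = LZ P₀ W from rfl, sup_comm] at h1
    have hSn : S ≤ normalizer (LZ P₀ W : Set G) := h.SP₀.trans (P₀_norm_LZ P₀ W)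
    have h2 : k ∈ ((LZ P₀ W ⊔ S : Subgroup G) : Set G) := h1
    rw [coe_mul_of_right_le_normalizer_left _ _ hSn] at h2
    exact h2
  have hg₁P := hLP hg₁
  have hg₁M := h.P₀M hg₁P
  -- `t' = t^{g₁}`
  set t' := g₁⁻¹ * t * g₁ with ht'
  have ht's : t' ∈ cj s₁ W := by
    rw [← cj_cj, mem_cj] at ht
    exact ht
  set v₁ := g₁⁻¹ * lam x₀ * g₁ with hv₁
  have htv₁ : t' * v₁ ≠ v₁ * t' := by
    intro h1
    apply htv
    calc t * lam x₀ = g₁ * (t' * v₁) * g₁⁻¹ := by rw [ht', hv₁]; group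
      _ = g₁ * (v₁ * t') * g₁⁻¹ := by rw [h1]
      _ = lam x₀ * t := by rw [ht', hv₁]; group
  -- `c' = c^{g₁}`
  set c' := g₁⁻¹ * c * g₁ with hc'
  have hc'L : c' ∈ LZ P₀ W := mul_mem (mul_mem (inv_mem hg₁) hcL) hg₁
  have hc'act : ∀ x ∈ M, c' * x * c'⁻¹ = (g₁⁻¹ * lam x * g₁) * x := by
    intro x hx
    have hgx : g₁ * x * g₁⁻¹ ∈ M := mem_conj hg₁M hx
    have h1 := hcact _ hgx
    have h2 : lam (g₁ * x * g₁⁻¹) = lam x := by
      rw [conj_eq g₁ x, lam_mul _ (dl_mem hg₁M hx) _ hx, lam_b _ (h.dl_b hg₁ hx), one_mul]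
    have h3 : dl l (dl w' (g₁ * x * g₁⁻¹)) = lam x := h2
    rw [h3] at h1
    calc c' * x * c'⁻¹ = g₁⁻¹ * (c * (g₁ * x * g₁⁻¹) * c⁻¹) * g₁ := by rw [hc']; group
      _ = g₁⁻¹ * (lam x * (g₁ * x * g₁⁻¹)) * g₁ := by rw [h1]
      _ = (g₁⁻¹ * lam x * g₁) * x := by group
  have hc'b : c' ∈ centralizer (b : Set G) := by
    rw [mem_centralizer_iff]
    intro x hx
    have h1 := hc'act x (h.bM hx)
    rw [lam_b x hx] at h1
    calc x * c' = (g₁⁻¹ * 1 * g₁) * x * c' := by group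
      _ = c' * x * c'⁻¹ * c' := by rw [h1]
      _ = c' * x := by group
  -- `y ∈ S` acting as `c'`
  obtain ⟨y, hyS, hyb, hyact⟩ := h.exists_y hc'L (hLP hc'L) hc'b
  have hyM := h.P₀M (h.SP₀ hyS)
  have hymu : ∀ x ∈ M, dl y x = g₁⁻¹ * lam x * g₁ := by
    intro x hx
    have h1 := (hyact x hx).trans (hc'act x hx)
    unfold dl
    rw [h1]; group
  -- the subgroup `ker (σ μ)`
  have hcomm_t : ∀ a b : G, t' * a = a * t' → t' * b = b * t' → t' * (a * b) = a * b * t' := by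
    intro a b ha hb
    rw [← mul_assoc, ha, mul_assoc, hb, mul_assoc]
  let K : Subgroup G :=
    { carrier := {x | x ∈ M ∧ t' * dl y x = dl y x * t'}
      one_mem' := ⟨one_mem _, by simp [dl]⟩
      mul_mem' := by
        rintro a b ⟨ha, ha'⟩ ⟨hb, hb'⟩
        refine ⟨mul_mem ha hb, ?_⟩
        rw [dl_mul h.comm hyM ha hb]
        exact hcomm_t _ _ ha' hb'
      inv_mem' := by
        rintro a ⟨ha, ha'⟩
        refine ⟨inv_mem ha, ?_⟩
        have h1 : dl y a⁻¹ = (dl y a)⁻¹ := by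
          have h2 := dl_mul h.comm hyM ha (inv_mem ha)
          rw [mul_inv_cancel] at h2
          have h3 : dl y 1 = 1 := by simp [dl]
          rw [h3] at h2
          exact (inv_eq_of_mul_eq_one_right h2.symm).symm
        rw [h1]
        calc t' * (dl y a)⁻¹ = (dl y a)⁻¹ * (dl y a * t') * (dl y a)⁻¹ := by group
          _ = (dl y a)⁻¹ * (t' * dl y a) * (dl y a)⁻¹ := by rw [ha']
          _ = (dl y a)⁻¹ * t' := by group }
  have hKnot : ¬ M ≤ K := by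
    intro hMK
    have h1 := (hMK hx₀M).2
    rw [hymu x₀ hx₀M] at h1
    exact htv₁ h1
  apply hKnot
  -- the line `b' = b^p`
  set b' := cj p b with hb'
  have hb'M : b' ≤ M := by
    have := cj_mono p h.bM
    rwa [cj_eq_of_mem_normalizer hpM] at this
  have hcov : M ≤ b' ⊔ (M ⊓ centralizer (cj p W : Set G)) := by
    have h1 := cj_mono p h.cov
    rw [cj_eq_of_mem_normalizer hpM, cj, Subgroup.map_sup] at h1
    have h2 : Subgroup.map (MulAut.conj p).toMonoidHom (M ⊓ centralizer (W : Set G)) =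
        M ⊓ centralizer (cj p W : Set G) := by
      have h3 := cj_inf p M (centralizer (W : Set G))
      rw [cj_eq_of_mem_normalizer hpM, cj_centralizer] at h3
      exact h3
    rw [h2] at h1
    exact h1
  -- `C_M(W^p) ≤ K`
  have hK1 : M ⊓ centralizer (cj p W : Set G) ≤ K := by
    rintro x ⟨hx, hxp⟩
    refine ⟨hx, ?_⟩
    have h1 : dl w' x = 1 := by
      rw [dl_eq_one]
      exact mem_centralizer_iff.1 hxp w' hw'p
    have h2 : lam x = 1 := by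
      simp only [hlam]; rw [h1]; simp [dl]
    rw [hymu x hx, h2]; group
  -- elements of `M` commuting with `t'` and `t'' = y⁻¹ t' y` lie in `K`
  have hK2 : ∀ x ∈ M, t' * x = x * t' → (y⁻¹ * t' * y) * x = x * (y⁻¹ * t' * y) → x ∈ K := by
    intro x hx h1 h2
    refine ⟨hx, ?_⟩
    have h3 : t' * (y * x * y⁻¹) = y * x * y⁻¹ * t' := by
      calc t' * (y * x * y⁻¹) = y * ((y⁻¹ * t' * y) * x) * y⁻¹ := by group
        _ = y * (x * (y⁻¹ * t' * y)) * y⁻¹ := by rw [h2]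
        _ = y * x * y⁻¹ * t' := by group
    have h4 : t' * x⁻¹ = x⁻¹ * t' := by
      calc t' * x⁻¹ = x⁻¹ * (x * t') * x⁻¹ := by group
        _ = x⁻¹ * (t' * x) * x⁻¹ := by rw [h1]
        _ = x⁻¹ * t' := by group
    exact hcomm_t _ _ h3 h4
  have hs₂ : y⁻¹ * s₁ ∈ S := mul_mem (inv_mem hyS) hs₁
  have ht'' : y⁻¹ * t' * y ∈ cj (y⁻¹ * s₁) W := by
    rw [← cj_cj, mem_cj]
    have e : (y⁻¹)⁻¹ * (y⁻¹ * t' * y) * y⁻¹ = t' := by group
    rw [e]; exact ht's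
  have hcen : cj (y⁻¹ * s₁) ρ = cj s₁ ρ := by
    rw [← cj_cj]
    refine cj_eq_of_mem_normalizer ?_
    have h1 : cj s₁ ρ ≤ b := by
      have := cj_mono s₁ h.rho_b
      rwa [cj_eq_of_mem_normalizer (h.P₀b (h.SP₀ hs₁))] at this
    have h2 : y⁻¹ ∈ centralizer (cj s₁ ρ : Set G) := centralizer_le h1 (inv_mem hyb)
    exact centralizer_le_normalizer _ h2
  -- the transported hypotheses
  have trans1 : ∀ g : G, cj (p⁻¹ * g) W ≤ centralizer (b : Set G) ↔ cj g W ≤ centralizer (b' : Set G) := by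
    intro g
    rw [← cj_cj, cj_le_iff, inv_inv, cj_centralizer]
  have axp : ∀ g ∈ P, ∀ g' ∈ P, ¬ cj g W ≤ centralizer (b' : Set G) → ¬ cj g' W ≤ centralizer (b' : Set G) →
      cj g ρ = cj g' ρ → b' ⊓ centralizer (cj g W : Set G) ≤ centralizer (cj g' W : Set G) := by
    intro g hg g' hg' h1 h2 h3
    have h4 := h.ax (p⁻¹ * g) (mul_mem (inv_mem hp) hg) (p⁻¹ * g') (mul_mem (inv_mem hp) hg')
      (fun hh => h1 ((trans1 g).1 hh)) (fun hh => h2 ((trans1 g').1 hh)) (by rw [← cj_cj, h3, cj_cj])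
    have h5 := cj_mono p h4
    rw [cj_inf, cj_centralizer, cj_centralizer, ← cj_cj, ← cj_cj, cj_cj_inv, cj_cj_inv] at h5
    exact h5
  have sump : ∀ g ∈ P, ∀ g' ∈ P, ¬ cj g W ≤ centralizer (b' : Set G) → ¬ cj g' W ≤ centralizer (b' : Set G) →
      cj g ρ ≠ cj g' ρ →
      b' ≤ (b' ⊓ centralizer (cj g W : Set G)) ⊔ (b' ⊓ centralizer (cj g' W : Set G)) := by
    intro g hg g' hg' h1 h2 h3
    have h4 := h.sum (p⁻¹ * g) (mul_mem (inv_mem hp) hg) (p⁻¹ * g') (mul_mem (inv_mem hp) hg')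
      (fun hh => h1 ((trans1 g).1 hh)) (fun hh => h2 ((trans1 g').1 hh)) (by
        rw [← cj_cj, ← cj_cj]
        intro h5
        have h6 := congrArg (cj p) h5
        rw [cj_cj_inv, cj_cj_inv] at h6
        exact h3 h6)
    have h5 := cj_mono p h4
    have h6 := Subgroup.map_sup (b ⊓ centralizer (cj (p⁻¹ * g) W : Set G))
      (b ⊓ centralizer (cj (p⁻¹ * g') W : Set G)) (MulAut.conj p).toMonoidHom
    have h7 := cj_inf p b (centralizer (cj (p⁻¹ * g) W : Set G))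
    have h8 := cj_inf p b (centralizer (cj (p⁻¹ * g') W : Set G))
    rw [cj_centralizer, ← cj_cj, cj_cj_inv] at h7 h8
    rw [cj, cj, h6] at h5
    rw [cj] at h7 h8
    rw [← cj_cj, ← cj_cj] at h5
    rw [h7, h8] at h5
    exact h5
  have hpb' : ¬ cj p W ≤ centralizer (b' : Set G) := by
    rw [← trans1, inv_mul_cancel, cj_one]
    exact hWb
  have hnot : ∀ s ∈ S, cj s ρ ≠ cj p ρ := fun s hs h1 => hne s hs h1.symm
  -- the three cases
  refine hcov.trans (sup_le ?_ hK1)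
  by_cases hA : cj s₁ W ≤ centralizer (b' : Set G)
  · by_cases hB : cj (y⁻¹ * s₁) W ≤ centralizer (b' : Set G)
    · intro x hx
      exact hK2 x (hb'M hx) (mem_centralizer_iff.1 (hA ht's) x hx).symm
        (mem_centralizer_iff.1 (hB ht'') x hx).symm
    · refine (sump (y⁻¹ * s₁) (h.SP hs₂) p hp hB hpb' (by rw [hcen]; exact hnot s₁ hs₁)).trans
        (sup_le ?_ ((inf_le_inf_right _ hb'M).trans hK1))
      rintro x ⟨hx, hx2⟩
      exact hK2 x (hb'M hx) (mem_centralizer_iff.1 (hA ht's) x hx).symm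
        (mem_centralizer_iff.1 hx2 _ ht'')
  · refine (sump s₁ (h.SP hs₁) p hp hA hpb' (hnot s₁ hs₁)).trans
        (sup_le ?_ ((inf_le_inf_right _ hb'M).trans hK1))
    rintro x ⟨hx, hx2⟩
    refine hK2 x (hb'M hx) (mem_centralizer_iff.1 hx2 _ ht's) ?_
    by_cases hB : cj (y⁻¹ * s₁) W ≤ centralizer (b' : Set G)
    · exact (mem_centralizer_iff.1 (hB ht'') x hx).symm
    · exact mem_centralizer_iff.1 (axp s₁ (h.SP hs₁) (y⁻¹ * s₁) (h.SP hs₂) hA hB hcen.symm ⟨hx, hx2⟩) _ ht''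

end Hyp

end Cfsg.Agent.Omega.NOThreeL.Low.LemY
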