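import Cfsg.Agent.Omega.NOThreeL.NullNff
import Cfsg.Agent.Omega.Spread.OffAll

/-!
# THEOREM LOW (#19191, helper597), (nFF): the bad line `U` is FF

`Flat.Hyp V F`, `X = C_G(F)`, `W = W_F`, `E = V ∩ O₂(X)`, `N = C_W(E)`; `B` abelian, `F ≤ B ≤ W`, `X ≤ N(B)`,
`V ∩ B ≰ F`; `U ≤ V`, `U ≰ E`.

* `relIndex_le` : `|V ∩ B : F| ≤ |B : B ∩ N|`;
* `off` : `U ∩ F = 1`, `B ≤ N(U)`: `|U : C_U(B)| ≤ |B : C_B(U)|` and `[U, B] ≠ 1` (`B` offends on `U`);
* `le_EE_of_inf` : `U = V_P` not FF, `U ≤ O₂(C_G(Z))`, `U ∩ F ≠ 1`: `U ≤ E`;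
* `ff` : **(nFF)** `U = V_P ≰ E` is FF.
-/

set_option autoImplicit false

namespace Cfsg.Agent.Omega.NOThreeL.Low.NonFF

open Subgroup Cfsg
open Cfsg.Agent.ZN (o2 zc zl)
open Cfsg.Agent.Omega.MinPar Cfsg.Agent.Omega.Frame Cfsg.Agent.Omega.FrameNOFF
open Cfsg.Agent.Omega.NO3b.EZero (NotFF)
open Cfsg.Agent.Omega.NO3b.Wc
open Cfsg.Agent.Omega.NoFF.Basic (conj_conj conj_le_iff)
open Cfsg.Agent.Omega.NOThreeL.Pair (conj_eq_of_mem)
open Cfsg.Agent.Omega.NOne.Flat (Hyp EE WW NN BadX conj_eq_of_cent)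
open Cfsg.Agent.Omega.NOne.NearFF (c c_def Near)
open Cfsg.Agent.MinSimple.VModule (le_normalizer_zl)
open scoped Pointwise

universe u

variable {G : Type u} [Group G] [Finite G]

theorem rne (A B : Subgroup G) : A.relIndex B ≠ 0 := index_ne_zero_of_finite

section flat

variable {V F B : Subgroup G} (h : Hyp V F)
include h

omit [Finite G] h in
theorem inf_le_EE (hW : B ≤ WW V F) : V ⊓ B ≤ EE V F :=
  le_inf inf_le_left ((inf_le_right.trans hW).trans Hyp.W_le_R)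

/-- `|V ∩ B : F| ≤ |B : B ∩ N|` -/
theorem relIndex_le (hW : B ≤ WW V F) (hF : F ≤ B) (hX : centralizer (F : Set G) ≤ normalizer (B : Set G)) :
    F.relIndex (V ⊓ B) ≤ (NN V F).relIndex B := by
  obtain ⟨w, hw, hwE⟩ := h.exists_not_mem
  obtain ⟨x, hx, -, hn, -⟩ := h.exists_near hw hwE
  have hxF : MulAut.conj x • F = F := conj_eq_of_cent hx
  have h1 : F.relIndex (V ⊓ B) = F.relIndex (MulAut.conj x • (V ⊓ B)) := by
    have := NOne.Flat.Hyp.relIndex_conj x F (V ⊓ B)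
    rw [hxF] at this
    exact this.symm
  set K : Subgroup G := MulAut.conj x • (V ⊓ B) with hK
  have hKB : K ≤ B := by
    have h2 : MulAut.conj x • B = B := conj_eq_of_mem (hX hx)
    calc K ≤ MulAut.conj x • B := conj_le_iff.2 inf_le_right
      _ = B := h2
  have hKE : K ≤ MulAut.conj x • EE V F := conj_le_iff.2 (inf_le_EE hW)
  have hFK : F ≤ K := by
    rw [← hxF]
    exact conj_le_iff.2 (le_inf h.F_le_V hF)
  have h3 : NN V F ⊓ K = F := by
    refine le_antisymm ?_ (le_inf h.F_le_NN hFK)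
    intro s hs
    obtain ⟨hs1, hs2⟩ := mem_inf.1 hs
    exact hn.inj s (hKE hs2) (h.c_mem_F hw hs1)
  calc F.relIndex (V ⊓ B) = F.relIndex K := h1
    _ = (NN V F ⊓ K).relIndex K := by rw [h3]
    _ = (NN V F).relIndex K := inf_relIndex_right _ _
    _ ≤ (NN V F).relIndex B := relIndex_le_of_le_right hKB (rne _ _)

/-- there is an element of `B - N` -/
theorem exists_not_mem_NN (hW : B ≤ WW V F) (hF : F ≤ B)
    (hX : centralizer (F : Set G) ≤ normalizer (B : Set G)) (hI : ¬ V ⊓ B ≤ F) : ∃ b ∈ B, b ∉ NN V F := by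
  by_contra hcon
  push Not at hcon
  have h1 := relIndex_le h hW hF hX
  rw [relIndex_eq_one.2 hcon] at h1
  exact hI (relIndex_eq_one.1 (le_antisymm h1 (Nat.one_le_iff_ne_zero.2 (rne _ _))))

/-- `B` offends on `U`. -/
theorem off {U : Subgroup G} (hW : B ≤ WW V F) (hF : F ≤ B)
    (hX : centralizer (F : Set G) ≤ normalizer (B : Set G)) (hI : ¬ V ⊓ B ≤ F)
    (hUV : U ≤ V) (hUE : ¬ U ≤ EE V F) (hUF : U ⊓ F = ⊥) (hBU : B ≤ normalizer (U : Set G)) :
    ¬ B ≤ centralizer (U : Set G) ∧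
      (centralizer (B : Set G)).relIndex U ≤ (centralizer (U : Set G)).relIndex B := by
  obtain ⟨b, hb, hbN⟩ := exists_not_mem_NN h hW hF hX hI
  obtain ⟨w, hw, hwE⟩ := SetLike.not_le_iff_exists.1 hUE
  have hcU : ∀ u ∈ U, ∀ s ∈ B, c u s ∈ U := by
    intro u hu s hs
    have h1 := (mem_normalizer_iff.1 (hBU hs) u⁻¹).1 (inv_mem hu)
    have e : c u s = u * (s * u⁻¹ * s⁻¹) := by rw [c_def]; group
    rw [e]
    exact mul_mem hu h1
  have hcB : ∀ u ∈ U, ∀ s ∈ B, c u s ∈ B := by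
    intro u hu s hs
    have h1 := (mem_normalizer_iff.1 (hX (h.V_le_X (hUV hu))) s).1 hs
    have e : c u s = (u * s * u⁻¹) * s⁻¹ := by rw [c_def]
    rw [e]
    exact mul_mem h1 (inv_mem hs)
  have h0 : ∀ y ∈ U, y ∈ F → y = 1 := by
    intro y hy hyF
    have h1 : y ∈ U ⊓ F := mem_inf.2 ⟨hy, hyF⟩
    rw [hUF] at h1
    exact mem_bot.1 h1
  have hcomm : ∀ {u s : G}, c u s = 1 → u * s = s * u := by
    intro u s h1
    rw [c_def, mul_inv_eq_one, mul_inv_eq_iff_eq_mul] at h1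
    exact h1
  refine ⟨fun hcon => hbN ?_, ?_⟩
  · refine (h.c_mem_F_iff (hUV hw) hwE (hW hb)).1 ?_
    have h1 : w * b = b * w := mem_centralizer_iff.1 (hcon hb) w hw
    rw [c_def, h1, mul_inv_cancel_right, mul_inv_cancel]
    exact one_mem _
  · have s1 : (centralizer (B : Set G)).relIndex U ≤ (EE V F).relIndex U := by
      rw [← inf_relIndex_right (EE V F) U]
      refine relIndex_le_of_le_left ?_ (rne _ _)
      intro e he
      obtain ⟨he1, he2⟩ := mem_inf.1 he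
      rw [mem_centralizer_iff]
      intro s hs
      exact (hcomm (h0 _ (hcU e he2 s hs) (h.comm_EW he1 (hW hs)))).symm
    have s2 : (EE V F).relIndex U ≤ F.relIndex (U ⊓ B) := by
      refine NOne.Flat.Cos.le (φ := fun u => c u b) ⟨fun u hu => mem_inf.2 ⟨hcU u hu b hb, hcB u hu b hb⟩, ?_⟩
      intro u hu u' hu'
      have e : (c u b)⁻¹ * c u' b = c (u⁻¹ * u') b := by
        rw [h.c_mul_left (inv_mem (hUV hu)) (hUV hu') (hW hb), h.inv (hUV hu), h.inv (h.c_memV (hUV hu) (hW hb))]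
      change (c u b)⁻¹ * c u' b ∈ F ↔ _
      rw [e]
      constructor
      · intro h1
        by_contra h2
        exact hbN ((h.c_mem_F_iff (mul_mem (inv_mem (hUV hu)) (hUV hu')) h2 (hW hb)).1 h1)
      · intro h1
        exact h.comm_EW h1 (hW hb)
    have s3 : F.relIndex (U ⊓ B) ≤ F.relIndex (V ⊓ B) :=
      relIndex_le_of_le_right (inf_le_inf_right B hUV) (rne _ _)
    have s4 := relIndex_le h hW hF hX
    have s5 : (NN V F).relIndex B ≤ (centralizer (U : Set G)).relIndex B := by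
      rw [← inf_relIndex_right (centralizer (U : Set G)) B]
      refine relIndex_le_of_le_left ?_ (rne _ _)
      intro s hs
      obtain ⟨hs1, hs2⟩ := mem_inf.1 hs
      refine (h.c_mem_F_iff (hUV hw) hwE (hW hs2)).1 ?_
      have h1 : w * s = s * w := mem_centralizer_iff.1 hs1 w hw
      rw [c_def, h1, mul_inv_cancel_right, mul_inv_cancel]
      exact one_mem _
    exact s1.trans (s2.trans (s3.trans (s4.trans s5)))

/-- `U` is FF if `U ∩ F = 1`. -/
theorem ff_of_inf_eq_bot {U : Subgroup G} (hW : B ≤ WW V F) (hF : F ≤ B) (hBc : B ≤ centralizer (B : Set G))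
    (hX : centralizer (F : Set G) ≤ normalizer (B : Set G)) (hI : ¬ V ⊓ B ≤ F)
    (hUV : U ≤ V) (hUE : ¬ U ≤ EE V F) (hUF : U ⊓ F = ⊥) (hBU : B ≤ normalizer (U : Set G)) : ¬ NotFF U := by
  intro hn
  obtain ⟨h1, h2⟩ := off h hW hF hX hI hUV hUE hUF hBU
  refine absurd (hn B ?_ hBU ?_ ?_ h1) (not_lt.2 h2)
  · exact (ZN.isPGroup_o2 _).to_le (hW.trans Hyp.W_le_R)
  · intro a ha
    rw [pow_two, mem_centralizer_iff]
    intro u hu
    exact (Hyp.F_comm (h.sq_W (hW ha)) (h.V_le_X (hUV hu))).symm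
  · intro a ha b hb
    have e : a * b = b * a := (mem_centralizer_iff.1 (hBc ha) b hb).symm
    rw [e, mul_inv_cancel_right, mul_inv_cancel]
    exact one_mem _

end flat

variable {S : Sylow 2 G}

omit [Finite G] in
theorem stmtOff (G : Type u) [Group G] [Finite G] : StmtOff G := fun _ _ h _ hF hE => h.off_all hF hE

/-- `U = V_P` not FF, `U ≤ O₂(C_G(Z))`, `U ∩ F ≠ 1`: `U ≤ E`. -/
theorem le_EE_of_inf (hc : IsCharacteristicTwoType G) {P : Subgroup G} (hP : IsParS (S : Subgroup G) P)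
    (hlow : zl (S : Subgroup G) P ≤ o2 (CZ (S : Subgroup G))) (hn : NotFF (zl (S : Subgroup G) P))
    {V F : Subgroup G} (h : Hyp V F) (hUV : zl (S : Subgroup G) P ≤ V)
    (hUF : zl (S : Subgroup G) P ⊓ F ≠ ⊥) : zl (S : Subgroup G) P ≤ EE V F := by
  have hr := NullNff.root_of_par hc hP hn
  have h1 := hr.good hc (stmtOff G) hlow (F := zl (S : Subgroup G) P ⊓ F) (inf_le_left.trans hr.zl_le_V) hUF
  refine le_inf hUV ?_
  have h2 : centralizer (F : Set G) ≤ centralizer ((zl (S : Subgroup G) P ⊓ F : Subgroup G) : Set G) :=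
    centralizer_le inf_le_right
  exact (le_inf (hr.zl_le_V.trans h1) (hUV.trans h.V_le_X)).trans (o2_inf_le h2)

/-- **(nFF)** the bad line `U = V_P` is FF. -/
theorem ff (hc : IsCharacteristicTwoType G) {P : Subgroup G} (hP : IsParS (S : Subgroup G) P)
    (hlow : zl (S : Subgroup G) P ≤ o2 (CZ (S : Subgroup G))) {V F B : Subgroup G} (h : Hyp V F)
    (hW : B ≤ WW V F) (hF : F ≤ B) (hBc : B ≤ centralizer (B : Set G))
    (hX : centralizer (F : Set G) ≤ normalizer (B : Set G)) (hI : ¬ V ⊓ B ≤ F) (hBS : B ≤ (S : Subgroup G))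
    (hUV : zl (S : Subgroup G) P ≤ V) (hUE : ¬ zl (S : Subgroup G) P ≤ EE V F) :
    ¬ NotFF (zl (S : Subgroup G) P) := by
  intro hn
  by_cases hUF : zl (S : Subgroup G) P ⊓ F = ⊥
  · exact ff_of_inf_eq_bot h hW hF hBc hX hI hUV hUE hUF
      (hBS.trans (hP.le.trans (le_normalizer_zl _ _))) hn
  · exact hUE (le_EE_of_inf hc hP hlow hn h hUV hUF)

end Cfsg.Agent.Omega.NOThreeL.Low.NonFF
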