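import Cfsg.Agent.S1161

/-!
# A normal subgroup of odd order which is transitive on `A#` (bb OMEGA 21762 (0), helper597)

`D ⊴ G` of odd order, `G` faithful on the elementary abelian 2-group `A`, `D` transitive on `A#`: with `K := F(D)` (S1161):
`K ⊴ G` cyclic, `K#` without fixed points, `C_D(K) = K`, `[D, G] ≤ K`.
-/

set_option autoImplicit false

namespace Cfsg.Agent.Omega.NOThreeL.Low.OddTrans

open Subgroup Cfsg

universe u v

theorem le_fitting {G : Type*} [Group G] {N : Subgroup G} (hN : N.Normal)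
    (hn : Group.IsNilpotent N) : N ≤ fittingSubgroup G :=
  le_sSup (a := N) (s := {N : Subgroup G | N.Normal ∧ Group.IsNilpotent N}) ⟨hN, hn⟩

/-- the Fitting subgroup is invariant under automorphisms -/
theorem map_fitting {G : Type*} [Group G] (e : G ≃* G) : (fittingSubgroup G).map e.toMonoidHom ≤ fittingSubgroup G := by
  rw [map_le_iff_le_comap]
  refine sSup_le fun N hN => ?_
  obtain ⟨h1, h2⟩ := hN
  rw [← map_le_iff_le_comap]
  refine le_fitting ?_ ?_
  · exact h1.map _ e.surjective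
  · exact Group.nilpotent_of_mulEquiv (N.equivMapOfInjective e.toMonoidHom e.injective)

/-- a central extension of an abelian group is nilpotent -/
theorem nilpotent_of_comm {C : Type*} [Group C] (h : ∀ a b c : C, (a * b * a⁻¹ * b⁻¹) * c = c * (a * b * a⁻¹ * b⁻¹)) :
    Group.IsNilpotent C := by
  apply Group.of_quotient_center_nilpotent
  let _ : CommGroup (C ⧸ center C) :=
    { mul_comm := fun x y => by
        obtain ⟨a, rfl⟩ := QuotientGroup.mk_surjective x
        obtain ⟨b, rfl⟩ := QuotientGroup.mk_surjective y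
        rw [← QuotientGroup.mk_mul, ← QuotientGroup.mk_mul, eq_comm, QuotientGroup.eq, mem_center_iff]
        intro c
        have h1 := h a⁻¹ b⁻¹ c
        have e : (b * a)⁻¹ * (a * b) = a⁻¹ * b⁻¹ * a⁻¹⁻¹ * b⁻¹⁻¹ := by group
        rw [e]
        exact h1.symm }
  infer_instance

/-- **(0) of #21762** -/
theorem exists_fit {G : Type u} [Group G] [Finite G] {E : Type v} [AddCommGroup E] [Finite E] [Nontrivial E]
    [DistribMulAction G E] (hf : ∀ g : G, (∀ e : E, g • e = e) → g = 1) (h2 : ∀ e : E, e + e = 0) {D : Subgroup G}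
    (hD : D.Normal) (hodd : Odd (Nat.card D)) (htr : ∀ a b : E, a ≠ 0 → b ≠ 0 → ∃ d ∈ D, d • a = b) :
    ∃ K : Subgroup G, K ≤ D ∧ K.Normal ∧ IsCyclic K ∧ (∀ g ∈ K, g ≠ 1 → ∀ a : E, g • a = a → a = 0) ∧
      (∀ d ∈ D, (∀ x ∈ K, x * d = d * x) → d ∈ K) ∧ ∀ d ∈ D, ∀ t : G, t * d * t⁻¹ * d⁻¹ ∈ K := by
  have hfs : FaithfulSMul D E := ⟨fun {x y} hxy => by
    have h3 : ((y : G)⁻¹ * x) = 1 := hf _ fun e => by
      rw [mul_smul, inv_smul_eq_iff]
      exact hxy e
    exact Subtype.ext (inv_mul_eq_one.1 h3).symm⟩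
  obtain ⟨h3, h4, h5⟩ := Cfsg.Agent.S1161.result (D := D) (E := E) hodd Nat.prime_two
    (fun e => by rw [two_nsmul]; exact h2 e) (fun a b ha hb => by
      obtain ⟨d, hd, hdb⟩ := htr a b ha hb
      exact ⟨⟨d, hd⟩, hdb⟩)
  set K : Subgroup G := (fittingSubgroup D).map D.subtype with hK
  have hKD : K ≤ D := map_subtype_le _
  have hmem : ∀ {x : G} (hx : x ∈ D), x ∈ K ↔ (⟨x, hx⟩ : D) ∈ fittingSubgroup D := by
    intro x hx
    constructor
    · rintro ⟨y, hy, hyx⟩
      have : y = ⟨x, hx⟩ := Subtype.ext hyx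
      rwa [← this]
    · intro h
      exact ⟨_, h, rfl⟩
  -- `K` is normal
  have hKn : K.Normal := by
    refine ⟨fun n hn g => ?_⟩
    have hnD := hKD hn
    have hgD : g * n * g⁻¹ ∈ D := hD.conj_mem n hnD g
    rw [hmem hgD]
    have h6 := map_fitting (G := D) (MulAut.conjNormal g)
    exact h6 ⟨⟨n, hnD⟩, (hmem hnD).1 hn, Subtype.ext rfl⟩
  have hKc : IsCyclic K := by
    have e := (fittingSubgroup D).equivMapOfInjective D.subtype D.subtype_injective
    exact isCyclic_of_surjective e.toMonoidHom e.surjective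
  have hcomm : ∀ x ∈ K, ∀ y ∈ K, x * y = y * x := by
    intro x hx y hy
    obtain ⟨z, hz⟩ := hKc.exists_generator
    obtain ⟨n, hn⟩ := mem_zpowers_iff.1 (hz ⟨x, hx⟩)
    obtain ⟨m, hm⟩ := mem_zpowers_iff.1 (hz ⟨y, hy⟩)
    have h6 : (⟨x, hx⟩ : K) * ⟨y, hy⟩ = ⟨y, hy⟩ * ⟨x, hx⟩ := by
      rw [← hn, ← hm, ← zpow_add, ← zpow_add, add_comm]
    exact congrArg Subtype.val h6
  -- commutators of `D` lie in `K`
  have hcm : ∀ a ∈ D, ∀ b ∈ D, a * b * a⁻¹ * b⁻¹ ∈ K := by
    intro a ha b hb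
    have h6 : (⟨a, ha⟩ : D) * ⟨b, hb⟩ * (⟨a, ha⟩ : D)⁻¹ * (⟨b, hb⟩ : D)⁻¹ ∈ commutator D :=
      commutator_mem_commutator (mem_top _) (mem_top _)
    have h7 := h5 h6
    exact ⟨_, h7, rfl⟩
  -- `C_D(K) = K`
  have hcen : ∀ d ∈ D, (∀ x ∈ K, x * d = d * x) → d ∈ K := by
    intro d hd hdx
    let C : Subgroup D :=
      { carrier := {c | ∀ x ∈ K, x * (c : G) = c * x}
        one_mem' := fun x _ => by
          change x * 1 = 1 * x
          rw [mul_one, one_mul]
        mul_mem' := fun {a b} ha hb x hx => by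
          change x * ((a : G) * b) = a * b * x
          rw [← mul_assoc, ha x hx, mul_assoc, hb x hx, mul_assoc]
        inv_mem' := fun {a} ha x hx => by
          change x * (a : G)⁻¹ = (a : G)⁻¹ * x
          rw [eq_inv_mul_iff_mul_eq, ← mul_assoc, ← ha x hx, mul_assoc, mul_inv_cancel, mul_one] }
    have hCn : C.Normal := by
      refine ⟨fun c hc g x hx => ?_⟩
      have h6 := hc ((g : G)⁻¹ * x * g) (by
        have := hKn.conj_mem x hx ((g : G)⁻¹)
        rwa [inv_inv] at this)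
      change x * ((g : G) * c * (g : G)⁻¹) = (g : G) * c * (g : G)⁻¹ * x
      calc x * ((g : G) * c * (g : G)⁻¹) = g * ((g : G)⁻¹ * x * g * c) * (g : G)⁻¹ := by group
        _ = g * (c * ((g : G)⁻¹ * x * g)) * (g : G)⁻¹ := by rw [h6]
        _ = _ := by group
    have hCnil : Group.IsNilpotent C := by
      apply nilpotent_of_comm
      intro a b c
      have h6 := hcm a a.1.2 b b.1.2
      have h7 := c.2 _ h6
      apply Subtype.ext
      apply Subtype.ext
      exact h7
    exact (hmem hd).2 (le_fitting hCn hCnil hdx)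
  refine ⟨K, hKD, hKn, hKc, ?_, hcen, ?_⟩
  · rintro _ ⟨g, hg, rfl⟩ hg1 a ha
    refine h4 g hg (fun h6 => hg1 ?_) a ha
    rw [h6]; rfl
  · intro d hd t
    apply hcen
    · exact D.mul_mem (hD.conj_mem d hd t) (D.inv_mem hd)
    · -- `t` and `d` induce commuting automorphisms of the cyclic group `K`
      intro x hx
      obtain ⟨⟨z, hz⟩, hgen⟩ := hKc.exists_generator
      have hpow : ∀ g : G, ∃ n : ℤ, ∀ y ∈ K, g * y * g⁻¹ = y ^ n := by
        intro g
        obtain ⟨n, hn⟩ := mem_zpowers_iff.1 (hgen ⟨g * z * g⁻¹, hKn.conj_mem z hz g⟩)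
        have hn' : z ^ n = g * z * g⁻¹ := congrArg Subtype.val hn
        refine ⟨n, fun y hy => ?_⟩
        obtain ⟨m, hm⟩ := mem_zpowers_iff.1 (hgen ⟨y, hy⟩)
        have hm' : z ^ m = y := congrArg Subtype.val hm
        rw [← hm', ← conj_zpow, ← hn', ← zpow_mul, ← zpow_mul, mul_comm]
      obtain ⟨n, hn⟩ := hpow t
      obtain ⟨m, hm⟩ := hpow d
      obtain ⟨n', hn'⟩ := hpow t⁻¹
      obtain ⟨m', hm'⟩ := hpow d⁻¹
      have h6 : t * d * t⁻¹ * d⁻¹ * x * (t * d * t⁻¹ * d⁻¹)⁻¹ = x := by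
        have e1 : d⁻¹ * x * d = x ^ m' := by
          have := hm' x hx
          rwa [inv_inv] at this
        have e2 : ∀ y ∈ K, t⁻¹ * y * t = y ^ n' := by
          intro y hy
          have := hn' y hy
          rwa [inv_inv] at this
        have k1 : x ^ m' ∈ K := K.zpow_mem hx _
        have k2 : (x ^ m') ^ n' ∈ K := K.zpow_mem k1 _
        have k3 : ((x ^ m') ^ n') ^ m ∈ K := K.zpow_mem k2 _
        calc t * d * t⁻¹ * d⁻¹ * x * (t * d * t⁻¹ * d⁻¹)⁻¹ =
            t * (d * (t⁻¹ * (d⁻¹ * x * d) * t) * d⁻¹) * t⁻¹ := by group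
          _ = (((x ^ m') ^ n') ^ m) ^ n := by rw [e1, e2 _ k1, hm _ k2, hn _ k3]
          _ = (((x ^ m') ^ m) ^ n') ^ n := by
              congr 1
              rw [← zpow_mul, mul_comm n' m, zpow_mul]
          _ = x := by
              have f1 : (x ^ m') ^ m = x := by
                rw [← hm _ k1, ← e1]; group
              rw [f1]
              have f2 : t * (x ^ n') * t⁻¹ = (x ^ n') ^ n := hn _ (K.zpow_mem hx _)
              rw [← f2, ← e2 x hx]; group
      have h7 : t * d * t⁻¹ * d⁻¹ * x = x * (t * d * t⁻¹ * d⁻¹) := by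
        rwa [mul_inv_eq_iff_eq_mul] at h6
      exact h7.symm

end Cfsg.Agent.Omega.NOThreeL.Low.OddTrans
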